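import Mathlib
import Cfsg.Agent.H955.Semi
import Cfsg.Agent.S0752
set_option linter.all false

-- part: H955/QBlock
section
/-!
# Invariant blocks of isometries of prime order

`T` is an automorphism of the finite-dimensional space `V` over the finite field `F` with `T ^ r = 1`,
`r` prime, without non-zero fixed vectors; `B` an `ε`-symmetric nondegenerate bilinear form preserved
by `T`.  If every `T`-invariant nondegenerate subspace has even dimension, there is a `T`-invariant
nondegenerate subspace of dimension `c` where `c = i` for `i = orderOf (q : ZMod r)` even and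
`c = 2 * i` for `i` odd.
-/

set_option autoImplicit false

namespace Cfsg.Agent.H955

open Module Polynomial

section Poly

variable {F V : Type*} [Field F] [AddCommGroup V] [Module F V]

/-- the polynomial `p` evaluated at `T` -/
noncomputable def pe (T : V ≃ₗ[F] V) (p : F[X]) : V →ₗ[F] V := aeval (T : Module.End F V) p

theorem pe_mul (T : V ≃ₗ[F] V) (p p' : F[X]) (v : V) : pe T (p * p') v = pe T p (pe T p' v) := by
  simp [pe]

theorem pe_add (T : V ≃ₗ[F] V) (p p' : F[X]) (v : V) : pe T (p + p') v = pe T p v + pe T p' v := by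
  simp [pe]

theorem pe_sub (T : V ≃ₗ[F] V) (p p' : F[X]) (v : V) : pe T (p - p') v = pe T p v - pe T p' v := by
  simp [pe]

@[simp] theorem pe_one (T : V ≃ₗ[F] V) (v : V) : pe T 1 v = v := by
  simp [pe]

@[simp] theorem pe_zero (T : V ≃ₗ[F] V) (v : V) : pe T 0 v = 0 := by
  simp [pe]

@[simp] theorem pe_X (T : V ≃ₗ[F] V) (v : V) : pe T X v = T v := by
  simp [pe]

theorem pe_C (T : V ≃ₗ[F] V) (c : F) (v : V) : pe T (C c) v = c • v := by
  simp [pe, Algebra.algebraMap_eq_smul_one]

theorem pe_comm (T : V ≃ₗ[F] V) (p p' : F[X]) (v : V) :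
    pe T p (pe T p' v) = pe T p' (pe T p v) := by
  rw [← pe_mul, ← pe_mul, mul_comm]

theorem pe_sum (T : V ≃ₗ[F] V) (p : F[X]) (v : V) :
    pe T p v = ∑ j ∈ Finset.range (p.natDegree + 1), p.coeff j • (T ^ j) v := by
  have h : ∀ j : ℕ, ((T : Module.End F V) ^ j) v = (T ^ j) v := by
    intro j
    induction j generalizing v with
    | zero => rfl
    | succ j ih => rw [pow_succ, pow_succ, Module.End.mul_apply, LinearEquiv.mul_apply, ih]; rfl
  rw [pe, aeval_eq_sum_range, LinearMap.sum_apply]
  exact Finset.sum_congr rfl fun j _ => by rw [LinearMap.smul_apply, h]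

/-- `T`-invariant subspace -/
def Inv (T : V ≃ₗ[F] V) (W : Submodule F V) : Prop := ∀ w ∈ W, T w ∈ W

theorem Inv.pow {T : V ≃ₗ[F] V} {W : Submodule F V} (h : Inv T W) (j : ℕ) {w : V} (hw : w ∈ W) :
    (T ^ j) w ∈ W := by
  induction j generalizing w with
  | zero => exact hw
  | succ j ih => rw [pow_succ, LinearEquiv.mul_apply]; exact ih (h w hw)

theorem Inv.pe {T : V ≃ₗ[F] V} {W : Submodule F V} (h : Inv T W) (p : F[X]) {w : V} (hw : w ∈ W) :
    pe T p w ∈ W := by
  rw [pe_sum]
  exact Submodule.sum_mem _ fun j _ => Submodule.smul_mem _ _ (h.pow j hw)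

theorem Inv.inf {T : V ≃ₗ[F] V} {W W' : Submodule F V} (h : Inv T W) (h' : Inv T W') :
    Inv T (W ⊓ W') := fun w hw => ⟨h w hw.1, h' w hw.2⟩

theorem Inv.sup {T : V ≃ₗ[F] V} {W W' : Submodule F V} (h : Inv T W) (h' : Inv T W') :
    Inv T (W ⊔ W') := by
  intro w hw
  obtain ⟨a, ha, b, hb, rfl⟩ := Submodule.mem_sup.1 hw
  rw [map_add]
  exact Submodule.mem_sup.2 ⟨T a, h a ha, T b, h' b hb, rfl⟩

/-- the cyclic subspace -/
noncomputable def cyc (T : V ≃ₗ[F] V) (v : V) : Submodule F V where
  carrier := {w | ∃ p : F[X], pe T p v = w}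
  add_mem' := by
    rintro _ _ ⟨p, rfl⟩ ⟨p', rfl⟩
    exact ⟨p + p', pe_add T p p' v⟩
  zero_mem' := ⟨0, pe_zero T v⟩
  smul_mem' := by
    rintro c _ ⟨p, rfl⟩
    exact ⟨C c * p, by rw [pe_mul, pe_C]⟩

theorem mem_cyc {T : V ≃ₗ[F] V} {v w : V} : w ∈ cyc T v ↔ ∃ p : F[X], pe T p v = w := Iff.rfl

theorem self_mem_cyc (T : V ≃ₗ[F] V) (v : V) : v ∈ cyc T v := ⟨1, pe_one T v⟩

theorem inv_cyc (T : V ≃ₗ[F] V) (v : V) : Inv T (cyc T v) := by
  rintro _ ⟨p, rfl⟩
  exact ⟨X * p, by rw [pe_mul, pe_X]⟩

theorem cyc_le {T : V ≃ₗ[F] V} {W : Submodule F V} (h : Inv T W) {v : V} (hv : v ∈ W) :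
    cyc T v ≤ W := by
  rintro _ ⟨p, rfl⟩
  exact h.pe p hv

/-- irreducible invariant subspace -/
structure Irr (T : V ≃ₗ[F] V) (M : Submodule F V) : Prop where
  ne_bot : M ≠ ⊥
  inv : Inv T M
  min : ∀ W : Submodule F V, W ≤ M → Inv T W → W = ⊥ ∨ W = M

theorem exists_irr [FiniteDimensional F V] {T : V ≃ₗ[F] V} (n : ℕ) : ∀ {W : Submodule F V},
    finrank F W = n → Inv T W → W ≠ ⊥ → ∃ M ≤ W, Irr T M := by
  induction n using Nat.strong_induction_on with
  | _ n ih =>
    intro W hn hW h0
    by_cases h : ∀ U : Submodule F V, U ≤ W → Inv T U → U = ⊥ ∨ U = W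
    · exact ⟨W, le_rfl, h0, hW, h⟩
    · push Not at h
      obtain ⟨U, hU, hUi, hU0, hUW⟩ := h
      have hlt : finrank F U < n := by
        rw [← hn]
        exact Submodule.finrank_lt_finrank_of_lt (lt_of_le_of_ne hU hUW)
      obtain ⟨M, hM, hM'⟩ := ih _ hlt rfl hUi hU0
      exact ⟨M, hM.trans hU, hM'⟩

theorem Irr.cyc_eq {T : V ≃ₗ[F] V} {M : Submodule F V} (h : Irr T M) {v : V} (hv : v ∈ M)
    (hv0 : v ≠ 0) : cyc T v = M := by
  rcases h.min _ (cyc_le h.inv hv) (inv_cyc T v) with h1 | h1
  · exact absurd ((Submodule.eq_bot_iff _).1 h1 v (self_mem_cyc T v)) hv0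
  · exact h1

theorem Irr.exists_ne {T : V ≃ₗ[F] V} {M : Submodule F V} (h : Irr T M) :
    ∃ v ∈ M, v ≠ 0 := (Submodule.ne_bot_iff M).1 h.ne_bot

/-- in a cyclic space all of whose non-zero elements generate, annihilators agree. -/
theorem Irr.pe_eq_zero {T : V ≃ₗ[F] V} {M : Submodule F V} (h : Irr T M) {v w : V} (hv : v ∈ M)
    (hv0 : v ≠ 0) (hw : w ∈ M) {p : F[X]} (hp : pe T p v = 0) : pe T p w = 0 := by
  rw [← h.cyc_eq hv hv0] at hw
  obtain ⟨p', rfl⟩ := hw
  rw [pe_comm, hp, map_zero]

end Poly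

section Frob

variable {F V : Type*} [Field F] [Finite F] [AddCommGroup V] [Module F V]

/-- `p(T ^ (q ^ k)) = p(T) ^ (q ^ k)`. -/
theorem pe_pow_card (T : V ≃ₗ[F] V) (p : F[X]) (k : ℕ) :
    pe (T ^ (Nat.card F ^ k)) p = (pe T (p ^ (Nat.card F ^ k))) := by
  have := Fintype.ofFinite F
  have h : ∀ (S : V ≃ₗ[F] V) (j : ℕ),
      ((S ^ j : V ≃ₗ[F] V) : Module.End F V) = (S : Module.End F V) ^ j := by
    intro S j
    induction j with
    | zero => rfl
    | succ j ih =>
      rw [pow_succ, pow_succ, ← ih]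
      rfl
  induction k with
  | zero => simp
  | succ k ih =>
    rw [pow_succ, pow_mul T, pow_mul p]
    have h1 : ∀ (S : V ≃ₗ[F] V), pe (S ^ Nat.card F) p = pe S (p ^ Nat.card F) := by
      intro S
      rw [pe, pe, Nat.card_eq_fintype_card, ← FiniteField.expand_card, expand_aeval, h]
    rw [h1, pe, pe, map_pow, map_pow]
    have h2 := ih
    rw [pe, pe, map_pow] at h2
    rw [h2, map_pow]

end Frob

section Dim

variable {F V : Type*} [Field F] [Finite F] [AddCommGroup V] [Module F V] [FiniteDimensional F V]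

omit [Finite F] [FiniteDimensional F V] in
theorem pow_card_pow_orderOf {T : V ≃ₗ[F] V} {r : ℕ} (hT : T ^ r = 1) :
    T ^ (Nat.card F ^ orderOf (Nat.card F : ZMod r)) = T := by
  have h1 : ((Nat.card F ^ orderOf (Nat.card F : ZMod r) : ℕ) : ZMod r) = ((1 : ℕ) : ZMod r) := by
    push_cast
    exact pow_orderOf_eq_one _
  have h2 := (ZMod.natCast_eq_natCast_iff _ _ _).1 h1
  have h4 : orderOf T ∣ r := orderOf_dvd_of_pow_eq_one hT
  have h5 : T ^ (Nat.card F ^ orderOf (Nat.card F : ZMod r)) = T ^ 1 :=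
    pow_eq_pow_iff_modEq.2 (h2.of_dvd h4)
  rw [h5, pow_one]

theorem pe_pow_orderOf {T : V ≃ₗ[F] V} {r : ℕ} (hT : T ^ r = 1) (p : F[X]) :
    pe T (p ^ (Nat.card F ^ orderOf (Nat.card F : ZMod r))) = pe T p := by
  rw [← pe_pow_card, pow_card_pow_orderOf hT]

/-- an irreducible subspace has dimension at most `orderOf (q : ZMod r)`. -/
theorem Irr.finrank_le {T : V ≃ₗ[F] V} {r : ℕ} (hT : T ^ r = 1)
    (hi : 0 < orderOf (Nat.card F : ZMod r)) {M : Submodule F V} (h : Irr T M) :
    finrank F M ≤ orderOf (Nat.card F : ZMod r) := by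
  classical
  obtain ⟨v, hv, hv0⟩ := h.exists_ne
  have : Finite V := Module.finite_of_finite F
  let I : Ideal F[X] :=
    { carrier := {p | pe T p v = 0}
      add_mem' := by
        intro a b ha hb
        change pe T (a + b) v = 0
        rw [pe_add]
        rw [show pe T a v = 0 from ha, show pe T b v = 0 from hb, add_zero]
      zero_mem' := pe_zero T v
      smul_mem' := by
        intro c a ha
        change pe T (c * a) v = 0
        rw [pe_mul, show pe T a v = 0 from ha, map_zero] }
  have hI : ∀ p, p ∈ I ↔ pe T p v = 0 := fun _ => Iff.rfl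
  have hprime : I.IsPrime := by
    refine ⟨?_, ?_⟩
    · rw [Ne, Ideal.eq_top_iff_one, hI, pe_one]
      exact hv0
    · intro a b hab
      by_cases ha : a ∈ I
      · exact Or.inl ha
      · right
        rw [hI] at ha hab ⊢
        have h1 : v ∈ cyc T (pe T a v) := by
          rw [h.cyc_eq (h.inv.pe a hv) ha]; exact hv
        obtain ⟨p', hp'⟩ := h1
        rw [← hp', pe_comm T b p', pe_comm T b a, ← pe_mul T a b, hab, map_zero]
  -- the linear equivalence with the quotient
  let φ : F[X] →ₗ[F] V := ((LinearMap.applyₗ v : (V →ₗ[F] V) →ₗ[F] V)).comp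
    (aeval (T : Module.End F V) : F[X] →ₐ[F] Module.End F V).toLinearMap
  have hφ : ∀ p, φ p = pe T p v := fun _ => rfl
  have hrange : LinearMap.range φ = M := by
    rw [← h.cyc_eq hv hv0]
    ext w
    constructor
    · rintro ⟨p, rfl⟩; exact ⟨p, rfl⟩
    · rintro ⟨p, rfl⟩; exact ⟨p, rfl⟩
  have hcard : Nat.card (F[X] ⧸ I) = Nat.card M := by
    refine Nat.card_congr (Equiv.ofBijective
      (fun x : F[X] ⧸ I => Quotient.liftOn' x (fun p => (⟨pe T p v, h.inv.pe p hv⟩ : M)) ?_)
      ⟨?_, ?_⟩)
    · intro a b hab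
      apply Subtype.ext
      change pe T a v = pe T b v
      have h1 : a - b ∈ I := by
        have := (Submodule.quotientRel_def I).1 hab
        exact this
      rw [hI, pe_sub, sub_eq_zero] at h1
      exact h1
    · intro x y
      induction x using Quotient.inductionOn' with
      | h a =>
        induction y using Quotient.inductionOn' with
        | h b =>
          intro hab
          have h1 : pe T a v = pe T b v := congrArg Subtype.val hab
          apply Quotient.sound'
          rw [Submodule.quotientRel_def]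
          change pe T (a - b) v = 0
          rw [pe_sub, h1, sub_self]
    · rintro ⟨w, hw⟩
      rw [← h.cyc_eq hv hv0] at hw
      obtain ⟨p, hp⟩ := hw
      exact ⟨Quotient.mk'' p, Subtype.ext hp⟩
  have hfin : Finite (F[X] ⧸ I) := by
    have : 0 < Nat.card M := Nat.card_pos
    rw [← hcard] at this
    exact (Nat.card_pos_iff.1 this).2
  have := Fintype.ofFinite (F[X] ⧸ I)
  set n := Nat.card F ^ orderOf (Nat.card F : ZMod r) with hn
  have hn1 : 1 < n := Nat.one_lt_pow hi.ne' Finite.one_lt_card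
  have hroot : ∀ x : F[X] ⧸ I, x ^ n = x := by
    intro x
    obtain ⟨p, rfl⟩ := Ideal.Quotient.mk_surjective x
    rw [← map_pow, Ideal.Quotient.eq, hI, pe_sub, pe_pow_orderOf hT, sub_self]
  have hdom : IsDomain (F[X] ⧸ I) := Ideal.Quotient.isDomain I
  let P : (F[X] ⧸ I)[X] := X ^ n - X
  have hPdeg : P.natDegree = n := by
    have h1 : (X : (F[X] ⧸ I)[X]).natDegree < (X ^ n : (F[X] ⧸ I)[X]).natDegree := by
      rw [natDegree_X, natDegree_X_pow]; exact hn1
    rw [natDegree_sub_eq_left_of_natDegree_lt h1, natDegree_X_pow]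
  have hP0 : P ≠ 0 := by
    intro h0
    rw [h0, natDegree_zero] at hPdeg
    omega
  have hsub : (Finset.univ : Finset (F[X] ⧸ I)) ⊆ P.roots.toFinset := by
    intro x _
    rw [Multiset.mem_toFinset, mem_roots hP0]
    simp only [P, IsRoot.def, eval_sub, eval_pow, eval_X]
    rw [hroot, sub_self]
  have h1 : Fintype.card (F[X] ⧸ I) ≤ n := by
    calc Fintype.card (F[X] ⧸ I) = (Finset.univ : Finset (F[X] ⧸ I)).card := rfl
      _ ≤ P.roots.toFinset.card := Finset.card_le_card hsub
      _ ≤ Multiset.card P.roots := Multiset.toFinset_card_le _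
      _ ≤ P.natDegree := card_roots' P
      _ = n := hPdeg
  rw [← Nat.card_eq_fintype_card, hcard, Module.natCard_eq_pow_finrank (K := F)] at h1
  exact (Nat.pow_le_pow_iff_right Finite.one_lt_card).1 h1

/-- **an irreducible subspace without fixed vectors has dimension exactly `orderOf (q : ZMod r)`.** -/
theorem Irr.finrank_eq {T : V ≃ₗ[F] V} {r : ℕ} [Fact r.Prime] (hT : T ^ r = 1)
    (hr : ¬ r ∣ Nat.card F) {M : Submodule F V} (h : Irr T M)
    (hf : ∀ w ∈ M, T w = w → w = 0) :
    finrank F M = orderOf (Nat.card F : ZMod r) := by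
  refine le_antisymm (h.finrank_le hT (orderOf_pos_of_not_dvd hr)) ?_
  exact Nat.le_of_dvd (Submodule.one_le_finrank_iff.2 h.ne_bot)
    (orderOf_dvd_finrank hT M h.inv hf)

end Dim

/-! ### Complements -/

section Maschke

variable {F V : Type*} [Field F] [AddCommGroup V] [Module F V] [FiniteDimensional F V]

/-- **Maschke's theorem** for a single automorphism with `T ^ r = 1`, `r` invertible. -/
theorem exists_inv_compl {T : V ≃ₗ[F] V} {r : ℕ} (hr : (r : F) ≠ 0) (hT : T ^ r = 1)
    {W : Submodule F V} (hW : Inv T W) : ∃ W' : Submodule F V, Inv T W' ∧ IsCompl W W' := by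
  obtain ⟨U, hU⟩ := Submodule.exists_isCompl W
  -- projection onto `W`
  let π : V →ₗ[F] V := W.subtype ∘ₗ W.projectionOnto U hU
  have hπW : ∀ v, π v ∈ W := fun v => Subtype.mem _
  have hπid : ∀ w ∈ W, π w = w := fun w hw => by
    change ((W.projectionOnto U hU w : W) : V) = w
    rw [Submodule.projectionOnto_apply_of_mem_left hU hw]
  let σ : V →ₗ[F] V := (r : F)⁻¹ • ∑ j ∈ Finset.range r,
    (((T ^ j : V ≃ₗ[F] V).symm : V →ₗ[F] V) ∘ₗ π ∘ₗ ((T ^ j : V ≃ₗ[F] V) : V →ₗ[F] V))
  have hσ : ∀ v, σ v = (r : F)⁻¹ • ∑ j ∈ Finset.range r, (T ^ j).symm (π ((T ^ j) v)) := by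
    intro v
    simp [σ]
  have hsymm : ∀ (j : ℕ), ∀ w ∈ W, (T ^ j).symm w ∈ W := by
    intro j w hw
    refine mem_of_map_mem (T := T ^ j) (fun w hw => hW.pow j hw) ?_
    rw [LinearEquiv.apply_symm_apply]; exact hw
  have hσW : ∀ v, σ v ∈ W := by
    intro v
    rw [hσ]
    exact W.smul_mem _ (Submodule.sum_mem _ fun j _ => hsymm j _ (hπW _))
  have hσid : ∀ w ∈ W, σ w = w := by
    intro w hw
    rw [hσ]
    have : ∀ j ∈ Finset.range r, (T ^ j).symm (π ((T ^ j) w)) = w := by
      intro j _
      rw [hπid _ (hW.pow j hw), LinearEquiv.symm_apply_apply]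
    rw [Finset.sum_congr rfl this, Finset.sum_const, Finset.card_range, ← Nat.cast_smul_eq_nsmul F,
      smul_smul, inv_mul_cancel₀ hr, one_smul]
  have hσT : ∀ v, σ (T v) = T (σ v) := by
    intro v
    rw [hσ, hσ, map_smul, map_sum]
    congr 1
    -- shift the sum
    have h1 : ∀ j, (T ^ j).symm (π ((T ^ j) (T v))) = T ((T ^ (j + 1)).symm (π ((T ^ (j + 1)) v))) := by
      intro j
      have e1 : (T ^ j) (T v) = (T ^ (j + 1)) v := by
        rw [pow_succ, LinearEquiv.mul_apply]
      rw [e1]
      apply (T ^ j).injective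
      rw [LinearEquiv.apply_symm_apply, ← LinearEquiv.mul_apply, ← pow_succ,
        LinearEquiv.apply_symm_apply]
    rw [Finset.sum_congr rfl fun j _ => h1 j]
    have hs1 := Finset.sum_range_succ' (fun j => T ((T ^ j).symm (π ((T ^ j) v)))) r
    have hs2 := Finset.sum_range_succ (fun j => T ((T ^ j).symm (π ((T ^ j) v)))) r
    have h0 : T ((T ^ r).symm (π ((T ^ r) v))) = T ((T ^ 0).symm (π ((T ^ 0) v))) := by
      rw [hT, pow_zero]
    rw [h0] at hs2
    rw [hs2] at hs1
    exact (add_right_cancel hs1).symm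
  refine ⟨LinearMap.ker σ, ?_, ?_⟩
  · intro w hw
    rw [LinearMap.mem_ker] at hw ⊢
    rw [hσT, hw, map_zero]
  · refine ⟨?_, ?_⟩
    · rw [Submodule.disjoint_def]
      intro x hx hx'
      rw [← hσid x hx]; exact hx'
    · rw [codisjoint_iff, Submodule.eq_top_iff']
      intro v
      refine Submodule.mem_sup.2 ⟨σ v, hσW v, v - σ v, ?_, by abel⟩
      rw [LinearMap.mem_ker, map_sub, hσid _ (hσW v), sub_self]

end Maschke

/-! ### Forms -/

section Form

variable {F V : Type*} [Field F] [AddCommGroup V] [Module F V]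

/-- the form `B` is nondegenerate on `W` -/
def NdOn (B : LinearMap.BilinForm F V) (W : Submodule F V) : Prop :=
  ∀ x ∈ W, (∀ y ∈ W, B x y = 0) → x = 0

/-- `B` is `ε`-symmetric -/
def EpsSymm (B : LinearMap.BilinForm F V) (ε : F) : Prop := ∀ u v, B u v = ε * B v u

/-- orthogonal space -/
def orth (B : LinearMap.BilinForm F V) (W : Submodule F V) : Submodule F V where
  carrier := {v | ∀ w ∈ W, B w v = 0}
  add_mem' := by
    intro a b ha hb w hw
    rw [map_add, ha w hw, hb w hw, add_zero]
  zero_mem' := fun w _ => map_zero (B w)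
  smul_mem' := by
    intro c x hx w hw
    rw [map_smul, hx w hw, smul_zero]

theorem mem_orth {B : LinearMap.BilinForm F V} {W : Submodule F V} {v : V} :
    v ∈ orth B W ↔ ∀ w ∈ W, B w v = 0 := Iff.rfl

theorem EpsSymm.zero {B : LinearMap.BilinForm F V} {ε : F} (h : EpsSymm B ε) {u v : V}
    (huv : B u v = 0) : B v u = 0 := by
  rw [h, huv, mul_zero]

theorem EpsSymm.isRefl {B : LinearMap.BilinForm F V} {ε : F} (h : EpsSymm B ε) : B.IsRefl :=
  fun _ _ huv => h.zero huv

theorem ndOn_iff {B : LinearMap.BilinForm F V} {ε : F} (h : EpsSymm B ε) {W : Submodule F V} :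
    NdOn B W ↔ (B.restrict W).Nondegenerate := by
  constructor
  · intro hW
    have h0 : ∀ x : W, (∀ y : W, B (x : V) (y : V) = 0) → x = 0 := fun x hx =>
      Subtype.ext (hW x x.2 fun y hy => hx ⟨y, hy⟩)
    exact ⟨fun x hx => h0 x hx, fun x hx => h0 x fun y => h.zero (hx y)⟩
  · intro hW x hx hxy
    exact congrArg Subtype.val (hW.1 ⟨x, hx⟩ fun y => hxy y y.2)

theorem orth_eq (B : LinearMap.BilinForm F V) (W : Submodule F V) :
    orth B W = LinearMap.BilinForm.orthogonal B W := by
  ext v
  rfl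

theorem NdOn.isCompl [FiniteDimensional F V] {B : LinearMap.BilinForm F V} {ε : F}
    (h : EpsSymm B ε) {W : Submodule F V} (hW : NdOn B W) : IsCompl W (orth B W) := by
  rw [orth_eq]
  exact LinearMap.BilinForm.isCompl_orthogonal_of_restrict_nondegenerate h.isRefl
    ((ndOn_iff h).1 hW)

theorem NdOn.decomp [FiniteDimensional F V] {B : LinearMap.BilinForm F V} {ε : F}
    (h : EpsSymm B ε) {W D : Submodule F V} (hD : NdOn B D) (hDW : D ≤ W) {w : V} (hw : w ∈ W) :
    ∃ a ∈ D, ∃ b ∈ W ⊓ orth B D, a + b = w := by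
  have h1 : w ∈ D ⊔ orth B D := by rw [(hD.isCompl h).sup_eq_top]; trivial
  obtain ⟨a, ha, b, hb, rfl⟩ := Submodule.mem_sup.1 h1
  refine ⟨a, ha, b, ⟨?_, hb⟩, rfl⟩
  have := W.sub_mem hw (hDW ha)
  simpa using this

theorem NdOn.inf_orth [FiniteDimensional F V] {B : LinearMap.BilinForm F V} {ε : F}
    (h : EpsSymm B ε) {W D : Submodule F V} (hW : NdOn B W) (hD : NdOn B D) (hDW : D ≤ W) :
    NdOn B (W ⊓ orth B D) := by
  intro x hx hxy
  refine hW x hx.1 fun y hy => ?_
  obtain ⟨a, ha, b, hb, rfl⟩ := hD.decomp h hDW hy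
  rw [map_add, hxy b hb, h.zero (hx.2 a ha), add_zero]

theorem NdOn.finrank_inf_orth [FiniteDimensional F V] {B : LinearMap.BilinForm F V} {ε : F}
    (h : EpsSymm B ε) {W D : Submodule F V} (hD : NdOn B D) (hDW : D ≤ W) :
    finrank F D + finrank F (W ⊓ orth B D : Submodule F V) = finrank F W := by
  have h1 := Submodule.finrank_sup_add_finrank_inf_eq D (W ⊓ orth B D)
  have h2 : D ⊔ (W ⊓ orth B D) = W := by
    apply le_antisymm (sup_le hDW inf_le_left)
    intro w hw
    obtain ⟨a, ha, b, hb, rfl⟩ := hD.decomp h hDW hw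
    exact Submodule.mem_sup.2 ⟨a, ha, b, hb, rfl⟩
  have h3 : D ⊓ (W ⊓ orth B D) = ⊥ := by
    rw [eq_bot_iff]
    intro x hx
    exact (hD.isCompl h).disjoint.le_bot ⟨hx.1, hx.2.2⟩
  rw [h2, h3, finrank_bot, add_zero] at h1
  exact h1.symm

/-- orthogonal sum of nondegenerate subspaces -/
theorem NdOn.sup {B : LinearMap.BilinForm F V} {ε : F}
    (h : EpsSymm B ε) {D D' : Submodule F V} (hD : NdOn B D) (hD' : NdOn B D')
    (ho : D' ≤ orth B D) : NdOn B (D ⊔ D') := by
  intro x hx hxy
  obtain ⟨a, ha, b, hb, rfl⟩ := Submodule.mem_sup.1 hx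
  have h1 : a = 0 := by
    refine hD a ha fun y hy => ?_
    have := hxy y (Submodule.mem_sup_left hy)
    rw [map_add, LinearMap.add_apply, h.zero (ho hb y hy), add_zero] at this
    exact this
  have h2 : b = 0 := by
    refine hD' b hb fun y hy => ?_
    have := hxy y (Submodule.mem_sup_right hy)
    rw [map_add, LinearMap.add_apply, ho hy a ha, zero_add] at this
    exact this
  rw [h1, h2, add_zero]

theorem disjoint_of_le_orth {B : LinearMap.BilinForm F V} {D D' : Submodule F V}
    (hD : NdOn B D) (ho : D' ≤ orth B D) {ε : F} (h : EpsSymm B ε) : Disjoint D D' := by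
  rw [Submodule.disjoint_def]
  intro x hx hx'
  exact hD x hx fun y hy => h.zero (ho hx' y hy)

end Form

section Block

variable {F V : Type*} [Field F] [AddCommGroup V] [Module F V]

theorem inv_orth [FiniteDimensional F V] {B : LinearMap.BilinForm F V} {T : V ≃ₗ[F] V}
    (hB : ∀ u v, B (T u) (T v) = B u v) {W : Submodule F V} (hW : Inv T W) :
    Inv T (orth B W) := by
  intro v hv w hw
  rw [← map_eq_of_le T W hW] at hw
  obtain ⟨w', hw', rfl⟩ := hw
  change B (T w') (T v) = 0
  rw [hB]
  exact hv w' hw'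

theorem form_symm {B : LinearMap.BilinForm F V} {T : V ≃ₗ[F] V}
    (hB : ∀ u v, B (T u) (T v) = B u v) (j : ℕ) (u v : V) :
    B ((T ^ j) u) v = B u ((T⁻¹ ^ j) v) := by
  induction j generalizing u v with
  | zero => rfl
  | succ j ih =>
    rw [pow_succ, LinearEquiv.mul_apply, ih, pow_succ', LinearEquiv.mul_apply]
    have h1 : (T⁻¹ ^ j) v = T (T⁻¹ ((T⁻¹ ^ j) v)) := by
      rw [← LinearEquiv.mul_apply, mul_inv_cancel]; rfl
    conv_lhs => rw [h1]
    rw [hB]

/-- the adjoint of `p(T)` is `p(T⁻¹)`. -/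
theorem form_pe {B : LinearMap.BilinForm F V} {T : V ≃ₗ[F] V}
    (hB : ∀ u v, B (T u) (T v) = B u v) (p : F[X]) (u v : V) :
    B (pe T p u) v = B u (pe T⁻¹ p v) := by
  rw [pe_sum, pe_sum]
  simp only [map_sum, LinearMap.sum_apply, map_smul, LinearMap.smul_apply]
  exact Finset.sum_congr rfl fun j _ => by rw [form_symm hB]

/-- **Blocks.** -/
theorem exists_block [Finite F] [FiniteDimensional F V] {B : LinearMap.BilinForm F V} {ε : F}
    (hε : EpsSymm B ε) {T : V ≃ₗ[F] V} (hB : ∀ u v, B (T u) (T v) = B u v)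
    {r : ℕ} [hrp : Fact r.Prime] (h2 : 2 < r) (hr : ¬ r ∣ Nat.card F) (hrF : (r : F) ≠ 0)
    (hT : T ^ r = 1)
    (hev : ∀ W : Submodule F V, Inv T W → NdOn B W → (∀ w ∈ W, T w = w → w = 0) →
      Even (finrank F W))
    {W : Submodule F V} (hW : Inv T W) (hWn : NdOn B W) (hf : ∀ w ∈ W, T w = w → w = 0)
    (hW0 : W ≠ ⊥) :
    ∃ D ≤ W, Inv T D ∧ NdOn B D ∧ finrank F D =
      if Even (orderOf (Nat.card F : ZMod r)) then orderOf (Nat.card F : ZMod r)
        else 2 * orderOf (Nat.card F : ZMod r) := by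
  classical
  set i := orderOf (Nat.card F : ZMod r) with hi
  have hipos : 0 < i := orderOf_pos_of_not_dvd hr
  -- minimal choice
  have hex : ∃ n, ∃ D : Submodule F V, D ≤ W ∧ Inv T D ∧ NdOn B D ∧ D ≠ ⊥ ∧ finrank F D = n :=
    ⟨_, W, le_rfl, hW, hWn, hW0, rfl⟩
  obtain ⟨D, hDW, hDi, hDn, hD0, hDf⟩ := Nat.find_spec hex
  have hmin : ∀ D' : Submodule F V, D' ≤ W → Inv T D' → NdOn B D' → D' ≠ ⊥ →
      finrank F D ≤ finrank F D' := by
    intro D' h1 h2 h3 h4
    rw [hDf]
    exact Nat.find_min' hex ⟨D', h1, h2, h3, h4, rfl⟩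
  refine ⟨D, hDW, hDi, hDn, ?_⟩
  have hfD : ∀ w ∈ D, T w = w → w = 0 := fun w hw => hf w (hDW hw)
  obtain ⟨M, hMD, hM⟩ := exists_irr _ rfl hDi hD0
  have hMf : finrank F M = i := hM.finrank_eq hT hr fun w hw => hfD w (hMD hw)
  -- the dichotomy for irreducible subspaces
  have hdich : ∀ M' : Submodule F V, Irr T M' → NdOn B M' ∨ ∀ x ∈ M', ∀ y ∈ M', B x y = 0 := by
    intro M' hM'
    rcases hM'.min (M' ⊓ orth B M') inf_le_left (hM'.inv.inf (inv_orth hB hM'.inv)) with h | h
    · left
      intro x hx hxy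
      have : x ∈ M' ⊓ orth B M' := ⟨hx, fun y hy => hε.zero (hxy y hy)⟩
      rw [h] at this
      exact (Submodule.mem_bot F).1 this
    · right
      intro x hx y hy
      have : y ∈ M' ⊓ orth B M' := by rw [h]; exact hy
      exact this.2 x hx
  rcases hdich M hM with hMn | hMi
  · -- `M` nondegenerate
    have h3 := hmin M (hMD.trans hDW) hM.inv hMn hM.ne_bot
    have h4 := hev D hDi hDn hfD
    have h5 : finrank F D = i := le_antisymm (h3.trans hMf.le)
      (hMf ▸ Submodule.finrank_mono hMD)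
    rw [h5] at h4 ⊢
    rw [if_pos h4]
  · -- `M` totally isotropic
    obtain ⟨U, hUi, hU⟩ := exists_inv_compl hrF hT (hDi.inf (inv_orth hB hM.inv))
    set P := D ⊓ orth B M with hP
    set M' := D ⊓ U with hM'
    have hM'i : Inv T M' := hDi.inf hUi
    have hMP : M ≤ P := fun x hx => ⟨hMD hx, fun y hy => hMi y hy x hx⟩
    have hdec : ∀ x ∈ D, ∃ a ∈ P, ∃ b ∈ M', a + b = x := by
      intro x hx
      have h1 : x ∈ P ⊔ U := by rw [hU.sup_eq_top]; trivial
      obtain ⟨a, ha, b, hb, rfl⟩ := Submodule.mem_sup.1 h1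
      refine ⟨a, ha, b, ⟨?_, hb⟩, rfl⟩
      have := D.sub_mem hx ha.1
      simpa using this
    -- pairing
    have hpa : ∀ x ∈ M, (∀ y ∈ M', B x y = 0) → x = 0 := by
      intro x hx hxy
      refine hDn x (hMD hx) fun y hy => ?_
      obtain ⟨a, ha, b, hb, rfl⟩ := hdec y hy
      rw [map_add, ha.2 x hx, hxy b hb, add_zero]
    have hpb : ∀ y ∈ M', (∀ x ∈ M, B x y = 0) → y = 0 := by
      intro y hy hxy
      have h1 : y ∈ P := ⟨hy.1, hxy⟩
      exact (Submodule.disjoint_def.1 hU.disjoint) y h1 hy.2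
    have hM'0 : M' ≠ ⊥ := by
      intro h0
      obtain ⟨v, hv, hv0⟩ := hM.exists_ne
      apply hv0
      refine hpa v hv fun y hy => ?_
      rw [h0] at hy
      rw [(Submodule.mem_bot F).1 hy, map_zero]
    have hM'le : finrank F M' ≤ finrank F M := by
      let φ : M' →ₗ[F] Module.Dual F M :=
        { toFun := fun y => (B.flip (y : V)).domRestrict M
          map_add' := fun a b => by ext; simp
          map_smul' := fun c a => by ext; simp }
      have hφ : Function.Injective φ := by
        rw [injective_iff_map_eq_zero]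
        intro y hy
        apply Subtype.ext
        refine hpb y y.2 fun x hx => ?_
        exact congrArg (fun g : Module.Dual F M => g ⟨x, hx⟩) hy
      have := LinearMap.finrank_le_finrank_of_injective hφ
      rwa [Subspace.dual_finrank_eq] at this
    obtain ⟨M₁, hM₁M', hM₁⟩ := exists_irr _ rfl hM'i hM'0
    have hM₁f : finrank F M₁ = i := hM₁.finrank_eq hT hr fun w hw => hfD w (hM₁M' hw).1
    have hM₁e : M₁ = M' := Submodule.eq_of_le_of_finrank_le hM₁M' (by omega)
    subst hM₁e
    have hM'f : finrank F M' = i := hM₁f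
    have hdisj : Disjoint M M' := by
      rw [Submodule.disjoint_def]
      intro x hx hx'
      exact (Submodule.disjoint_def.1 hU.disjoint) x (hMP hx) hx'.2
    have hSf : finrank F (M ⊔ M' : Submodule F V) = 2 * i := by
      have h1 := Submodule.finrank_sup_add_finrank_inf_eq M M'
      rw [hdisj.eq_bot, finrank_bot] at h1
      omega
    have hDge : 2 * i ≤ finrank F D := by
      rw [← hSf]
      exact Submodule.finrank_mono (sup_le hMD inf_le_left)
    -- `M'` is totally isotropic
    have hM'iso : ∀ x ∈ M', ∀ y ∈ M', B x y = 0 := by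
      rcases hdich M' hM₁ with h | h
      · exfalso
        have := hmin M' (inf_le_left.trans hDW) hM₁.inv h hM₁.ne_bot
        omega
      · exact h
    have hSn : NdOn B (M ⊔ M') := by
      intro x hx hxy
      obtain ⟨a, ha, b, hb, rfl⟩ := Submodule.mem_sup.1 hx
      have h1 : a = 0 := by
        refine hpa a ha fun y hy => ?_
        have := hxy y (Submodule.mem_sup_right hy)
        rw [map_add, LinearMap.add_apply, hM'iso b hb y hy, add_zero] at this
        exact this
      have h2 : b = 0 := by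
        refine hpb b hb fun y hy => ?_
        have := hxy y (Submodule.mem_sup_left hy)
        rw [map_add, LinearMap.add_apply, hMi a ha y hy, zero_add] at this
        exact hε.zero this
      rw [h1, h2, add_zero]
    have hDle := hmin (M ⊔ M') ((sup_le hMD inf_le_left).trans hDW) (hM.inv.sup hM'i) hSn
      (fun h => by rw [h, finrank_bot] at hSf; omega)
    have hDf2 : finrank F D = 2 * i := by omega
    by_cases hie : Even i
    · -- contradiction
      exfalso
      set N := Nat.card F ^ (i / 2) with hN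
      have hNpos : 0 < N := Nat.pow_pos Nat.card_pos
      have hTinv : T⁻¹ = T ^ N := by
        have h1 : ((N + 1 : ℕ) : ZMod r) = 0 := by
          push_cast
          rw [hN, Nat.cast_pow, pow_half_eq_neg_one hr hie]
          ring
        have h3 : r ∣ N + 1 := (ZMod.natCast_eq_zero_iff _ _).1 h1
        have h4 : T ^ (N + 1) = 1 := by
          obtain ⟨k, hk⟩ := h3
          rw [hk, pow_mul, hT, one_pow]
        rw [pow_succ] at h4
        exact (eq_inv_of_mul_eq_one_left h4).symm
      have hadj : ∀ (p : F[X]) (u v : V), B (pe T p u) v = B u (pe T (p ^ N) v) := by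
        intro p u v
        rw [form_pe hB, hTinv, pe_pow_card]
      have hadj' : ∀ (p : F[X]) (u v : V), B u (pe T p v) = B (pe T (p ^ N) u) v := by
        intro p u v
        rw [hε u, hadj, ← hε]
      -- annihilators
      have hann : ∀ u ∈ M, u ≠ 0 → ∀ w ∈ M', ∀ p : F[X], pe T p u = 0 → pe T p w = 0 := by
        intro u hu hu0 w hw p hp
        refine hpb _ (hM'i.pe p hw) fun x hx => ?_
        rw [hadj']
        have h1 : pe T p x = 0 := hM.pe_eq_zero hu hu0 hx hp
        have h3 : pe T (p ^ N) x = 0 := by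
          obtain ⟨k, hk⟩ := Nat.exists_eq_succ_of_ne_zero hNpos.ne'
          rw [hk, pow_succ, pe_mul, h1, map_zero]
        rw [h3, map_zero, LinearMap.zero_apply]
      obtain ⟨u, hu, hu0⟩ := hM.exists_ne
      have key : ∀ w ∈ M', ∀ p : F[X], B (pe T p (u + w)) (u + w) = 0 := by
        intro w hw p
        have hv0 : u + w ≠ 0 := by
          intro h
          have h1 : u = -w := eq_neg_of_add_eq_zero_left h
          exact hu0 ((Submodule.disjoint_def.1 hdisj) u hu (h1 ▸ M'.neg_mem hw))
        have hirr : Irr T (cyc T (u + w)) := by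
          refine ⟨fun h => hv0 ((Submodule.eq_bot_iff _).1 h _ (self_mem_cyc T _)),
            inv_cyc T _, fun X hX hXi => ?_⟩
          by_cases hX0 : X = ⊥
          · exact Or.inl hX0
          · right
            obtain ⟨x, hx, hx0⟩ := (Submodule.ne_bot_iff X).1 hX0
            obtain ⟨a, ha⟩ := hX hx
            apply le_antisymm hX
            refine cyc_le hXi ?_
            have hau : pe T a u ≠ 0 := by
              intro h0
              apply hx0
              rw [← ha, map_add, h0, hann u hu hu0 w hw a h0, add_zero]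
            have h5 : u ∈ cyc T (pe T a u) := by
              rw [hM.cyc_eq (hM.inv.pe a hu) hau]; exact hu
            obtain ⟨b, hb⟩ := h5
            have h6 : pe T (b * a - 1) u = 0 := by
              rw [pe_sub, pe_mul, hb, pe_one, sub_self]
            have h7 := hann u hu hu0 w hw _ h6
            have h8 : pe T b x = u + w := by
              rw [← ha, ← pe_mul]
              have : pe T (b * a - 1) (u + w) = 0 := by rw [map_add, h6, h7, add_zero]
              rw [pe_sub, pe_one, sub_eq_zero] at this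
              exact this
            rw [← h8]
            exact hXi.pe b hx
        have hcle : cyc T (u + w) ≤ D :=
          cyc_le hDi (D.add_mem (hMD hu) hw.1)
        rcases hdich _ hirr with h | h
        · exfalso
          have h1 := hmin _ (hcle.trans hDW) hirr.inv h hirr.ne_bot
          have h3 := hirr.finrank_eq hT hr fun x hx => hfD x (hcle hx)
          omega
        · exact h _ ⟨p, rfl⟩ _ (self_mem_cyc T _)
      have key2 : ∀ p : F[X], pe T p u + ε • pe T (p ^ N) u = 0 := by
        intro p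
        refine hpa _ (M.add_mem (hM.inv.pe p hu) (M.smul_mem _ (hM.inv.pe _ hu))) fun w hw => ?_
        have h1 := key w hw p
        rw [map_add, map_add, map_add, LinearMap.add_apply, LinearMap.add_apply,
          hMi _ (hM.inv.pe p hu) _ hu, hM'iso _ (hM'i.pe p hw) _ hw, hε (pe T p w) u, hadj'] at h1
        rw [map_add, LinearMap.add_apply, map_smul, LinearMap.smul_apply, smul_eq_mul]
        linear_combination h1
      have h1 := key2 1
      rw [one_pow, pe_one] at h1
      have hε1 : 1 + ε = 0 := by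
        have : (1 + ε) • u = 0 := by rw [add_smul, one_smul]; exact h1
        exact (smul_eq_zero.1 this).resolve_right hu0
      have hεn : ε = -1 := by linear_combination hε1
      have h3 := key2 X
      rw [← pe_pow_card, ← hN, ← hTinv, pe_X, pe_X, hεn] at h3
      have h4 : T u = T⁻¹ u := by
        rw [neg_smul, one_smul, ← sub_eq_add_neg, sub_eq_zero] at h3
        exact h3
      have h5 : (T ^ 2) u = u := by
        rw [pow_two, LinearEquiv.mul_apply, h4, ← LinearEquiv.mul_apply, mul_inv_cancel]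
        rfl
      -- `T ^ 2 u = u` and `T ^ r u = u` with `r` odd
      have hodd : r % 2 = 1 := by
        rcases hrp.out.eq_two_or_odd with h | h
        · omega
        · exact h
      have h6 : ∀ k : ℕ, (T ^ (2 * k)) u = u := by
        intro k
        induction k with
        | zero => rfl
        | succ k ih =>
          rw [mul_add, mul_one, pow_add, LinearEquiv.mul_apply, h5, ih]
      have h7 : T u = u := by
        have h8 : (T ^ r) u = u := by rw [hT]; rfl
        have h9 : r = 1 + 2 * (r / 2) := by omega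
        rw [h9, pow_add, LinearEquiv.mul_apply, h6, pow_one] at h8
        exact h8
      exact hu0 (hfD u (hMD hu) h7)
    · rw [if_neg hie, hDf2]

end Block

end Cfsg.Agent.H955
end

-- part: H955/QBlocks
section
/-!
# Decomposition into blocks, evenness

`exists_blocks`: invariant nondegenerate subspaces of every dimension `c * s`, inside an invariant
nondegenerate space without fixed vectors; its dimension is a multiple of `c`.
`even_of_symm`, `even_of_alt`: an invariant nondegenerate subspace without fixed vectors has even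
dimension.
-/

set_option autoImplicit false

namespace Cfsg.Agent.H955

open Module Polynomial

/-- `c = i` for `i` even, `2 * i` for `i` odd, `i = orderOf (q : ZMod r)`. -/
noncomputable def cc (q r : ℕ) : ℕ := if Even (orderOf (q : ZMod r)) then orderOf (q : ZMod r)
  else 2 * orderOf (q : ZMod r)

theorem cc_pos {q r : ℕ} [Fact r.Prime] (h : ¬ r ∣ q) : 0 < cc q r := by
  have := orderOf_pos_of_not_dvd h
  unfold cc
  split_ifs <;> omega

theorem even_cc (q r : ℕ) : Even (cc q r) := by
  unfold cc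
  split_ifs with h
  · exact h
  · exact even_two_mul _

theorem orderOf_dvd_cc (q r : ℕ) : orderOf (q : ZMod r) ∣ cc q r := by
  unfold cc
  split_ifs with h
  · exact dvd_rfl
  · exact Dvd.intro_left 2 rfl

theorem cc_dvd_iff {q r n : ℕ} (hn : Even n) : cc q r ∣ n ↔ orderOf (q : ZMod r) ∣ n := by
  refine ⟨fun h => (orderOf_dvd_cc q r).trans h, fun h => ?_⟩
  unfold cc
  split_ifs with h1
  · exact h
  · have hcop : Nat.Coprime 2 (orderOf (q : ZMod r)) :=
      (Nat.coprime_two_left).2 (Nat.not_even_iff_odd.1 h1)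
    exact hcop.mul_dvd_of_dvd_of_dvd hn.two_dvd h

section

variable {F V : Type*} [Field F] [Finite F] [AddCommGroup V] [Module F V] [FiniteDimensional F V]
  {B : LinearMap.BilinForm F V} {ε : F} {T : V ≃ₗ[F] V} {r : ℕ} [hrp : Fact r.Prime]

/-- **Invariant nondegenerate subspaces of every dimension `c * s`.** -/
theorem exists_blocks (hε : EpsSymm B ε) (hB : ∀ u v, B (T u) (T v) = B u v)
    (h2 : 2 < r) (hr : ¬ r ∣ Nat.card F) (hrF : (r : F) ≠ 0) (hT : T ^ r = 1)
    (hev : ∀ W : Submodule F V, Inv T W → NdOn B W → (∀ w ∈ W, T w = w → w = 0) →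
      Even (finrank F W))
    {W : Submodule F V} (hW : Inv T W) (hWn : NdOn B W) (hf : ∀ w ∈ W, T w = w → w = 0)
    (s : ℕ) (hs : cc (Nat.card F) r * s ≤ finrank F W) :
    ∃ D ≤ W, Inv T D ∧ NdOn B D ∧ finrank F D = cc (Nat.card F) r * s := by
  induction s with
  | zero =>
    exact ⟨⊥, bot_le, fun w hw => by rw [(Submodule.mem_bot F).1 hw, map_zero]; exact Submodule.zero_mem _,
      fun x hx _ => (Submodule.mem_bot F).1 hx, by rw [finrank_bot, mul_zero]⟩
  | succ s ih =>
    have hc := cc_pos (q := Nat.card F) hr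
    have hs' : cc (Nat.card F) r * s < finrank F W := by
      rw [mul_add, mul_one] at hs; omega
    obtain ⟨D, hDW, hDi, hDn, hDf⟩ := ih hs'.le
    have h1 := hDn.finrank_inf_orth hε hDW
    have h3 : (W ⊓ orth B D : Submodule F V) ≠ ⊥ := by
      intro h
      rw [h, finrank_bot] at h1
      omega
    obtain ⟨D', hD'W, hD'i, hD'n, hD'f⟩ := exists_block hε hB h2 hr hrF hT hev
      (hW.inf (inv_orth hB hDi)) (hWn.inf_orth hε hDn hDW) (fun w hw => hf w hw.1) h3
    have ho : D' ≤ orth B D := hD'W.trans inf_le_right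
    have hdisj := disjoint_of_le_orth hDn ho hε
    refine ⟨D ⊔ D', sup_le hDW (hD'W.trans inf_le_left), hDi.sup hD'i, hDn.sup hε hD'n ho, ?_⟩
    have h4 := Submodule.finrank_sup_add_finrank_inf_eq D D'
    rw [hdisj.eq_bot, finrank_bot, hD'f, hDf] at h4
    change _ = cc (Nat.card F) r * s + cc (Nat.card F) r at h4
    rw [mul_add, mul_one]
    exact h4

theorem cc_dvd_finrank (hT : T ^ r = 1)
    (hev : ∀ W : Submodule F V, Inv T W → NdOn B W → (∀ w ∈ W, T w = w → w = 0) →
      Even (finrank F W))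
    {W : Submodule F V} (hW : Inv T W) (hWn : NdOn B W) (hf : ∀ w ∈ W, T w = w → w = 0) :
    cc (Nat.card F) r ∣ finrank F W := by
  rw [cc_dvd_iff (hev W hW hWn hf)]
  exact orderOf_dvd_finrank hT W hW hf

end

section Even

variable {F V : Type*} [Field F] [AddCommGroup V] [Module F V] [FiniteDimensional F V]
  {B : LinearMap.BilinForm F V} {T : V ≃ₗ[F] V}

/-- nondegenerate alternating spaces have even dimension. -/
theorem even_of_alt (hA : B.IsAlt) {W : Submodule F V} (hWn : NdOn B W) : Even (finrank F W) := by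
  obtain ⟨m, k, b, -, -, -, hb⟩ := Cfsg.Agent.S0752.result (B.restrict W) (fun x => hA x)
  have hk : k = 0 := by
    by_contra hk
    have h0 : b (Sum.inr ⟨0, Nat.pos_of_ne_zero hk⟩) = 0 := by
      apply Subtype.ext
      refine hWn _ (Subtype.mem _) fun y hy => ?_
      exact hb ⟨0, Nat.pos_of_ne_zero hk⟩ ⟨y, hy⟩
    exact b.ne_zero _ h0
  subst hk
  rw [finrank_eq_card_basis b]
  simp only [Fintype.card_sum, Fintype.card_fin, add_zero]
  exact ⟨m, rfl⟩

/-- an isometry of odd order without fixed vectors of a nondegenerate symmetric form lives in even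
dimension. -/
theorem even_of_symm (hS : ∀ u v, B u v = B v u)
    (hB : ∀ u v, B (T u) (T v) = B u v) {r : ℕ} (hodd : Odd r) (hT : T ^ r = 1)
    {W : Submodule F V} (hW : Inv T W) (hWn : NdOn B W) (hf : ∀ w ∈ W, T w = w → w = 0) :
    Even (finrank F W) := by
  -- the alternating form `B(u, T v) - B(T u, v)`
  let A : LinearMap.BilinForm F V :=
    LinearMap.compl₂ B (T : V →ₗ[F] V) - (LinearMap.comp B (T : V →ₗ[F] V))
  have hA : ∀ u v, A u v = B u (T v) - B (T u) v := fun _ _ => rfl
  have halt : A.IsAlt := by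
    intro x
    change A x x = 0
    rw [hA, hS (T x) x, sub_self]
  refine even_of_alt halt (W := W) ?_
  intro x hx hxy
  -- `T⁻¹ x = T x`
  have hTi : T.symm x ∈ W := mem_of_map_mem (T := T) hW (by rw [T.apply_symm_apply]; exact hx)
  have h1 : T.symm x - T x = 0 := by
    refine hWn _ (W.sub_mem hTi (hW x hx)) fun y hy => ?_
    have h3 := hxy y hy
    rw [hA] at h3
    have h4 : B (T.symm x) y = B x (T y) := by
      rw [← hB (T.symm x) y, T.apply_symm_apply]
    rw [map_sub, LinearMap.sub_apply, h4]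
    exact h3
  have h5 : (T ^ 2) x = x := by
    have h6 : T.symm x = T x := sub_eq_zero.1 h1
    rw [pow_two, LinearEquiv.mul_apply, ← h6, T.apply_symm_apply]
  have h6 : ∀ k : ℕ, (T ^ (2 * k)) x = x := by
    intro k
    induction k with
    | zero => rfl
    | succ k ih =>
      rw [mul_add, mul_one, pow_add, LinearEquiv.mul_apply, h5, ih]
  obtain ⟨k, hk⟩ := hodd
  have h8 : (T ^ r) x = x := by rw [hT]; rfl
  rw [hk, pow_add, LinearEquiv.mul_apply, pow_one] at h8
  have h9 : (T ^ (2 * k)) (T x) = T ((T ^ (2 * k)) x) := by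
    rw [← LinearEquiv.mul_apply, ← LinearEquiv.mul_apply, ← pow_succ, ← pow_succ']
  rw [h9, h6] at h8
  exact hf x hx h8

end Even

end Cfsg.Agent.H955
end
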