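import Mathlib
import Cfsg.Agent.LieClassical.OrthFinite
import Cfsg.Agent.LieClassical.QuadForms
import Cfsg.Agent.H955.Semi
set_option linter.all false

/-!
# Nondegenerate quadratic spaces: restriction, orthogonal complements, splitting off hyperbolic planes

Everything here is for a quadratic form `Q` on a finite-dimensional space `V` over a field, with
`Nondeg Q` (the polar form is nondegenerate), in every characteristic.
-/

set_option autoImplicit false

namespace Cfsg.Agent.H955

open Module QuadraticMap Cfsg.Agent.LieClassical.OrthCore Cfsg.Agent.LieClassical.OrthTrans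

variable {F V : Type*} [Field F] [AddCommGroup V] [Module F V] {Q : QuadraticForm F V}

/-- restriction of a quadratic form to a subspace -/
abbrev res (Q : QuadraticForm F V) (W : Submodule F V) : QuadraticForm F W := Q.comp W.subtype

theorem res_apply (Q : QuadraticForm F V) (W : Submodule F V) (w : W) : res Q W w = Q (w : V) := rfl

theorem polar_res (Q : QuadraticForm F V) (W : Submodule F V) (u v : W) :
    polar (res Q W) u v = polar Q (u : V) (v : V) := rfl

theorem nondeg_res_iff {W : Submodule F V} :
    Nondeg (res Q W) ↔ ∀ x ∈ W, (∀ y ∈ W, polar Q x y = 0) → x = 0 := by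
  constructor
  · intro h x hx hxy
    have := h ⟨x, hx⟩ (fun y => hxy y y.2)
    exact congrArg Subtype.val this
  · intro h x hxy
    exact Subtype.ext (h x x.2 (fun y hy => hxy ⟨y, hy⟩))

/-- orthogonal complement -/
def perp (Q : QuadraticForm F V) (W : Submodule F V) : Submodule F V where
  carrier := {v | ∀ w ∈ W, polar Q w v = 0}
  add_mem' := by
    intro a b ha hb w hw
    rw [polar_add_right, ha w hw, hb w hw, add_zero]
  zero_mem' := fun w _ => polar_zero_right Q w
  smul_mem' := by
    intro c x hx w hw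
    rw [polar_smul_right, hx w hw, smul_zero]

theorem mem_perp {W : Submodule F V} {v : V} : v ∈ perp Q W ↔ ∀ w ∈ W, polar Q w v = 0 := Iff.rfl

theorem mem_perp' {W : Submodule F V} {v : V} : v ∈ perp Q W ↔ ∀ w ∈ W, polar Q v w = 0 := by
  rw [mem_perp]
  exact forall₂_congr fun w _ => by rw [polar_comm]

theorem perp_eq (W : Submodule F V) : perp Q W = LinearMap.BilinForm.orthogonal (polarBilin Q) W := by
  ext v
  rfl

theorem isRefl_polar (Q : QuadraticForm F V) : (polarBilin Q).IsRefl := by
  intro x y h
  change polar Q y x = 0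
  rw [polar_comm]; exact h

theorem nondegenerate_of_nondeg (h : Nondeg Q) : (polarBilin Q).Nondegenerate := by
  refine ⟨fun x hx => h x hx, fun x hx => h x fun y => ?_⟩
  rw [polar_comm]; exact hx y

theorem nondeg_iff : Nondeg Q ↔ (polarBilin Q).Nondegenerate :=
  ⟨nondegenerate_of_nondeg, nondeg_of_nondegenerate⟩

theorem isCompl_perp [FiniteDimensional F V] {W : Submodule F V} (h : Nondeg (res Q W)) :
    IsCompl W (perp Q W) := by
  rw [perp_eq]
  refine LinearMap.BilinForm.isCompl_orthogonal_of_restrict_nondegenerate (isRefl_polar Q) ?_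
  exact nondegenerate_of_nondeg h

theorem nondeg_perp [FiniteDimensional F V] {W : Submodule F V} (hQ : Nondeg Q)
    (h : Nondeg (res Q W)) : Nondeg (res Q (perp Q W)) := by
  rw [nondeg_res_iff]
  intro x hx hxy
  refine hQ x fun y => ?_
  obtain ⟨a, ha, b, hb, rfl⟩ : ∃ a ∈ W, ∃ b ∈ perp Q W, a + b = y := by
    have h1 : y ∈ W ⊔ perp Q W := by rw [(isCompl_perp h).sup_eq_top]; trivial
    exact Submodule.mem_sup.1 h1
  rw [polar_add_right, hxy b hb, mem_perp'.1 hx a ha, add_zero]

theorem finrank_perp [FiniteDimensional F V] (hQ : Nondeg Q) (W : Submodule F V) :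
    finrank F (perp Q W) = finrank F V - finrank F W := by
  rw [perp_eq]
  exact LinearMap.BilinForm.finrank_orthogonal (nondegenerate_of_nondeg hQ) W

theorem finrank_add_perp [FiniteDimensional F V] (hQ : Nondeg Q) (W : Submodule F V) :
    finrank F W + finrank F (perp Q W) = finrank F V := by
  rw [finrank_perp hQ]
  have := Submodule.finrank_le W
  omega

theorem perp_perp [FiniteDimensional F V] (hQ : Nondeg Q) (W : Submodule F V) :
    perp Q (perp Q W) = W := by
  rw [perp_eq, perp_eq]
  exact LinearMap.BilinForm.orthogonal_orthogonal (nondegenerate_of_nondeg hQ) (isRefl_polar Q) W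

theorem perp_anti {W W' : Submodule F V} (h : W ≤ W') : perp Q W' ≤ perp Q W :=
  fun _ hv w hw => hv w (h hw)

theorem perp_bot : perp Q (⊥ : Submodule F V) = ⊤ := by
  ext v
  simp [mem_perp]

theorem perp_top (hQ : Nondeg Q) : perp Q (⊤ : Submodule F V) = ⊥ := by
  ext v
  rw [mem_perp', Submodule.mem_bot]
  constructor
  · intro h
    exact hQ v fun y => h y trivial
  · rintro rfl w _
    exact polar_zero_left Q w

theorem Q_add_of_perp {W : Submodule F V} {a b : V} (ha : a ∈ W) (hb : b ∈ perp Q W) :
    Q (a + b) = Q a + Q b := by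
  rw [Q_add, hb a ha, add_zero]

/-- the orthogonal decomposition -/
noncomputable def decomp [FiniteDimensional F V] {W : Submodule F V} (h : Nondeg (res Q W)) :
    (W × perp Q W) ≃ₗ[F] V :=
  Submodule.prodEquivOfIsCompl W (perp Q W) (isCompl_perp h)

theorem decomp_apply [FiniteDimensional F V] {W : Submodule F V} (h : Nondeg (res Q W))
    (x : W × perp Q W) : decomp h x = (x.1 : V) + (x.2 : V) := rfl

theorem Q_decomp [FiniteDimensional F V] {W : Submodule F V} (h : Nondeg (res Q W))
    (x : W × perp Q W) : Q (decomp h x) = Q (x.1 : V) + Q (x.2 : V) := by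
  rw [decomp_apply, Q_add_of_perp x.1.2 x.2.2]

/-- orthogonal sum of two forms -/
abbrev osum {V' : Type*} [AddCommGroup V'] [Module F V'] (Q : QuadraticForm F V)
    (Q' : QuadraticForm F V') : QuadraticForm F (V × V') :=
  Q.comp (LinearMap.fst F V V') + Q'.comp (LinearMap.snd F V V')

section

variable {V' : Type*} [AddCommGroup V'] [Module F V'] {Q' : QuadraticForm F V'}

theorem osum_apply (x : V × V') : osum Q Q' x = Q x.1 + Q' x.2 := rfl

theorem polar_osum (x y : V × V') : polar (osum Q Q') x y = polar Q x.1 y.1 + polar Q' x.2 y.2 := by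
  simp only [polar, osum_apply, Prod.fst_add, Prod.snd_add]
  ring

theorem nondeg_osum (h : Nondeg Q) (h' : Nondeg Q') : Nondeg (osum Q Q') := by
  intro x hx
  refine Prod.ext (h _ fun y => ?_) (h' _ fun y => ?_)
  · have := hx (y, 0)
    rw [polar_osum, polar_zero_right, add_zero] at this
    exact this
  · have := hx (0, y)
    rw [polar_osum, polar_zero_right, zero_add] at this
    exact this

/-- transport of nondegeneracy -/
theorem nondeg_of_equiv (e : V ≃ₗ[F] V') (he : ∀ v, Q' (e v) = Q v) (h : Nondeg Q) : Nondeg Q' := by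
  intro x hx
  have h1 : e.symm x = 0 := by
    refine h _ fun y => ?_
    have := hx (e y)
    have h2 : polar Q (e.symm x) y = polar Q' x (e y) := by
      simp only [polar]
      rw [← he, ← he (e.symm x), ← he y, map_add, LinearEquiv.apply_symm_apply]
    rw [h2, this]
  simpa using h1

theorem polar_of_equiv (e : V ≃ₗ[F] V') (he : ∀ v, Q' (e v) = Q v) (u v : V) :
    polar Q' (e u) (e v) = polar Q u v := by
  simp only [polar, ← map_add, he]

end

/-! ### Plus type -/

/-- The form has plus type: it has a totally singular subspace of half the dimension. -/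
def IsPlus (Q : QuadraticForm F V) : Prop :=
  ∃ U : Submodule F V, (∀ u ∈ U, Q u = 0) ∧ 2 * finrank F U = finrank F V

theorem IsPlus.of_equiv {V' : Type*} [AddCommGroup V'] [Module F V'] {Q' : QuadraticForm F V'}
    (e : V ≃ₗ[F] V') (he : ∀ v, Q' (e v) = Q v) (h : IsPlus Q) : IsPlus Q' := by
  obtain ⟨U, hU, hd⟩ := h
  refine ⟨U.map (e : V →ₗ[F] V'), ?_, ?_⟩
  · rintro _ ⟨u, hu, rfl⟩
    exact (he u).trans (hU u hu)
  · rw [LinearEquiv.finrank_map_eq, hd, e.finrank_eq]

theorem isPlus_iff_of_equiv {V' : Type*} [AddCommGroup V'] [Module F V'] {Q' : QuadraticForm F V'}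
    (e : V ≃ₗ[F] V') (he : ∀ v, Q' (e v) = Q v) : IsPlus Q ↔ IsPlus Q' :=
  ⟨fun h => h.of_equiv e he, fun h => h.of_equiv e.symm fun v => by
    rw [← he, LinearEquiv.apply_symm_apply]⟩

/-- the product of two subspaces as a product space -/
def prodSub {V' : Type*} [AddCommGroup V'] [Module F V'] (U : Submodule F V)
    (U' : Submodule F V') : (U.prod U') ≃ₗ[F] (U × U') where
  toFun := fun x => (⟨x.1.1, x.2.1⟩, ⟨x.1.2, x.2.2⟩)
  invFun := fun x => ⟨(x.1.1, x.2.1), x.1.2, x.2.2⟩
  map_add' := fun _ _ => rfl
  map_smul' := fun _ _ => rfl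
  left_inv := fun _ => rfl
  right_inv := fun _ => rfl

theorem IsPlus.osum {V' : Type*} [AddCommGroup V'] [Module F V'] {Q' : QuadraticForm F V'}
    [FiniteDimensional F V] [FiniteDimensional F V']
    (h : IsPlus Q) (h' : IsPlus Q') : IsPlus (osum Q Q') := by
  obtain ⟨U, hU, hd⟩ := h
  obtain ⟨U', hU', hd'⟩ := h'
  refine ⟨U.prod U', ?_, ?_⟩
  · intro u hu
    rw [osum_apply, hU _ hu.1, hU' _ hu.2, add_zero]
  · have e : finrank F (U.prod U') = finrank F U + finrank F U' := by
      rw [(prodSub U U').finrank_eq, Module.finrank_prod]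
    rw [e, Module.finrank_prod, mul_add, hd, hd']

end Cfsg.Agent.H955
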