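import Mathlib
import Cfsg.Agent.ClassicalGeometry.NegOneOmega
import Cfsg.Agent.H955.QMinus
set_option linter.all false

/-!
# The number of vectors with `Q v = 1` in an even-dimensional quadratic space over a finite field
-/

set_option autoImplicit false

namespace Cfsg.Agent.H955

open Module QuadraticMap Cfsg.Agent.LieClassical.OrthCore Cfsg.Agent.LieClassical.OrthTrans
open Cfsg.Agent.LieClassical.QuadForms

universe u v

section Model

variable {F : Type u} [Field F] [Finite F]

/-- an anisotropic binary form takes the value one exactly `q + 1` times. -/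
theorem card_binForm_one {a b : F}
    (hab : ∀ z₁ z₂ : F, z₁ ^ 2 + a * z₁ * z₂ + b * z₂ ^ 2 = 0 → z₁ = 0 ∧ z₂ = 0) :
    Nat.card {z : Fin 2 → F // binForm F a b z = 1} = Nat.card F + 1 := by
  classical
  have := Fintype.ofFinite F
  by_cases h2 : (2 : F) = 0
  · have hchar : CharP F 2 := CharTwo.of_one_ne_zero_of_two_eq_zero one_ne_zero h2
    let φ : Fˣ × {z : Fin 2 → F // binForm F a b z = 1} → {z : Fin 2 → F // z ≠ 0} :=
      fun p => ⟨(p.1 : F) • p.2.1, fun h => by
        have h1 : p.2.1 = 0 := (smul_eq_zero.1 h).resolve_left p.1.ne_zero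
        have h3 := p.2.2
        rw [h1, map_zero] at h3
        exact zero_ne_one h3⟩
    have hφ : Function.Bijective φ := by
      constructor
      · rintro ⟨s, z, hz⟩ ⟨s', z', hz'⟩ h
        have h1 : (s : F) • z = (s' : F) • z' := congrArg Subtype.val h
        have h3 : (s : F) * s = (s' : F) * s' := by
          have := congrArg (binForm F a b) h1
          rw [QuadraticMap.map_smul, QuadraticMap.map_smul, hz, hz', smul_eq_mul, smul_eq_mul,
            mul_one, mul_one] at this
          exact this
        have h4 : (s : F) = s' := by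
          have h5 : ((s : F) - s') ^ 2 = 0 := by
            rw [sub_sq, pow_two, h3, pow_two]
            have : (2 : F) * s * s' = 0 := by rw [h2]; ring
            rw [this, sub_zero, CharTwo.add_self_eq_zero]
          exact sub_eq_zero.1 (pow_eq_zero_iff two_ne_zero |>.1 h5)
        have h5 : s = s' := Units.ext h4
        subst h5
        have h6 : z = z' := by
          have := congrArg (fun w => (s : F)⁻¹ • w) h1
          simpa [smul_smul] using this
        subst h6
        rfl
      · rintro ⟨z, hz⟩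
        have hQ : binForm F a b z ≠ 0 := fun h => hz (binForm_aniso hab z h)
        obtain ⟨s, hs⟩ := FiniteField.isSquare_of_char_two (F := F) (ringChar.eq F 2)
          (binForm F a b z)
        have hs0 : s ≠ 0 := by
          rintro rfl
          exact hQ (by rw [hs, mul_zero])
        refine ⟨(Units.mk0 s hs0, ⟨s⁻¹ • z, ?_⟩), ?_⟩
        · rw [QuadraticMap.map_smul, hs, smul_eq_mul]
          field_simp
        · apply Subtype.ext
          change s • (s⁻¹ • z) = z
          rw [smul_smul, mul_inv_cancel₀ hs0, one_smul]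
    have h3 := Nat.card_congr (Equiv.ofBijective φ hφ)
    rw [Nat.card_prod, Nat.card_units] at h3
    have h4 : Nat.card {z : Fin 2 → F // z ≠ 0} = Nat.card F ^ 2 - 1 := by
      rw [Nat.card_eq_fintype_card, Fintype.card_subtype_compl, Fintype.card_fun, Fintype.card_fin,
        Nat.card_eq_fintype_card]
      simp
    rw [h4] at h3
    have hq : 1 < Nat.card F := Finite.one_lt_card
    obtain ⟨t, ht⟩ : ∃ t, Nat.card F = t + 2 := ⟨Nat.card F - 2, by omega⟩
    rw [ht] at h3 ⊢
    have h5 : (t + 2) ^ 2 - 1 = (t + 1) * (t + 3) := by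
      have : (t + 2) ^ 2 = (t + 1) * (t + 3) + 1 := by ring
      omega
    rw [h5] at h3
    have h6 : t + 2 - 1 = t + 1 := by omega
    rw [h6] at h3
    exact Nat.eq_of_mul_eq_mul_left (by omega) h3
  · have h := Cfsg.Agent.ClassicalGeometry.NegOneOmega.card_binary h2 a b hab
    rw [Nat.card_eq_fintype_card (α := F), ← h, Nat.card_eq_fintype_card]
    refine Fintype.card_congr (Equiv.subtypeEquivRight fun z => ?_)
    rw [binForm_apply]

theorem card_plus_one (m : ℕ) :
    Nat.card F * Nat.card {v : Fin m ⊕ Fin m → F // plusForm m F v = 1} + Nat.card F ^ m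
      = Nat.card F ^ (2 * m) := by
  classical
  have := Fintype.ofFinite F
  have h := Cfsg.Agent.ClassicalGeometry.NegOneOmega.card_hyperbolic (F := F) (S := Unit)
    (fun _ => 0) m 1
  have h1 : Fintype.card {s : Unit // (0 : F) = 1} = 0 := by
    rw [Fintype.card_eq_zero_iff]
    exact ⟨fun s => zero_ne_one s.2⟩
  rw [h1, Fintype.card_unit, mul_one, mul_one, mul_zero, add_zero] at h
  rw [Nat.card_eq_fintype_card (α := F)]
  rw [← h]
  congr 2
  rw [Nat.card_eq_fintype_card]
  refine Fintype.card_congr
    { toFun := fun v => ⟨(fun i => v.1 (.inl i), (fun i => v.1 (.inr i), ())), by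
        have := v.2
        rw [plusForm_apply] at this
        simpa using this⟩
      invFun := fun p => ⟨Sum.elim p.1.1 p.1.2.1, by
        rw [plusForm_apply]
        have := p.2
        simpa using this⟩
      left_inv := fun v => by
        apply Subtype.ext
        funext x
        rcases x with i | i <;> rfl
      right_inv := fun p => rfl }

theorem card_minus_one (m : ℕ) {a b : F}
    (hab : ∀ z₁ z₂ : F, z₁ ^ 2 + a * z₁ * z₂ + b * z₂ ^ 2 = 0 → z₁ = 0 ∧ z₂ = 0) :
    Nat.card F * Nat.card {v : (Fin m ⊕ Fin m) ⊕ Fin 2 → F // minusForm m F a b v = 1}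
      = Nat.card F ^ (2 * (m + 1)) + Nat.card F ^ (m + 1) := by
  classical
  have := Fintype.ofFinite F
  have h := Cfsg.Agent.ClassicalGeometry.NegOneOmega.card_hyperbolic (F := F) (S := Fin 2 → F)
    (fun z => binForm F a b z) m 1
  have h1 := card_binForm_one hab
  rw [Nat.card_eq_fintype_card, Nat.card_eq_fintype_card] at h1
  rw [h1, Fintype.card_fun, Fintype.card_fin] at h
  rw [Nat.card_eq_fintype_card (α := F)]
  have h2 : Nat.card {v : (Fin m ⊕ Fin m) ⊕ Fin 2 → F // minusForm m F a b v = 1} =
      Fintype.card {p : (Fin m → F) × ((Fin m → F) × (Fin 2 → F)) //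
        ∑ i, p.1 i * p.2.1 i + binForm F a b p.2.2 = 1} := by
    rw [Nat.card_eq_fintype_card]
    refine Fintype.card_congr
      { toFun := fun v => ⟨(fun i => v.1 (.inl (.inl i)), (fun i => v.1 (.inl (.inr i)),
            fun i => v.1 (.inr i))), by
          have := v.2
          rw [minusForm_apply, plusForm_apply] at this
          exact this⟩
        invFun := fun p => ⟨Sum.elim (Sum.elim p.1.1 p.1.2.1) p.1.2.2, by
          rw [minusForm_apply, plusForm_apply]
          exact p.2⟩
        left_inv := fun v => by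
          apply Subtype.ext
          funext x
          rcases x with (i | i) | i <;> rfl
        right_inv := fun p => rfl }
  rw [h2]
  refine Nat.add_right_cancel (m := Fintype.card F ^ m * Fintype.card F ^ 2) ?_
  rw [h]
  ring

end Model

section Abstract

variable {F : Type u} [Field F] [Finite F] {V : Type v} [AddCommGroup V] [Module F V]
  [FiniteDimensional F V] {Q : QuadraticForm F V}

theorem card_eq_one_of_isPlus (hQ : Nondeg Q) {m : ℕ} (hd : finrank F V = 2 * m) (hP : IsPlus Q) :
    Nat.card F * Nat.card {v : V // Q v = 1} + Nat.card F ^ m = Nat.card F ^ (2 * m) := by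
  obtain ⟨e, he⟩ := exists_plus_equiv m Q hQ hd hP
  rw [← card_plus_one]
  congr 2
  exact Nat.card_congr (e.toEquiv.subtypeEquiv fun v => by
    change Q v = 1 ↔ plusForm m F (e v) = 1
    rw [he])

theorem card_eq_one_of_not_isPlus (hQ : Nondeg Q) {m : ℕ} (hd : finrank F V = 2 * m)
    (hP : ¬ IsPlus Q) :
    Nat.card F * Nat.card {v : V // Q v = 1} = Nat.card F ^ (2 * m) + Nat.card F ^ m := by
  obtain ⟨a, b, hab⟩ := exists_aniso_coeff F
  have hm0 : m ≠ 0 := by
    rintro rfl
    exact hP (isPlus_of_finrank_zero (by omega))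
  obtain ⟨k, rfl⟩ := Nat.exists_eq_succ_of_ne_zero hm0
  obtain ⟨e, he⟩ := exists_minus_equiv hab k Q hQ hd hP
  rw [← card_minus_one k hab]
  congr 1
  exact Nat.card_congr (e.toEquiv.subtypeEquiv fun v => by
    change Q v = 1 ↔ minusForm k F a b (e v) = 1
    rw [he])

/-- **the type of a space with a fixed-point-free isometry of odd prime order.** -/
theorem pow_eq_of_free (hQ : Nondeg Q) {m : ℕ} (hd : finrank F V = 2 * m) {T : V ≃ₗ[F] V}
    (hT : T ∈ O Q) {r : ℕ} [hr : Fact r.Prime] (hrq : ¬ r ∣ Nat.card F) (hTr : T ^ r = 1)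
    (hf : ∀ v, T v = v → v = 0) :
    (IsPlus Q → (Nat.card F : ZMod r) ^ m = 1) ∧ (¬ IsPlus Q → (Nat.card F : ZMod r) ^ m = -1) := by
  have hfin : Finite V := Module.finite_of_finite F
  have h1 : r ∣ Nat.card {v : V // Q v = 1} := by
    refine dvd_card_of_free_linear hTr (fun v => Q v = 1) (fun v hv => ?_) (fun v hv hv' => ?_)
    · rw [mem_O.1 hT]; exact hv
    · rw [hf v hv', map_zero] at hv
      exact zero_ne_one hv
  have h2 : (Nat.card {v : V // Q v = 1} : ZMod r) = 0 := (ZMod.natCast_eq_zero_iff _ _).2 h1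
  have hq0 : (Nat.card F : ZMod r) ≠ 0 := fun h => hrq ((ZMod.natCast_eq_zero_iff _ _).1 h)
  constructor
  · intro hP
    have h3 := congrArg (Nat.cast : ℕ → ZMod r) (card_eq_one_of_isPlus hQ hd hP)
    push_cast at h3
    rw [h2, mul_zero, zero_add, two_mul, pow_add] at h3
    have h4 : (Nat.card F : ZMod r) ^ m * ((Nat.card F : ZMod r) ^ m - 1) = 0 := by
      linear_combination -h3
    exact sub_eq_zero.1 ((mul_eq_zero.1 h4).resolve_left (pow_ne_zero _ hq0))
  · intro hP
    have h3 := congrArg (Nat.cast : ℕ → ZMod r) (card_eq_one_of_not_isPlus hQ hd hP)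
    push_cast at h3
    rw [h2, mul_zero, two_mul, pow_add] at h3
    have h4 : (Nat.card F : ZMod r) ^ m * ((Nat.card F : ZMod r) ^ m + 1) = 0 := by
      linear_combination -h3
    exact eq_neg_of_add_eq_zero_left ((mul_eq_zero.1 h4).resolve_left (pow_ne_zero _ hq0))

theorem isPlus_iff_of_free (hQ : Nondeg Q) {m : ℕ} (hd : finrank F V = 2 * m) {T : V ≃ₗ[F] V}
    (hT : T ∈ O Q) {r : ℕ} [hr : Fact r.Prime] (h2 : 2 < r) (hrq : ¬ r ∣ Nat.card F)
    (hTr : T ^ r = 1) (hf : ∀ v, T v = v → v = 0) :
    IsPlus Q ↔ (Nat.card F : ZMod r) ^ m = 1 := by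
  obtain ⟨h3, h4⟩ := pow_eq_of_free hQ hd hT hrq hTr hf
  refine ⟨h3, fun h => ?_⟩
  by_contra hP
  exact one_ne_neg_one_zmod h2 (h.symm.trans (h4 hP))

end Abstract

end Cfsg.Agent.H955
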