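import Mathlib
import Cfsg.Agent.H955.QBlocks
import Cfsg.Agent.H955.QCount
import Cfsg.Agent.S0287
import Cfsg.Agent.S0288
set_option linter.all false

/-!
# Isometries of odd prime order `r` (different from the characteristic) of a quadratic space

* `glue`: `O(W) × O(W^⊥) → O(V)`.
* `blocks_of_comS` : dimension `c * s` and type of an invariant nondegenerate space without fixed
  vectors.
* `exists_blocks_quad` : invariant nondegenerate subspaces of every dimension `c * s`.
* `exists_free` : a space of dimension `c * s` and the right type has a fixed-point-free isometry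
  of order `r`.
-/

set_option autoImplicit false

namespace Cfsg.Agent.H955

open Module QuadraticMap Cfsg.Agent.LieClassical.OrthCore Cfsg.Agent.LieClassical.OrthTrans
open Cfsg.Agent.LieClassical.OrthFinite Cfsg.Agent.LieClassical.QuadForms

universe u v w

section Transport

variable {F : Type u} [Field F] {V : Type v} [AddCommGroup V] [Module F V]
  {V' : Type w} [AddCommGroup V'] [Module F V'] {Q : QuadraticForm F V} {Q' : QuadraticForm F V'}

/-- transport of automorphisms along a linear equivalence -/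
def tr (e : V ≃ₗ[F] V') : (V ≃ₗ[F] V) ≃* (V' ≃ₗ[F] V') where
  toFun g := (e.symm.trans g).trans e
  invFun g := (e.trans g).trans e.symm
  left_inv g := by ext x; simp
  right_inv g := by ext x; simp
  map_mul' g h := by ext x; simp

@[simp] theorem tr_apply (e : V ≃ₗ[F] V') (g : V ≃ₗ[F] V) (x : V') : tr e g x = e (g (e.symm x)) := rfl

theorem tr_mem_O (e : V ≃ₗ[F] V') (he : ∀ v, Q' (e v) = Q v) {g : V ≃ₗ[F] V} :
    tr e g ∈ O Q' ↔ g ∈ O Q := by
  constructor
  · intro h v
    have := h (e v)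
    rw [tr_apply, he, he, LinearEquiv.symm_apply_apply] at this
    exact this
  · intro h v
    rw [tr_apply, he, h, ← he, LinearEquiv.apply_symm_apply]

/-- isometric spaces have isomorphic isometry groups. -/
def OEquiv (e : V ≃ₗ[F] V') (he : ∀ v, Q' (e v) = Q v) : O Q ≃* O Q' where
  toFun g := ⟨tr e g.1, (tr_mem_O e he).2 g.2⟩
  invFun g := ⟨(tr e).symm g.1, (tr_mem_O e he).1 (by rw [MulEquiv.apply_symm_apply]; exact g.2)⟩
  left_inv g := Subtype.ext ((tr e).symm_apply_apply g.1)
  right_inv g := Subtype.ext ((tr e).apply_symm_apply g.1)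
  map_mul' g h := Subtype.ext (map_mul (tr e) g.1 h.1)

theorem fixS_tr (e : V ≃ₗ[F] V') (g : V ≃ₗ[F] V) :
    fixS (tr e g) = (fixS g).map (e : V →ₗ[F] V') := by
  ext x
  rw [mem_fixS, tr_apply, Submodule.mem_map]
  constructor
  · intro h
    refine ⟨e.symm x, ?_, e.apply_symm_apply x⟩
    rw [mem_fixS]
    apply e.injective
    rw [h, e.apply_symm_apply]
  · rintro ⟨y, hy, rfl⟩
    change e (g (e.symm (e y))) = e y
    rw [e.symm_apply_apply, mem_fixS.1 hy]

end Transport

section Glue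

variable {F : Type u} [Field F] {V : Type v} [AddCommGroup V] [Module F V]
  [FiniteDimensional F V] {Q : QuadraticForm F V}

/-- `T₁` on `W`, `T₂` on `W^⊥` -/
noncomputable def glue {W : Submodule F V} (h : Nondeg (res Q W)) :
    (W ≃ₗ[F] W) × (perp Q W ≃ₗ[F] perp Q W) →* (V ≃ₗ[F] V) where
  toFun p := tr (decomp h) (LinearEquiv.prodCongr p.1 p.2)
  map_one' := by
    ext x
    change decomp h (LinearEquiv.prodCongr (LinearEquiv.refl F W) (LinearEquiv.refl F (perp Q W))
      ((decomp h).symm x)) = x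
    have h1 : ∀ y : W × perp Q W, LinearEquiv.prodCongr (LinearEquiv.refl F W)
      (LinearEquiv.refl F (perp Q W)) y = y := fun y => rfl
    rw [h1, LinearEquiv.apply_symm_apply]
  map_mul' p p' := by
    rw [← map_mul]
    rfl

theorem glue_apply {W : Submodule F V} (h : Nondeg (res Q W))
    (p : (W ≃ₗ[F] W) × (perp Q W ≃ₗ[F] perp Q W)) (a : W) (b : perp Q W) :
    glue h p ((a : V) + (b : V)) = (p.1 a : V) + (p.2 b : V) := by
  have h1 : ((a : V) + (b : V)) = decomp h (a, b) := rfl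
  rw [h1]
  change decomp h (LinearEquiv.prodCongr p.1 p.2 ((decomp h).symm (decomp h (a, b)))) = _
  rw [LinearEquiv.symm_apply_apply]
  rfl

theorem glue_left {W : Submodule F V} (h : Nondeg (res Q W))
    (p : (W ≃ₗ[F] W) × (perp Q W ≃ₗ[F] perp Q W)) (a : W) :
    glue h p (a : V) = (p.1 a : V) := by
  have := glue_apply h p a 0
  simpa using this

theorem glue_right {W : Submodule F V} (h : Nondeg (res Q W))
    (p : (W ≃ₗ[F] W) × (perp Q W ≃ₗ[F] perp Q W)) (b : perp Q W) :
    glue h p (b : V) = (p.2 b : V) := by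
  have := glue_apply h p 0 b
  simpa using this

theorem exists_add_perp {W : Submodule F V} (h : Nondeg (res Q W)) (v : V) :
    ∃ (a : W) (b : perp Q W), (a : V) + (b : V) = v :=
  ⟨((decomp h).symm v).1, ((decomp h).symm v).2, (decomp h).apply_symm_apply v⟩

theorem glue_mem_O {W : Submodule F V} (h : Nondeg (res Q W))
    {p : (W ≃ₗ[F] W) × (perp Q W ≃ₗ[F] perp Q W)} :
    glue h p ∈ O Q ↔ p.1 ∈ O (res Q W) ∧ p.2 ∈ O (res Q (perp Q W)) := by
  constructor
  · intro hp
    refine ⟨fun a => ?_, fun b => ?_⟩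
    · change Q (p.1 a : V) = Q (a : V)
      rw [← glue_left h p a, hp]
    · change Q (p.2 b : V) = Q (b : V)
      rw [← glue_right h p b, hp]
  · rintro ⟨h1, h2⟩ v
    obtain ⟨a, b, rfl⟩ := exists_add_perp h v
    rw [glue_apply, Q_add_of_perp (p.1 a).2 (p.2 b).2, Q_add_of_perp a.2 b.2]
    congr 1
    · exact h1 a
    · exact h2 b

theorem glue_injective {W : Submodule F V} (h : Nondeg (res Q W)) :
    Function.Injective (glue h) := by
  intro p p' hp
  refine Prod.ext ?_ ?_
  · ext a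
    rw [← glue_left h p a, ← glue_left h p' a, hp]
  · ext b
    rw [← glue_right h p b, ← glue_right h p' b, hp]

/-- fixed vectors of a glued map. -/
theorem glue_fix {W : Submodule F V} (h : Nondeg (res Q W))
    {p : (W ≃ₗ[F] W) × (perp Q W ≃ₗ[F] perp Q W)} {a : W} {b : perp Q W} :
    glue h p ((a : V) + (b : V)) = (a : V) + (b : V) ↔ p.1 a = a ∧ p.2 b = b := by
  rw [glue_apply]
  constructor
  · intro hab
    have h1 : decomp h (p.1 a, p.2 b) = decomp h (a, b) := hab
    have h2 := (decomp h).injective h1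
    exact ⟨congrArg Prod.fst h2, congrArg Prod.snd h2⟩
  · rintro ⟨h1, h2⟩
    rw [h1, h2]

/-- `T` on `W`, identity on `W^⊥` -/
noncomputable def ext1 {W : Submodule F V} (h : Nondeg (res Q W)) (T : W ≃ₗ[F] W) : V ≃ₗ[F] V :=
  glue h (T, 1)

theorem ext1_mem_O {W : Submodule F V} (h : Nondeg (res Q W)) {T : W ≃ₗ[F] W}
    (hT : T ∈ O (res Q W)) : ext1 h T ∈ O Q := (glue_mem_O h).2 ⟨hT, one_mem _⟩

theorem ext1_pow {W : Submodule F V} (h : Nondeg (res Q W)) {T : W ≃ₗ[F] W} {n : ℕ}
    (hT : T ^ n = 1) : ext1 h T ^ n = 1 := by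
  rw [ext1, ← map_pow]
  have : ((T, 1) : (W ≃ₗ[F] W) × (perp Q W ≃ₗ[F] perp Q W)) ^ n = 1 := by
    rw [Prod.pow_mk, hT, one_pow]
    rfl
  rw [this, map_one]

theorem ext1_left {W : Submodule F V} (h : Nondeg (res Q W)) (T : W ≃ₗ[F] W) (a : W) :
    ext1 h T (a : V) = (T a : V) := glue_left h _ a

theorem ext1_right {W : Submodule F V} (h : Nondeg (res Q W)) (T : W ≃ₗ[F] W) {b : V}
    (hb : b ∈ perp Q W) : ext1 h T b = b := glue_right h (T, 1) ⟨b, hb⟩

theorem fixS_ext1 {W : Submodule F V} (h : Nondeg (res Q W)) {T : W ≃ₗ[F] W}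
    (hf : ∀ w, T w = w → w = 0) : fixS (ext1 h T) = perp Q W := by
  ext v
  rw [mem_fixS]
  constructor
  · intro hv
    obtain ⟨a, b, rfl⟩ := exists_add_perp h v
    have h1 := (glue_fix h).1 hv
    rw [hf a h1.1]
    simp
  · intro hv
    exact ext1_right h T hv

theorem comS_ext1 {W : Submodule F V} (h : Nondeg (res Q W)) {T : W ≃ₗ[F] W}
    (hf : ∀ w, T w = w → w = 0) : comS (ext1 h T) = W := by
  have hle : comS (ext1 h T) ≤ W := by
    intro v hv
    obtain ⟨y, rfl⟩ := mem_comS.1 hv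
    obtain ⟨a, b, rfl⟩ := exists_add_perp h y
    rw [map_add, ext1_left, ext1_right h T b.2, add_sub_add_right_eq_sub]
    exact W.sub_mem (T a).2 a.2
  apply Submodule.eq_of_le_of_finrank_eq hle
  have h1 := finrank_fixS_add_comS (ext1 h T)
  rw [fixS_ext1 h hf] at h1
  have h2 := Submodule.finrank_add_eq_of_isCompl (isCompl_perp h)
  omega

end Glue

section Bridge

variable {F : Type u} [Field F] {V : Type v} [AddCommGroup V] [Module F V]
  {Q : QuadraticForm F V}

theorem epsSymm_polar (Q : QuadraticForm F V) : EpsSymm (polarBilin Q) 1 := fun u v => by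
  rw [one_mul]
  exact polar_comm Q u v

theorem ndOn_polar_iff {W : Submodule F V} : NdOn (polarBilin Q) W ↔ Nondeg (res Q W) :=
  nondeg_res_iff.symm

theorem orth_polar (W : Submodule F V) : orth (polarBilin Q) W = perp Q W := rfl

theorem resT_mem_O [FiniteDimensional F V] {T : V ≃ₗ[F] V} (hT : T ∈ O Q) {W : Submodule F V}
    (hW : Inv T W) : resT T W hW ∈ O (res Q W) := fun w => hT (w : V)

theorem inv_perp [FiniteDimensional F V] {T : V ≃ₗ[F] V} (hT : T ∈ O Q) {W : Submodule F V}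
    (hW : Inv T W) : Inv T (perp Q W) :=
  inv_orth (B := polarBilin Q) (fun u v => polar_map hT u v) hW

theorem nondeg_comS [FiniteDimensional F V] (hQ : Nondeg Q) {T : V ≃ₗ[F] V} (hT : T ∈ O Q)
    {r : ℕ} (hrF : (r : F) ≠ 0) (hTr : T ^ r = 1) : Nondeg (res Q (comS T)) := by
  rw [nondeg_res_iff]
  intro x hx hxy
  refine hQ x fun y => ?_
  obtain ⟨a, ha, b, hb, rfl⟩ : ∃ a ∈ fixS T, ∃ b ∈ comS T, a + b = y := by
    have h1 : y ∈ fixS T ⊔ comS T := by rw [(isCompl_fixS_comS hrF hTr).sup_eq_top]; trivial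
    exact Submodule.mem_sup.1 h1
  rw [polar_add_right, hxy b hb, add_zero]
  exact ortho_fixS_comS (polar Q) (fun u v w => by rw [polar_sub_left]) (fun u v => polar_map hT u v)
    hx ha

theorem perp_comS [FiniteDimensional F V] (hQ : Nondeg Q) {T : V ≃ₗ[F] V} (hT : T ∈ O Q) :
    perp Q (comS T) = fixS T := by
  symm
  apply Submodule.eq_of_le_of_finrank_eq
  · intro v hv w hw
    exact ortho_fixS_comS (polar Q) (fun u v w => by rw [polar_sub_left])
      (fun u v => polar_map hT u v) hw hv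
  · have h1 := finrank_fixS_add_comS T
    have h2 := finrank_add_perp hQ (comS T)
    omega

theorem perp_fixS [FiniteDimensional F V] (hQ : Nondeg Q) {T : V ≃ₗ[F] V} (hT : T ∈ O Q) :
    perp Q (fixS T) = comS T := by
  rw [← perp_comS hQ hT, perp_perp hQ]

theorem free_comS [FiniteDimensional F V] {T : V ≃ₗ[F] V} {r : ℕ} (hrF : (r : F) ≠ 0)
    (hTr : T ^ r = 1) : ∀ w ∈ comS T, T w = w → w = 0 := fun w hw hw' =>
  Submodule.disjoint_def.1 (disjoint_fixS_comS hrF hTr) w (mem_fixS.2 hw') hw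

theorem inv_comS (T : V ≃ₗ[F] V) : Inv T (comS T) := fun _ hw => map_mem_comS hw

end Bridge

section Blocks

variable {F : Type u} [Field F] [Finite F] {V : Type v} [AddCommGroup V] [Module F V]
  [FiniteDimensional F V] {Q : QuadraticForm F V} {T : V ≃ₗ[F] V} {r : ℕ} [hrp : Fact r.Prime]

theorem natCast_ne_zero_of_not_dvd (hr : ¬ r ∣ Nat.card F) : (r : F) ≠ 0 := by
  intro h
  obtain ⟨p, hp⟩ := CharP.exists F
  have h1 := (CharP.cast_eq_zero_iff F p r).1 h
  have hpp : p.Prime := (CharP.char_is_prime_or_zero F p).resolve_right fun h0 => by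
    subst h0
    exact CharP.char_ne_zero_of_finite F 0 rfl
  have h2 : p = r := (Nat.prime_dvd_prime_iff_eq hpp hrp.out).1 h1
  subst h2
  have := Fintype.ofFinite F
  obtain ⟨n, -, hn⟩ := FiniteField.card F p
  rw [Nat.card_eq_fintype_card, hn] at hr
  exact hr (dvd_pow_self p n.ne_zero)

omit [Finite F] in
theorem even_quad (h2 : 2 < r) (hT : T ∈ O Q) (hTr : T ^ r = 1) (W : Submodule F V)
    (hW : Inv T W) (hWn : NdOn (polarBilin Q) W) (hf : ∀ w ∈ W, T w = w → w = 0) :
    Even (finrank F W) :=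
  even_of_symm (B := polarBilin Q) (fun u v => polar_comm Q u v) (fun u v => polar_map hT u v)
    (hrp.out.odd_of_ne_two (by omega)) hTr hW hWn hf

/-- **the type of a space of dimension `c * s` with a fixed-point-free isometry.** -/
theorem isPlus_iff_of_cc (hQ : Nondeg Q) (hT : T ∈ O Q) (h2 : 2 < r) (hr : ¬ r ∣ Nat.card F)
    (hTr : T ^ r = 1) (hf : ∀ v, T v = v → v = 0) {s : ℕ}
    (hd : finrank F V = cc (Nat.card F) r * s) :
    IsPlus Q ↔ (Odd (orderOf (Nat.card F : ZMod r)) ∨ Even s) := by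
  set i := orderOf (Nat.card F : ZMod r) with hi
  by_cases he : Even i
  · have hc : cc (Nat.card F) r = i := by rw [cc, if_pos he]
    obtain ⟨j, hj⟩ := he
    have hd' : finrank F V = 2 * (j * s) := by rw [hd, hc, hj]; ring
    rw [isPlus_iff_of_free hQ hd' hT h2 hr hTr hf, pow_mul]
    have h3 : (Nat.card F : ZMod r) ^ j = -1 := by
      have := pow_half_eq_neg_one (q := Nat.card F) hr ⟨j, hj⟩
      rw [← hi] at this
      rwa [show i / 2 = j by omega] at this
    rw [h3]
    have h4 : ¬ Odd i := Nat.not_odd_iff_even.2 ⟨j, hj⟩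
    constructor
    · intro h
      refine Or.inr ?_
      by_contra hs
      rw [Nat.not_even_iff_odd] at hs
      rw [hs.neg_one_pow] at h
      exact one_ne_neg_one_zmod h2 h.symm
    · rintro (h | h)
      · exact absurd h h4
      · exact h.neg_one_pow
  · have hc : cc (Nat.card F) r = 2 * i := by rw [cc, if_neg he]
    have hd' : finrank F V = 2 * (i * s) := by rw [hd, hc]; ring
    rw [isPlus_iff_of_free hQ hd' hT h2 hr hTr hf, pow_mul, hi, pow_orderOf_eq_one, one_pow]
    simp only [true_iff]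
    exact Or.inl (Nat.not_even_iff_odd.1 he)

/-- type of an invariant nondegenerate subspace without fixed vectors -/
theorem isPlus_res_iff (hT : T ∈ O Q) (h2 : 2 < r) (hr : ¬ r ∣ Nat.card F)
    (hTr : T ^ r = 1) {W : Submodule F V} (hW : Inv T W) (hWn : Nondeg (res Q W))
    (hf : ∀ w ∈ W, T w = w → w = 0) {s : ℕ} (hd : finrank F W = cc (Nat.card F) r * s) :
    IsPlus (res Q W) ↔ (Odd (orderOf (Nat.card F : ZMod r)) ∨ Even s) :=
  isPlus_iff_of_cc hWn (resT_mem_O hT hW) h2 hr (resT_pow_eq_one hTr)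
    (fun w hw => Subtype.ext (hf w w.2 (congrArg Subtype.val hw))) hd

/-- **(I1)** dimension and type of an invariant nondegenerate subspace without fixed vectors. -/
theorem blocks_of_inv (hT : T ∈ O Q) (h2 : 2 < r) (hr : ¬ r ∣ Nat.card F)
    (hTr : T ^ r = 1) {W : Submodule F V} (hW : Inv T W) (hWn : Nondeg (res Q W))
    (hf : ∀ w ∈ W, T w = w → w = 0) : ∃ t, finrank F W = cc (Nat.card F) r * t ∧
      (IsPlus (res Q W) ↔ (Odd (orderOf (Nat.card F : ZMod r)) ∨ Even t)) := by
  obtain ⟨t, ht⟩ := cc_dvd_finrank (B := polarBilin Q) hTr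
    (fun W' h1 h3 h4 => even_quad h2 hT hTr W' h1 h3 h4) hW (ndOn_polar_iff.2 hWn) hf
  exact ⟨t, ht, isPlus_res_iff hT h2 hr hTr hW hWn hf ht⟩

theorem blocks_of_comS (hQ : Nondeg Q) (hT : T ∈ O Q) (h2 : 2 < r) (hr : ¬ r ∣ Nat.card F)
    (hTr : T ^ r = 1) : Nondeg (res Q (comS T)) ∧ ∃ t, finrank F (comS T) = cc (Nat.card F) r * t ∧
      (IsPlus (res Q (comS T)) ↔ (Odd (orderOf (Nat.card F : ZMod r)) ∨ Even t)) := by
  have hrF := natCast_ne_zero_of_not_dvd hr
  have h1 := nondeg_comS hQ hT hrF hTr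
  exact ⟨h1, blocks_of_inv hT h2 hr hTr (inv_comS T) h1 (free_comS hrF hTr)⟩

/-- **(I2)** invariant nondegenerate subspaces of every dimension `c * s`. -/
theorem exists_blocks_quad (hT : T ∈ O Q) (h2 : 2 < r) (hr : ¬ r ∣ Nat.card F)
    (hTr : T ^ r = 1) {W : Submodule F V} (hW : Inv T W) (hWn : Nondeg (res Q W))
    (hf : ∀ w ∈ W, T w = w → w = 0) (s : ℕ) (hs : cc (Nat.card F) r * s ≤ finrank F W) :
    ∃ D ≤ W, Inv T D ∧ Nondeg (res Q D) ∧ finrank F D = cc (Nat.card F) r * s ∧
      (IsPlus (res Q D) ↔ (Odd (orderOf (Nat.card F : ZMod r)) ∨ Even s)) := by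
  have hrF := natCast_ne_zero_of_not_dvd hr
  obtain ⟨D, hD, hDi, hDn, hDf⟩ := exists_blocks (B := polarBilin Q) (epsSymm_polar Q)
    (fun u v => polar_map hT u v) h2 hr hrF hTr
    (fun W' h1 h3 h4 => even_quad h2 hT hTr W' h1 h3 h4) hW (ndOn_polar_iff.2 hWn) hf s hs
  exact ⟨D, hD, hDi, ndOn_polar_iff.1 hDn, hDf, isPlus_res_iff hT h2 hr hTr hDi
    (ndOn_polar_iff.1 hDn) (fun w hw => hf w (hD hw)) hDf⟩

end Blocks

section Card

variable {F : Type u} [Field F] [Finite F] {V : Type v} [AddCommGroup V] [Module F V]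
  [FiniteDimensional F V] {Q : QuadraticForm F V}

theorem card_O_of_isPlus (hQ : Nondeg Q) {m : ℕ} (hm : 1 ≤ m) (hd : finrank F V = 2 * m)
    (hP : IsPlus Q) : Nat.card (O Q) = 2 * Nat.card F ^ (m * (m - 1)) * (Nat.card F ^ m - 1) *
      ∏ i ∈ Finset.range (m - 1), (Nat.card F ^ (2 * (i + 1)) - 1) := by
  have := Fintype.ofFinite F
  obtain ⟨e, he⟩ := exists_plus_equiv m Q hQ hd hP
  rw [Nat.card_congr (OEquiv e he).toEquiv, ← Nat.card_congr (isometryEquiv (plusForm m F)).toEquiv,
    coe_plusForm]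
  exact Cfsg.Agent.S0287.result (Nat.card_eq_fintype_card (α := F)).symm m hm

theorem card_O_of_not_isPlus (hQ : Nondeg Q) {m : ℕ} (hd : finrank F V = 2 * m)
    (hP : ¬ IsPlus Q) : Nat.card (O Q) = 2 * Nat.card F ^ (m * (m - 1)) * (Nat.card F ^ m + 1) *
      ∏ i ∈ Finset.range (m - 1), (Nat.card F ^ (2 * (i + 1)) - 1) := by
  have := Fintype.ofFinite F
  obtain ⟨a, b, hab⟩ := exists_aniso_coeff F
  have hm0 : m ≠ 0 := by
    rintro rfl
    exact hP (isPlus_of_finrank_zero (by omega))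
  obtain ⟨k, rfl⟩ := Nat.exists_eq_succ_of_ne_zero hm0
  obtain ⟨e, he⟩ := exists_minus_equiv hab k Q hQ hd hP
  rw [Nat.card_congr (OEquiv e he).toEquiv,
    ← Nat.card_congr (isometryEquiv (minusForm k F a b)).toEquiv, coe_minusForm]
  exact Cfsg.Agent.S0288.result (Nat.card_eq_fintype_card (α := F)).symm (k + 1) (by omega) a b hab

end Card

section Free

variable {F : Type u} [Field F] [Finite F] {V : Type v} [AddCommGroup V] [Module F V]
  [FiniteDimensional F V] {Q : QuadraticForm F V} {r : ℕ} [hrp : Fact r.Prime]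

theorem exists_free_one (h2 : 2 < r) (hr : ¬ r ∣ Nat.card F) (hQ : Nondeg Q)
    (hd : finrank F V = cc (Nat.card F) r)
    (hP : IsPlus Q ↔ Odd (orderOf (Nat.card F : ZMod r))) :
    ∃ T ∈ O Q, T ^ r = 1 ∧ ∀ v, T v = v → v = 0 := by
  have hfinV : Finite V := Module.finite_of_finite F
  have hrF := natCast_ne_zero_of_not_dvd hr
  have hi0 := orderOf_pos_of_not_dvd hr
  have hq : 1 ≤ Nat.card F := Nat.card_pos
  set i := orderOf (Nat.card F : ZMod r) with hi
  have hdvd : r ∣ Nat.card (O Q) := by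
    by_cases he : Even i
    · obtain ⟨j, hj⟩ := he
      have hc : cc (Nat.card F) r = 2 * j := by
        rw [cc, ← hi, if_pos ⟨j, hj⟩]
        omega
      have hP' : ¬ IsPlus Q := by
        rw [hP, Nat.not_odd_iff_even]
        exact ⟨j, hj⟩
      rw [card_O_of_not_isPlus hQ (hd.trans hc) hP']
      have h3 : r ∣ Nat.card F ^ j + 1 := by
        have := pow_half_eq_neg_one (q := Nat.card F) hr ⟨j, hj⟩
        rw [← hi, show i / 2 = j by omega] at this
        rw [← ZMod.natCast_eq_zero_iff]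
        push_cast
        rw [this]
        ring
      exact Dvd.dvd.mul_right (Dvd.dvd.mul_left h3 _) _
    · have hc : cc (Nat.card F) r = 2 * i := by rw [cc, if_neg he]
      have hP' : IsPlus Q := by
        rw [hP]
        exact Nat.not_even_iff_odd.1 he
      rw [card_O_of_isPlus hQ hi0 (hd.trans hc) hP']
      have h3 : r ∣ Nat.card F ^ i - 1 := (dvd_pow_sub_one_iff hq).2 dvd_rfl
      exact Dvd.dvd.mul_right (Dvd.dvd.mul_left h3 _) _
  have hfinL : Finite (V ≃ₗ[F] V) := Finite.of_injective (fun g : V ≃ₗ[F] V => (g : V → V))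
    DFunLike.coe_injective
  obtain ⟨⟨T, hT⟩, hTo⟩ := exists_prime_orderOf_dvd_card' r hdvd
  have hTr : T ^ r = 1 := by
    have := pow_orderOf_eq_one (⟨T, hT⟩ : O Q)
    rw [hTo] at this
    exact congrArg Subtype.val this
  have hT1 : T ≠ 1 := by
    rintro rfl
    have h1 : orderOf (1 : O Q) = 1 := orderOf_one
    have h3 : (⟨1, hT⟩ : O Q) = 1 := rfl
    rw [h3, h1] at hTo
    omega
  refine ⟨T, hT, hTr, ?_⟩
  obtain ⟨-, t, ht, -⟩ := blocks_of_comS hQ hT h2 hr hTr
  have ht0 : t ≠ 0 := by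
    rintro rfl
    rw [mul_zero, Submodule.finrank_eq_zero] at ht
    apply hT1
    ext v
    have h1 := sub_mem_comS T v
    rw [ht, Submodule.mem_bot, sub_eq_zero] at h1
    exact h1
  have h3 : comS T = ⊤ := by
    apply Submodule.eq_top_of_finrank_eq
    apply le_antisymm (Submodule.finrank_le _)
    rw [ht, hd]
    exact Nat.le_mul_of_pos_right _ (Nat.pos_of_ne_zero ht0)
  intro v hv
  exact free_comS hrF hTr v (by rw [h3]; trivial) hv

/-- **(I3)** a space of dimension `c * s` and the right type has a fixed-point-free isometry with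
`T ^ r = 1`. -/
theorem exists_free (h2 : 2 < r) (hr : ¬ r ∣ Nat.card F) (s : ℕ) :
    ∀ {V : Type v} [AddCommGroup V] [Module F V] [FiniteDimensional F V] {Q : QuadraticForm F V},
    Nondeg Q → finrank F V = cc (Nat.card F) r * s →
    (IsPlus Q ↔ (Odd (orderOf (Nat.card F : ZMod r)) ∨ Even s)) →
    ∃ T ∈ O Q, T ^ r = 1 ∧ ∀ v, T v = v → v = 0 := by
  have hc := cc_pos (q := Nat.card F) hr
  obtain ⟨c2, hc2⟩ := even_cc (Nat.card F) r
  induction s with
  | zero =>
    intro V _ _ _ Q hQ hd hP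
    refine ⟨1, one_mem _, one_pow _, fun v _ => ?_⟩
    have : Subsingleton V := Module.finrank_zero_iff.1 (by rw [hd, mul_zero])
    exact Subsingleton.elim _ _
  | succ s ih =>
    intro V _ _ _ Q hQ hd hP
    rcases Nat.eq_zero_or_pos s with rfl | hs
    · refine exists_free_one h2 hr hQ (by rw [hd, zero_add, mul_one]) ?_
      rw [hP]
      simp
    · have hev : Even (finrank F V) := by rw [hd, hc2]; exact ⟨c2 * (s + 1), by ring⟩
      have hlt : 2 * c2 < finrank F V := by
        rw [hd, mul_add, mul_one]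
        have : 0 < cc (Nat.card F) r * s := Nat.mul_pos hc hs
        omega
      obtain ⟨W, hWn, hWd, hWP⟩ := exists_subspace hQ hev c2 (by omega) hlt
        (Odd (orderOf (Nat.card F : ZMod r)))
      have hWp := nondeg_perp hQ hWn
      have h3 := finrank_add_perp hQ W
      have h4 := isPlus_iff_perp hQ hWn hev (by rw [hWd]; exact even_two_mul c2)
      have hd' : finrank F (perp Q W) = cc (Nat.card F) r * s := by
        rw [hd, mul_add, mul_one] at h3
        omega
      obtain ⟨T1, hT1, hT1r, hT1f⟩ := exists_free_one h2 hr hWn (by omega) hWP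
      obtain ⟨T2, hT2, hT2r, hT2f⟩ := ih hWp hd' (by
        rw [hP, hWP] at h4
        by_cases ho : Odd (orderOf (Nat.card F : ZMod r))
        · simp only [ho, true_or, true_iff] at h4 ⊢
          simpa using h4
        · simp only [ho, false_or, false_iff] at h4 ⊢
          rw [Nat.even_add_one] at h4
          tauto)
      refine ⟨glue hWn (T1, T2), (glue_mem_O hWn).2 ⟨hT1, hT2⟩, ?_, ?_⟩
      · rw [← map_pow]
        have : ((T1, T2) : (W ≃ₗ[F] W) × (perp Q W ≃ₗ[F] perp Q W)) ^ r = 1 := by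
          rw [Prod.pow_mk, hT1r, hT2r]
          rfl
        rw [this, map_one]
      · intro v hv
        obtain ⟨a, b, rfl⟩ := exists_add_perp hWn v
        obtain ⟨h5, h6⟩ := (glue_fix hWn).1 hv
        rw [hT1f a h5, hT2f b h6]
        simp

/-- an isometry with prescribed commutator space -/
theorem exists_comS_eq (h2 : 2 < r) (hr : ¬ r ∣ Nat.card F) {W : Submodule F V}
    (hW : Nondeg (res Q W)) {s : ℕ} (hd : finrank F W = cc (Nat.card F) r * s)
    (hP : IsPlus (res Q W) ↔ (Odd (orderOf (Nat.card F : ZMod r)) ∨ Even s)) :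
    ∃ T ∈ O Q, T ^ r = 1 ∧ comS T = W ∧ fixS T = perp Q W := by
  obtain ⟨T, hT, hTr, hTf⟩ := exists_free h2 hr s hW hd hP
  exact ⟨ext1 hW T, ext1_mem_O hW hT, ext1_pow hW hTr, comS_ext1 hW hTf, fixS_ext1 hW hTf⟩

end Free

end Cfsg.Agent.H955
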