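import Cfsg.Agent.H955.FSDefs
import Cfsg.Agent.H955.QElt
import Mathlib
import Cfsg.Agent.H955.FSAmb
import Cfsg.Agent.S0752
set_option linter.all false

-- part: H955/FSHyp
section
/-!
# Siegel transformations and the Levi factor attached to a hyperbolic pair
-/

set_option autoImplicit false

universe u

namespace Cfsg.Agent.H955.FS

open Module QuadraticMap Cfsg.Agent.LieClassical.OrthCore Cfsg.Agent.LieClassical.OrthTrans
open Cfsg.Agent.H955

variable {F V : Type u} [Field F] [AddCommGroup V] [Module F V] {Q : QuadraticForm F V}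

/-- scalar multiplication as a linear equivalence of the field -/
def smulE (β : Fˣ) : F ≃ₗ[F] F := LinearEquiv.smulOfUnit β

/-- the Levi factor: `g` on `hperp`, `β` on `x`, `β⁻¹` on `y` -/
def lev {x y : V} (h : Hyp Q x y) : (hperp Q x y ≃ₗ[F] hperp Q x y) × Fˣ →* (V ≃ₗ[F] V) where
  toFun p := tr (hypEquiv h)
    (LinearEquiv.prodCongr p.1 (LinearEquiv.prodCongr (smulE p.2) (smulE p.2⁻¹)))
  map_one' := by
    ext v
    rw [tr_apply]
    obtain ⟨w, rfl⟩ := (hypEquiv h).surjective v
    rw [LinearEquiv.symm_apply_apply]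
    change hypEquiv h (w.1, (1 : Fˣ) • w.2.1, (1 : Fˣ)⁻¹ • w.2.2) = hypEquiv h w
    rw [inv_one, one_smul, one_smul]
  map_mul' p q := by
    ext v
    rw [LinearEquiv.mul_apply, tr_apply, tr_apply, tr_apply]
    obtain ⟨w, rfl⟩ := (hypEquiv h).surjective v
    rw [LinearEquiv.symm_apply_apply, LinearEquiv.symm_apply_apply]
    change hypEquiv h (p.1 (q.1 w.1), (p.2 * q.2 : Fˣ) • w.2.1, (p.2 * q.2 : Fˣ)⁻¹ • w.2.2)
      = hypEquiv h (p.1 (q.1 w.1), p.2 • q.2 • w.2.1, p.2⁻¹ • q.2⁻¹ • w.2.2)
    rw [smul_smul, smul_smul, mul_inv]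

theorem lev_apply {x y : V} (h : Hyp Q x y) (p : (hperp Q x y ≃ₗ[F] hperp Q x y) × Fˣ)
    (m : hperp Q x y) (a b : F) :
    lev h p ((m : V) + a • x + b • y)
      = (p.1 m : V) + (p.2 * a) • x + (((p.2⁻¹ : Fˣ) : F) * b) • y := by
  have h1 : (m : V) + a • x + b • y = hypEquiv h (m, a, b) := rfl
  rw [h1]
  change tr (hypEquiv h) _ _ = _
  rw [tr_apply, LinearEquiv.symm_apply_apply]
  rfl

theorem lev_m {x y : V} (h : Hyp Q x y) (p : (hperp Q x y ≃ₗ[F] hperp Q x y) × Fˣ)
    (m : hperp Q x y) : lev h p (m : V) = (p.1 m : V) := by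
  have h1 := lev_apply h p m 0 0
  simpa using h1

theorem lev_x {x y : V} (h : Hyp Q x y) (p : (hperp Q x y ≃ₗ[F] hperp Q x y) × Fˣ) :
    lev h p x = p.2 • x := by
  have h1 := lev_apply h p 0 1 0
  simp only [mul_one, mul_zero, zero_smul, one_smul, add_zero, map_zero, Submodule.coe_zero,
    zero_add] at h1
  exact h1

theorem lev_y {x y : V} (h : Hyp Q x y) (p : (hperp Q x y ≃ₗ[F] hperp Q x y) × Fˣ) :
    lev h p y = p.2⁻¹ • y := by
  have h1 := lev_apply h p 0 0 1
  simp only [mul_one, mul_zero, zero_smul, one_smul, add_zero, map_zero, Submodule.coe_zero,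
    zero_add] at h1
  exact h1

theorem exists_coord {x y : V} (h : Hyp Q x y) (v : V) :
    ∃ (m : hperp Q x y) (a b : F), v = (m : V) + a • x + b • y := by
  obtain ⟨w, rfl⟩ := (hypEquiv h).surjective v
  exact ⟨w.1, w.2.1, w.2.2, rfl⟩

theorem Q_coord {x y : V} (h : Hyp Q x y) (m : hperp Q x y) (a b : F) :
    Q ((m : V) + a • x + b • y) = Q (m : V) + a * b := Q_hypEquiv h (m, a, b)

theorem lev_mem_O {x y : V} (h : Hyp Q x y) {p : (hperp Q x y ≃ₗ[F] hperp Q x y) × Fˣ} :
    lev h p ∈ O Q ↔ p.1 ∈ O (res Q (hperp Q x y)) := by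
  constructor
  · intro hp m
    have h1 := hp (m : V)
    rw [lev_m] at h1
    exact h1
  · intro hp v
    obtain ⟨m, a, b, rfl⟩ := exists_coord h v
    rw [lev_apply, Q_coord h, Q_coord h]
    have h1 : Q ((p.1 m : hperp Q x y) : V) = Q (m : V) := hp m
    rw [h1]
    congr 1
    have h2 : (p.2 : F) * ((p.2⁻¹ : Fˣ) : F) = 1 := by
      rw [← Units.val_mul, mul_inv_cancel, Units.val_one]
    calc (p.2 : F) * a * (((p.2⁻¹ : Fˣ) : F) * b)
        = ((p.2 : F) * ((p.2⁻¹ : Fˣ) : F)) * (a * b) := by ring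
      _ = a * b := by rw [h2, one_mul]

theorem lev_injective {x y : V} (h : Hyp Q x y) : Function.Injective (lev h) := by
  rw [injective_iff_map_eq_one]
  intro p hp
  have h1 : p.1 = 1 := by
    ext m
    have := lev_m h p m
    rw [hp] at this
    exact this.symm
  have h2 : p.2 = 1 := by
    have h3 := lev_x h p
    rw [hp] at h3
    have h4 : ((p.2 : F) - 1) • x = 0 := by
      rw [sub_smul, one_smul, sub_eq_zero]
      exact h3.symm
    rcases smul_eq_zero.1 h4 with h5 | h5
    · exact Units.ext (sub_eq_zero.1 h5)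
    · exact absurd h5 h.left_ne
  exact Prod.ext h1 h2

/-- the Siegel transformation `x, m` -/
def sg {x y : V} (h : Hyp Q x y) (m : hperp Q x y) : V ≃ₗ[F] V := siegel Q x m h.left m.2.1

theorem sg_mem_O {x y : V} (h : Hyp Q x y) (m : hperp Q x y) : sg h m ∈ O Q :=
  siegel_mem_O h.left m.2.1

theorem sg_add {x y : V} (h : Hyp Q x y) (m m' : hperp Q x y) :
    sg h (m + m') = sg h m * sg h m' :=
  (siegel_mul h.left m.2.1 m'.2.1 (m + m').2.1).symm

theorem sg_x {x y : V} (h : Hyp Q x y) (m : hperp Q x y) : sg h m x = x := by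
  unfold sg
  rw [siegel_apply, h.polar_left, polar_comm Q (m : V) x, m.2.1]
  simp

theorem sg_y {x y : V} (h : Hyp Q x y) (m : hperp Q x y) :
    sg h m y = (m : V) - Q (m : V) • x + y := by
  unfold sg
  rw [siegel_apply, h.pair, polar_comm Q (m : V) y, m.2.2]
  simp
  abel

theorem sg_m {x y : V} (h : Hyp Q x y) (m m' : hperp Q x y) :
    sg h m (m' : V) = (m' : V) - polar Q (m : V) (m' : V) • x := by
  unfold sg
  rw [siegel_apply, m'.2.1]
  simp

theorem sg_zero {x y : V} (h : Hyp Q x y) : sg h (0 : hperp Q x y) = 1 := by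
  have h1 := sg_add h 0 0
  rw [add_zero] at h1
  exact (mul_eq_left.1 h1.symm)

theorem sg_injective {x y : V} (h : Hyp Q x y) : Function.Injective (sg h) := by
  intro m m' hm
  have h1 := congrArg (fun g : V ≃ₗ[F] V => g y) hm
  simp only [sg_y] at h1
  have h2 : hypEquiv h (m, -Q (m : V), 1) = hypEquiv h (m', -Q (m' : V), 1) := by
    rw [hypEquiv_apply, hypEquiv_apply]
    simp only [neg_smul, one_smul, ← sub_eq_add_neg]
    exact h1
  exact congrArg Prod.fst ((hypEquiv h).injective h2)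

/-- the Levi factor acts on the Siegel transformations -/
theorem lev_sg {x y : V} (h : Hyp Q x y) {p : (hperp Q x y ≃ₗ[F] hperp Q x y) × Fˣ}
    (hp : p.1 ∈ O (res Q (hperp Q x y))) (m : hperp Q x y) :
    lev h p * sg h m * (lev h p)⁻¹ = sg h (p.2 • p.1 m) := by
  have hpO := (lev_mem_O h).2 hp
  have hx : Q (lev h p x) = 0 := by rw [hpO x, h.left]
  have hxm : polar Q (lev h p x) (lev h p (m : V)) = 0 := by
    rw [polar_map hpO, m.2.1]
  unfold sg
  rw [siegel_conj hpO h.left m.2.1 hx hxm]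
  ext v
  rw [siegel_apply, siegel_apply]
  have e1 : lev h p (m : V) = (p.1 m : V) := lev_m h p m
  have e2 : lev h p x = (p.2 : F) • x := lev_x h p
  have e3 : ((p.2 • p.1 m : hperp Q x y) : V) = (p.2 : F) • (p.1 m : V) := rfl
  rw [e1, e2, e3]
  rw [polar_smul_left, polar_smul_left, QuadraticMap.map_smul]
  have e4 : Q (p.1 m : V) = Q (m : V) := hp m
  simp only [smul_eq_mul, smul_smul, e4]
  have e5 : (p.2 : F) * polar Q x v = polar Q x v * (p.2 : F) := mul_comm _ _
  have e6 : polar Q ((p.1 m : hperp Q x y) : V) v * (p.2 : F)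
    = (p.2 : F) * polar Q ((p.1 m : hperp Q x y) : V) v := mul_comm _ _
  have e7 : Q (m : V) * ((p.2 : F) * polar Q x v) * (p.2 : F)
      = (p.2 : F) * (p.2 : F) * Q (m : V) * polar Q x v := by ring
  rw [e5, e6, ← e5, e7]

/-- the decomposition of the isometries stabilising the line of `x` -/
theorem exists_sg_lev {x y : V} (h : Hyp Q x y) {g : V ≃ₗ[F] V} (hg : g ∈ O Q) {β : Fˣ}
    (hx : g x = β • x) :
    ∃ (m : hperp Q x y) (k : hperp Q x y ≃ₗ[F] hperp Q x y), k ∈ O (res Q (hperp Q x y)) ∧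
      g = sg h m * lev h (k, β) := by
  classical
  obtain ⟨m, a, b, hgy⟩ := exists_coord h (g y)
  have hx' : g x = (β : F) • x := hx
  -- `b = β⁻¹`
  have hb : (β : F) * b = 1 := by
    have h1 : polar Q (g x) (g y) = 1 := by rw [polar_map hg, h.pair]
    rw [hx', hgy, polar_smul_left, polar_add_right, polar_add_right, polar_smul_right,
      polar_smul_right, m.2.1, h.polar_left, h.pair] at h1
    simpa using h1
  have hb' : b = ((β⁻¹ : Fˣ) : F) := by
    rw [Units.val_inv_eq_inv_val]
    exact eq_inv_of_mul_eq_one_right hb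
  have hbne : b ≠ 0 := fun h0 => by rw [h0, mul_zero] at hb; exact zero_ne_one hb
  have hQ : Q (m : V) + a * b = 0 := by
    have h1 : Q (g y) = 0 := by rw [hg y, h.right]
    rw [hgy, Q_coord h] at h1
    exact h1
  -- the translation part
  let m₀ : hperp Q x y := (β : F) • m
  have hm₀ : ((m₀ : hperp Q x y) : V) = (β : F) • (m : V) := rfl
  -- the inverse image of `x`, `y`
  let g' : V ≃ₗ[F] V := (sg h m₀)⁻¹ * g
  have hsginv : (sg h m₀)⁻¹ = sg h (-m₀) := by
    rw [inv_eq_iff_mul_eq_one, ← sg_add, add_neg_cancel, sg_zero]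
  have hg'O : g' ∈ O Q := mul_mem (inv_mem (sg_mem_O h m₀)) hg
  have hg'x : g' x = β • x := by
    change (sg h m₀)⁻¹ (g x) = _
    rw [hsginv, hx', map_smul, sg_x]
    rfl
  have hg'y : g' y = β⁻¹ • y := by
    have h2 : sg h m₀ (β⁻¹ • y) = g y := by
      have h3 : sg h m₀ (β⁻¹ • y) = b • sg h m₀ y := by
        rw [hb']
        exact map_smul (sg h m₀) _ y
      rw [h3, sg_y, hgy, hm₀, QuadraticMap.map_smul]
      have h4 : b * (β : F) = 1 := by rw [mul_comm]; exact hb
      simp only [smul_add, smul_sub, smul_smul, smul_eq_mul, h4, one_smul]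
      have h5 : b * (β * β * Q (m : V)) = -a := by
        have h6 : Q (m : V) = -(a * b) := by
          rw [eq_neg_iff_add_eq_zero]
          exact hQ
        rw [h6]
        calc b * (β * β * -(a * b)) = -(a * (b * β) * (b * β)) := by ring
          _ = -a := by rw [h4]; ring
      rw [h5, neg_smul, sub_neg_eq_add]
    change (sg h m₀)⁻¹ (g y) = _
    rw [← h2]
    exact (sg h m₀).symm_apply_apply _
  -- `g'` preserves `hperp`
  have hpres : ∀ (k : V ≃ₗ[F] V), k ∈ O Q → (∀ γ : Fˣ, k x = γ • x → k y = γ⁻¹ • y →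
      ∀ w ∈ hperp Q x y, k w ∈ hperp Q x y) := by
    intro k hk γ h1 h2 w hw
    have h1' : x = k (γ⁻¹ • x) := by
      have : k (γ⁻¹ • x) = γ⁻¹ • k x := map_smul k ((γ⁻¹ : Fˣ) : F) x
      rw [this, h1, smul_smul, inv_mul_cancel, one_smul]
    have h2' : y = k (γ • y) := by
      have : k (γ • y) = γ • k y := map_smul k (γ : F) y
      rw [this, h2, smul_smul, mul_inv_cancel, one_smul]
    constructor
    · rw [h1', polar_map hk]
      have : polar Q (γ⁻¹ • x) w = ((γ⁻¹ : Fˣ) : F) • polar Q x w := polar_smul_left Q _ x w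
      rw [this, hw.1, smul_zero]
    · rw [h2', polar_map hk]
      have : polar Q (γ • y) w = (γ : F) • polar Q y w := polar_smul_left Q _ y w
      rw [this, hw.2, smul_zero]
  have hg'i : (g'⁻¹ : V ≃ₗ[F] V) ∈ O Q := inv_mem hg'O
  have hg'ix : (g'⁻¹ : V ≃ₗ[F] V) x = β⁻¹ • x := by
    change g'.symm x = _
    rw [LinearEquiv.symm_apply_eq]
    have : g' (β⁻¹ • x) = β⁻¹ • g' x := map_smul g' ((β⁻¹ : Fˣ) : F) x
    rw [this, hg'x, smul_smul, inv_mul_cancel, one_smul]
  have hg'iy : (g'⁻¹ : V ≃ₗ[F] V) y = (β⁻¹)⁻¹ • y := by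
    change g'.symm y = _
    rw [LinearEquiv.symm_apply_eq, inv_inv]
    have : g' (β • y) = β • g' y := map_smul g' (β : F) y
    rw [this, hg'y, smul_smul, mul_inv_cancel, one_smul]
  let k : hperp Q x y ≃ₗ[F] hperp Q x y :=
    LinearEquiv.ofLinearMap
      ((g' : V →ₗ[F] V).restrict (hpres g' hg'O β hg'x hg'y))
      ((g'⁻¹ : V ≃ₗ[F] V).toLinearMap.restrict (hpres g'⁻¹ hg'i β⁻¹ hg'ix hg'iy))
      (by
        ext w
        exact congrArg (fun t : V => t) (g'.apply_symm_apply (w : V)))
      (by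
        ext w
        exact congrArg (fun t : V => t) (g'.symm_apply_apply (w : V)))
  refine ⟨m₀, k, fun w => hg'O (w : V), ?_⟩
  have h5 : g' = lev h (k, β) := by
    ext v
    obtain ⟨w, a', b', rfl⟩ := exists_coord h v
    rw [lev_apply, map_add, map_add, map_smul, map_smul, hg'x, hg'y]
    have h6 : a' • (β • x) = ((β : F) * a') • x := by
      rw [mul_comm, mul_smul]
      rfl
    have h7 : b' • (β⁻¹ • y) = (((β⁻¹ : Fˣ) : F) * b') • y := by
      rw [mul_comm, mul_smul]
      rfl
    rw [h6, h7]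
    rfl
  rw [← h5]
  exact (mul_inv_cancel_left _ _).symm

end Cfsg.Agent.H955.FS
end

-- part: H955/FSDual
section
/-!
# Additive characters of quadratic spaces over finite fields of characteristic two
-/

set_option autoImplicit false

universe u

namespace Cfsg.Agent.H955.FS

open Module QuadraticMap Cfsg.Agent.LieClassical.OrthCore

/-- a nontrivial additive character -/
theorem exists_psi (F : Type u) [Field F] [Finite F] : ∃ ψ : AddChar F ℂ, ∃ a, ψ a ≠ 1 := by
  obtain ⟨ψ, h⟩ := (AddChar.exists_apply_ne_zero (a := (1 : F))).2 one_ne_zero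
  exact ⟨ψ, 1, h⟩

section

variable {F : Type u} [Field F] {ψ : AddChar F ℂ}

theorem eq_zero_of_psi (hψ : ∃ a, ψ a ≠ 1) {a : F} (h : ∀ c : F, ψ (c * a) = 1) : a = 0 := by
  by_contra ha
  obtain ⟨b, hb⟩ := hψ
  apply hb
  have h1 := h (b * a⁻¹)
  rwa [mul_assoc, inv_mul_cancel₀ ha, mul_one] at h1

theorem eq_of_psi (hψ : ∃ a, ψ a ≠ 1) {a b : F} (h : ∀ c : F, ψ (c * a) = ψ (c * b)) : a = b := by
  rw [← sub_eq_zero]
  refine eq_zero_of_psi hψ fun c => ?_
  have h1 : ψ (c * b) ≠ 0 := by
    intro h0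
    have h2 := AddChar.map_add_eq_mul ψ (c * b) (-(c * b))
    rw [add_neg_cancel, AddChar.map_zero_eq_one, h0, zero_mul] at h2
    exact one_ne_zero h2
  have h2 : ψ (c * (a - b)) * ψ (c * b) = ψ (c * b) := by
    rw [← AddChar.map_add_eq_mul, ← h c]
    congr 1
    ring
  exact mul_right_cancel₀ h1 (by rw [h2, one_mul])

variable {M : Type u} [AddCommGroup M] [Module F M]

/-- the additive character `m ↦ ψ (f (m', m))` -/
def polChar (Q : QuadraticForm F M) (ψ : AddChar F ℂ) (m' : M) : AddChar M ℂ where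
  toFun m := ψ (polar Q m' m)
  map_zero_eq_one' := by rw [polar_zero_right, AddChar.map_zero_eq_one]
  map_add_eq_mul' a b := by rw [polar_add_right, AddChar.map_add_eq_mul]

theorem polChar_apply (Q : QuadraticForm F M) (ψ : AddChar F ℂ) (m' m : M) :
    polChar Q ψ m' m = ψ (polar Q m' m) := rfl

theorem polar_eq_of_psi (Q : QuadraticForm F M) (hψ : ∃ a, ψ a ≠ 1) {a b : M} (T : M →ₗ[F] M)
    (h : ∀ m, ψ (polar Q a (T m)) = ψ (polar Q b m)) (m : M) :
    polar Q a (T m) = polar Q b m := by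
  refine eq_of_psi hψ fun c => ?_
  have h1 := h (c • m)
  rw [map_smul, polar_smul_right, polar_smul_right] at h1
  exact h1

theorem polChar_injective {Q : QuadraticForm F M} (hQ : Nondeg Q) (hψ : ∃ a, ψ a ≠ 1) :
    Function.Injective (polChar Q ψ) := by
  intro a b hab
  have h1 : ∀ m, polar Q a m = polar Q b m := fun m =>
    polar_eq_of_psi Q hψ LinearMap.id (fun m => congrArg (fun t : AddChar M ℂ => t m) hab) m
  rw [← sub_eq_zero]
  refine hQ _ fun y => ?_
  rw [sub_eq_add_neg, polar_add_left, polar_neg_left, h1]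
  exact add_neg_cancel _

/-- every additive character is given by a vector -/
theorem exists_dual [Finite F] [FiniteDimensional F M] {Q : QuadraticForm F M} (hQ : Nondeg Q)
    (hψ : ∃ a, ψ a ≠ 1) (l : AddChar M ℂ) : ∃ m', ∀ m, l m = ψ (polar Q m' m) := by
  classical
  have : Finite M := Module.finite_of_finite F
  let _ := Fintype.ofFinite M
  let _ : Fintype (AddChar M ℂ) := Fintype.ofFinite _
  have hb : Function.Bijective (polChar Q ψ) :=
    (Fintype.bijective_iff_injective_and_card _).2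
      ⟨polChar_injective hQ hψ, AddChar.card_eq.symm⟩
  obtain ⟨m', hm'⟩ := hb.2 l
  exact ⟨m', fun m => by rw [← hm']; rfl⟩

end

/-- extension of `±1`-valued characters in groups of exponent two -/
theorem exists_extend {M : Type u} [AddCommGroup M] (h2 : ∀ m : M, m + m = 0) (S : AddSubgroup M)
    (l : M → ℂ) (hl : ∀ a ∈ S, ∀ b ∈ S, l (a + b) = l a * l b)
    (hpm : ∀ a ∈ S, l a = 1 ∨ l a = -1) : ∃ l' : AddChar M ℂ, ∀ a ∈ S, l' a = l a := by
  classical
  let _ : Module (ZMod 2) M := AddCommGroup.zmodModule (n := 2) (fun m => by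
    rw [two_nsmul]; exact h2 m)
  let S' : Submodule (ZMod 2) M := AddSubgroup.toZModSubmodule 2 S
  obtain ⟨π, hπ⟩ := LinearMap.exists_leftInverse_of_injective S'.subtype (by
    rw [LinearMap.ker_eq_bot]; exact Subtype.val_injective)
  have hS : ∀ m : M, ((π m : S') : M) ∈ S := fun m => (π m).2
  have h0 : l 0 = 1 := by
    rcases hpm 0 (zero_mem _) with h | h
    · exact h
    · have h1 := hl 0 (zero_mem _) 0 (zero_mem _)
      rw [add_zero, h] at h1
      norm_num at h1
  refine ⟨⟨fun m => l (π m : S'), ?_, ?_⟩, ?_⟩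
  · rw [map_zero]
    exact h0
  · intro a b
    rw [map_add]
    exact hl _ (hS a) _ (hS b)
  · intro a ha
    have h1 := LinearMap.congr_fun hπ ⟨a, ha⟩
    change l (π a : S') = l a
    have h3 : ((π a : S') : M) = a := congrArg Subtype.val h1
    rw [h3]

end Cfsg.Agent.H955.FS
end

-- part: H955/FSVec
section
/-!
# Stabilisers of singular vectors and of singular lines
-/

set_option autoImplicit false

universe u

namespace Cfsg.Agent.H955.FS

open Module QuadraticMap Cfsg.Agent.LieClassical.OrthCore Cfsg.Agent.LieClassical.OrthTrans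
open Cfsg.Agent.H955

/-- a finite module has finitely many automorphisms -/
theorem finite_equiv (F V : Type u) [Field F] [Finite F] [AddCommGroup V] [Module F V]
    [FiniteDimensional F V] : Finite (V ≃ₗ[F] V) := by
  have : Finite V := Module.finite_of_finite F
  exact Finite.of_injective (fun g : V ≃ₗ[F] V => (g : V → V)) DFunLike.coe_injective

theorem char_two_self {F V : Type u} [Field F] [CharP F 2] [AddCommGroup V] [Module F V] (v : V) :
    v + v = 0 := by
  have h : (2 : F) = 0 := CharTwo.two_eq_zero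
  rw [← two_smul F v, h, zero_smul]

theorem neg_eq_self' {F V : Type u} [Field F] [CharP F 2] [AddCommGroup V] [Module F V] (v : V) :
    -v = v := (eq_neg_of_add_eq_zero_left (char_two_self (F := F) v)).symm

section

variable {F V : Type u} [Field F] [AddCommGroup V] [Module F V] {Q : QuadraticForm F V}

/-- groups of Siegel transformations -/
def sgSub {x y : V} (h : Hyp Q x y) (S : AddSubgroup (hperp Q x y)) : Subgroup (V ≃ₗ[F] V) where
  carrier := {g | ∃ m ∈ S, g = sg h m}
  mul_mem' := by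
    rintro _ _ ⟨m, hm, rfl⟩ ⟨m', hm', rfl⟩
    exact ⟨m + m', add_mem hm hm', (sg_add h m m').symm⟩
  one_mem' := ⟨0, zero_mem _, (sg_zero h).symm⟩
  inv_mem' := by
    rintro _ ⟨m, hm, rfl⟩
    refine ⟨-m, neg_mem hm, ?_⟩
    rw [inv_eq_iff_mul_eq_one, ← sg_add, add_neg_cancel, sg_zero]

theorem mem_sgSub {x y : V} {h : Hyp Q x y} {S : AddSubgroup (hperp Q x y)} {g : V ≃ₗ[F] V} :
    g ∈ sgSub h S ↔ ∃ m ∈ S, g = sg h m := Iff.rfl

theorem sg_mul_self [CharP F 2] {x y : V} (h : Hyp Q x y) (m : hperp Q x y) :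
    sg h m * sg h m = 1 := by
  rw [← sg_add, char_two_self (F := F), sg_zero]

/-- the characters of groups of Siegel transformations -/
theorem exists_lam [Finite F] [CharP F 2] [FiniteDimensional F V] {x y : V} (h : Hyp Q x y)
    (hQ : Nondeg Q)
    {ψ : AddChar F ℂ} (hψ : ∃ a, ψ a ≠ 1) (S : AddSubgroup (hperp Q x y))
    (lam : (V ≃ₗ[F] V) → ℂ)
    (h1 : ∀ a ∈ sgSub h S, ∀ b ∈ sgSub h S, lam (a * b) = lam a * lam b)
    (h2 : ∀ a ∈ sgSub h S, lam a = 1 ∨ lam a = -1) :
    ∃ m' : hperp Q x y, ∀ m ∈ S, lam (sg h m) = ψ (polar Q (m' : V) (m : V)) := by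
  obtain ⟨l, hl⟩ := exists_extend (char_two_self (F := F)) S (fun m => lam (sg h m))
    (fun a ha b hb => by
      rw [sg_add]
      exact h1 _ ⟨a, ha, rfl⟩ _ ⟨b, hb, rfl⟩)
    (fun a ha => h2 _ ⟨a, ha, rfl⟩)
  obtain ⟨m', hm'⟩ := exists_dual (nondeg_hperp hQ h) hψ l
  exact ⟨m', fun m hm => by rw [← hl m hm, hm']; rfl⟩

end

section Eig

variable {F M : Type u} [Field F] [AddCommGroup M] [Module F M]

/-- isometries with a given eigenvector, together with the eigenvalue -/
def eigS (Q : QuadraticForm F M) (m' : M) : Subgroup (O Q × Fˣ) where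
  carrier := {p | (p.1 : M ≃ₗ[F] M) m' = p.2 • m'}
  mul_mem' := by
    intro p q hp hq
    change (p.1 : M ≃ₗ[F] M) ((q.1 : M ≃ₗ[F] M) m') = (p.2 * q.2) • m'
    have hq' : (q.1 : M ≃ₗ[F] M) m' = q.2 • m' := hq
    have hp' : (p.1 : M ≃ₗ[F] M) m' = p.2 • m' := hp
    have h1 : (p.1 : M ≃ₗ[F] M) (q.2 • m') = q.2 • (p.1 : M ≃ₗ[F] M) m' :=
      map_smul (p.1 : M ≃ₗ[F] M) (q.2 : F) m'
    rw [hq', h1, hp', smul_smul, mul_comm]
  one_mem' := (one_smul Fˣ m').symm
  inv_mem' := by
    intro p hp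
    have hp' : (p.1 : M ≃ₗ[F] M) m' = p.2 • m' := hp
    change (p.1 : M ≃ₗ[F] M).symm m' = p.2⁻¹ • m'
    rw [LinearEquiv.symm_apply_eq]
    have h1 : (p.1 : M ≃ₗ[F] M) (p.2⁻¹ • m') = p.2⁻¹ • (p.1 : M ≃ₗ[F] M) m' :=
      map_smul (p.1 : M ≃ₗ[F] M) ((p.2⁻¹ : Fˣ) : F) m'
    rw [h1, hp', smul_smul, inv_mul_cancel, one_smul]

theorem mem_eigS {Q : QuadraticForm F M} {m' : M} {p : O Q × Fˣ} :
    p ∈ eigS Q m' ↔ (p.1 : M ≃ₗ[F] M) m' = p.2 • m' := Iff.rfl

theorem units_odd [Finite F] [CharP F 2] : Odd (Nat.card Fˣ) := by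
  classical
  let _ := Fintype.ofFinite F
  rw [Nat.card_eq_fintype_card, Fintype.card_units]
  have h2 : Even (Fintype.card F) := by
    obtain ⟨n, hp, h⟩ := FiniteField.card F 2
    rw [h]
    exact (Nat.even_pow.2 ⟨even_two, n.ne_zero⟩)
  have h3 : 0 < Fintype.card F := Fintype.card_pos
  exact Nat.Even.sub_odd h3 h2 odd_one

theorem good_units [Finite F] [CharP F 2] : FSGood True Fˣ :=
  (fsGood_of_compl (⊤ : Subgroup Fˣ) (by rw [Subgroup.card_top]; exact units_odd)
    (fun x hx => absurd (Subgroup.mem_top x) hx)).mono (fun _ => trivial)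

theorem unit_eq_one_of_sq [CharP F 2] {β : Fˣ} (h : (β : F) * β = 1) : β = 1 := by
  have h1 : ((β : F) - 1) * ((β : F) - 1) = 0 := by
    have h2 : (2 : F) = 0 := CharTwo.two_eq_zero
    calc ((β : F) - 1) * ((β : F) - 1) = (β : F) * β - 2 * β + 1 := by ring
      _ = 1 - 2 * β + 1 := by rw [h]
      _ = 2 * (1 - β) := by ring
      _ = 0 := by rw [h2, zero_mul]
  exact Units.ext (sub_eq_zero.1 (mul_self_eq_zero.1 h1))

theorem good_eigS {n : ℕ} (h0 : T0.{u} n) (h2 : T2.{u} n) (h3 : T3.{u} n) [Finite F] [CharP F 2]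
    [FiniteDimensional F M] {Q : QuadraticForm F M} (hQ : Nondeg Q) (hd : finrank F M = 2 * n)
    (m' : M) : FSGood True (eigS Q m') := by
  have := finite_equiv F M
  by_cases hm0 : m' = 0
  · have htop : eigS Q m' = ⊤ := by
      rw [Subgroup.eq_top_iff']
      intro p
      rw [mem_eigS, hm0, map_zero, smul_zero]
    rw [htop]
    have h4 : FSGood True (O Q × Fˣ) :=
      FSGood.prod ((h0 F M Q hQ hd).mono (fun h => h.elim)) good_units
    exact h4.of_equiv Subgroup.topEquiv.symm
  by_cases hm1 : Q m' = 0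
  · let f : eigS Q m' →* lineV Q m' :=
      { toFun := fun p => ⟨p.1.1, p.1.1.2, p.1.2, p.2⟩
        map_one' := rfl
        map_mul' := fun _ _ => rfl }
    have hf : Function.Bijective f := by
      constructor
      · intro p q hpq
        have h4' : (f p).1 = (f q).1 := by rw [hpq]
        have h4 : p.1.1 = q.1.1 := Subtype.ext h4'
        have h5 : p.1.2 = q.1.2 := by
          have h6 : (p.1.2 : F) • m' = (q.1.2 : F) • m' := by
            have e1 : (p.1.1 : M ≃ₗ[F] M) m' = p.1.2 • m' := p.2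
            have e2 : (q.1.1 : M ≃ₗ[F] M) m' = q.1.2 • m' := q.2
            rw [h4] at e1
            exact e1.symm.trans e2
          exact Units.ext (smul_left_injective F hm0 h6)
        exact Subtype.ext (Prod.ext h4 h5)
      · rintro ⟨g, hg, β, hβ⟩
        exact ⟨⟨(⟨g, hg⟩, β), hβ⟩, rfl⟩
    exact (h3 F M Q hQ hd m' hm0 hm1).of_equiv (MulEquiv.ofBijective f hf).symm
  · have hone : ∀ p ∈ eigS Q m', p.2 = 1 := by
      intro p hp
      have e1 : (p.1 : M ≃ₗ[F] M) m' = (p.2 : F) • m' := hp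
      have e2 := p.1.2 m'
      rw [e1, QuadraticMap.map_smul, smul_eq_mul] at e2
      exact unit_eq_one_of_sq (mul_right_cancel₀ hm1 (by rw [e2, one_mul]))
    let f : eigS Q m' →* fixV Q m' :=
      { toFun := fun p => ⟨p.1.1, p.1.1.2, by
          have e1 : (p.1.1 : M ≃ₗ[F] M) m' = p.1.2 • m' := p.2
          rw [hone p.1 p.2, one_smul] at e1
          exact e1⟩
        map_one' := rfl
        map_mul' := fun _ _ => rfl }
    have hf : Function.Bijective f := by
      constructor
      · intro p q hpq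
        have h4' : (f p).1 = (f q).1 := by rw [hpq]
        have h4 : p.1.1 = q.1.1 := Subtype.ext h4'
        exact Subtype.ext (Prod.ext h4 ((hone p.1 p.2).trans (hone q.1 q.2).symm))
      · rintro ⟨g, hg, hβ⟩
        exact ⟨⟨(⟨g, hg⟩, 1), by
          change g m' = (1 : Fˣ) • m'
          rw [one_smul, hβ]⟩, rfl⟩
    exact ((h2 F M Q hQ hd m' hm1).mono (fun h => h.elim)).of_equiv
      (MulEquiv.ofBijective f hf).symm

end Eig

/-! ### singular lines -/

theorem T3_step (n : ℕ) (h0 : T0.{u} n) (h2 : T2.{u} n) (h3 : T3.{u} n) : T3.{u} (n + 1) := by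
  intro F V _ _ _ _ _ _ Q hQ hd x hx0 hx
  have := finite_equiv F V
  obtain ⟨y, h⟩ := exists_hyp hQ hx hx0
  have hM : Nondeg (res Q (hperp Q x y)) := nondeg_hperp hQ h
  have hdM : finrank F (hperp Q x y) = 2 * n := by
    have := finrank_hperp h
    omega
  have := finite_equiv F (hperp Q x y)
  obtain ⟨ψ, hψ⟩ := exists_psi F
  let φ : O (res Q (hperp Q x y)) × Fˣ →* (V ≃ₗ[F] V) :=
    (lev h).comp ((O (res Q (hperp Q x y))).subtype.prodMap (MonoidHom.id Fˣ))
  have hφ : ∀ p, φ p = lev h (p.1, p.2) := fun p => rfl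
  have hφO : ∀ p, φ p ∈ O Q := fun p => (lev_mem_O h).2 p.1.2
  have hact : ∀ p m, φ p * sg h m * (φ p)⁻¹ = sg h (p.2 • (p.1 : _ ≃ₗ[F] _) m) := fun p m =>
    lev_sg h (p := (p.1, p.2)) p.1.2 m
  refine good_semidirect (lineV Q x) (sgSub h ⊤) ?_ ?_ ?_ φ ?_ ?_ ?_ ?_
  · rintro _ ⟨m, -, rfl⟩
    exact ⟨sg_mem_O h m, 1, by rw [sg_x, one_smul]⟩
  · rintro g ⟨hg, β, hβ⟩ _ ⟨m, -, rfl⟩
    obtain ⟨m₀, k, hk, rfl⟩ := exists_sg_lev h hg hβ
    have h5 := lev_sg h (p := (k, β)) hk m
    refine ⟨β • k m, AddSubgroup.mem_top _, ?_⟩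
    have h6 : sg h m₀ * lev h (k, β) * sg h m * (sg h m₀ * lev h (k, β))⁻¹
        = sg h m₀ * (lev h (k, β) * sg h m * (lev h (k, β))⁻¹) * (sg h m₀)⁻¹ := by group
    rw [h6, h5, ← sg_add, mul_inv_eq_iff_eq_mul, ← sg_add, add_comm]
  · rintro _ ⟨m, -, rfl⟩
    exact sg_mul_self h m
  · intro p
    exact ⟨hφO p, p.2, lev_x h _⟩
  · rintro p ⟨m, -, hm⟩
    have h5 : φ p y = y + ((m : V) - Q (m : V) • x) := by rw [hm, sg_y]; abel
    have h6 : φ p x = x := by rw [hm, sg_x]
    have h7 : p.2 = 1 := by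
      have h8 : (p.2 : F) • x = (1 : F) • x := by
        rw [one_smul]
        exact (lev_x h _).symm.trans h6
      exact Units.ext (smul_left_injective F h.left_ne h8)
    have h9 : φ p y = y := by
      have : φ p y = p.2⁻¹ • y := lev_y h _
      rw [this, h7, inv_one, one_smul]
    have h10 : sg h m = sg h 0 := by
      have h11 : sg h m y = y := by rw [← hm, h9]
      rw [sg_y] at h11
      have h12 : hypEquiv h (m, -Q (m : V), 1) = hypEquiv h (0, 0, 1) := by
        rw [hypEquiv_apply, hypEquiv_apply]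
        simp only [neg_smul, one_smul, ← sub_eq_add_neg, zero_smul, add_zero,
          Submodule.coe_zero, zero_add]
        exact h11
      have h13 : m = 0 := congrArg Prod.fst ((hypEquiv h).injective h12)
      rw [h13]
    rw [sg_zero] at h10
    have h14 : lev h (p.1, p.2) = 1 := by rw [← hφ, hm, h10]
    have h15 := (injective_iff_map_eq_one (lev h)).1 (lev_injective h) _ h14
    exact Prod.ext (Subtype.ext (congrArg Prod.fst h15)) h7
  · rintro g ⟨hg, β, hβ⟩
    obtain ⟨m₀, k, hk, h5⟩ := exists_sg_lev h hg hβ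
    exact ⟨sg h m₀, ⟨m₀, AddSubgroup.mem_top _, rfl⟩, (⟨k, hk⟩, β), h5⟩
  · intro lam hl1 hl2
    obtain ⟨m', hm'⟩ := exists_lam h hQ hψ ⊤ lam hl1 hl2
    refine ⟨eigS (res Q (hperp Q x y)) m', fun p => ?_, good_eigS h0 h2 h3 hM hdM m'⟩
    rw [mem_eigS]
    have hpol : ∀ m : hperp Q x y, polar Q ((p.2 • m' : hperp Q x y) : V)
        (((p.1 : _ ≃ₗ[F] _) m : hperp Q x y) : V)
        = polar Q (m' : V) ((p.2 • (p.1 : _ ≃ₗ[F] _) m : hperp Q x y) : V) := by
      intro m
      have e1 : ((p.2 • m' : hperp Q x y) : V) = (p.2 : F) • (m' : V) := rfl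
      have e2 : ((p.2 • (p.1 : _ ≃ₗ[F] _) m : hperp Q x y) : V)
        = (p.2 : F) • (((p.1 : _ ≃ₗ[F] _) m : hperp Q x y) : V) := rfl
      rw [e1, e2, polar_smul_left, polar_smul_right]
    constructor
    · rintro hp _ ⟨m, -, rfl⟩
      rw [hact, hm' _ (AddSubgroup.mem_top _), hm' _ (AddSubgroup.mem_top _), ← hpol, ← hp]
      congr 1
      exact polar_map (Q := res Q (hperp Q x y)) p.1.2 m' m
    · intro hp
      have h6 : ∀ m : hperp Q x y, ψ (polar (res Q (hperp Q x y)) m'
          (((p.2 : F) • ((p.1 : hperp Q x y ≃ₗ[F] hperp Q x y) :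
            hperp Q x y →ₗ[F] hperp Q x y)) m)) = ψ (polar (res Q (hperp Q x y)) m' m) := by
        intro m
        have h7 := hp (sg h m) ⟨m, AddSubgroup.mem_top _, rfl⟩
        rw [hact, hm' _ (AddSubgroup.mem_top _), hm' _ (AddSubgroup.mem_top _)] at h7
        exact h7
      have h7 := polar_eq_of_psi (res Q (hperp Q x y)) hψ _ h6
      -- `f (p m' - β m', p m) = 0`
      rw [← sub_eq_zero]
      refine hM _ fun z => ?_
      obtain ⟨m, rfl⟩ := (p.1 : hperp Q x y ≃ₗ[F] hperp Q x y).surjective z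
      rw [sub_eq_add_neg, polar_add_left, polar_neg_left]
      have h8 : polar (res Q (hperp Q x y)) ((p.1 : _ ≃ₗ[F] _) m') ((p.1 : _ ≃ₗ[F] _) m)
          = polar (res Q (hperp Q x y)) m' m := polar_map p.1.2 m' m
      have h9 : polar (res Q (hperp Q x y)) (p.2 • m') ((p.1 : _ ≃ₗ[F] _) m)
          = polar (res Q (hperp Q x y)) m' m := (hpol m).trans (h7 m)
      rw [h8, h9]
      exact add_neg_cancel _

end Cfsg.Agent.H955.FS
end

-- part: H955/FSField
section
/-!
# The extension field form in characteristic two (task 688, for S4940, S4972, S4973; helper809)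

`exists_extension` : for a selfadjoint `x` with `f (x v, v) = 0` and irreducible minimal polynomial, the centraliser of
`x` in `O Q` is the orthogonal group of a nondegenerate quadratic form over the field `F[x]`.
-/

set_option autoImplicit false
set_option linter.unusedSectionVars false

universe u

namespace Cfsg.Agent.H955.FS

open Cfsg QuadraticMap
open Cfsg.Agent.LieClassical.OrthCore

namespace Field2

theorem even_finrank {F V : Type u} [Field F] [CharP F 2] [AddCommGroup V] [Module F V] [FiniteDimensional F V]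
    {R : QuadraticForm F V} (hR : Nondeg R) : Even (Module.finrank F V) := by
  have hA : LinearMap.BilinForm.IsAlt (polarBilin R) := by
    intro v
    show polar R v v = 0
    rw [polar_self', CharTwo.two_eq_zero, zero_mul]
  obtain ⟨m, k, b, -, -, -, hk⟩ := Cfsg.Agent.S0752.result (polarBilin R) hA
  have hk0 : k = 0 := by
    by_contra hne
    exact b.ne_zero (Sum.inr (⟨0, by omega⟩ : Fin k)) (hR _ fun v => hk _ v)
  subst hk0
  rw [Module.finrank_eq_card_basis b]
  simp

/-- the square root -/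
noncomputable def rt (E : Type u) [Field E] [Finite E] [CharP E 2] : E ≃+* E := (frobeniusEquiv E 2).symm

theorem rt_mul_rt {E : Type u} [Field E] [Finite E] [CharP E 2] (e : E) : rt E e * rt E e = e := by
  have h : frobeniusEquiv E 2 ((frobeniusEquiv E 2).symm e) = e := RingEquiv.apply_symm_apply _ _
  rw [frobeniusEquiv_apply, frobenius_def, pow_two] at h
  exact h

theorem eq_rt {E : Type u} [Field E] [Finite E] [CharP E 2] {e c : E} (h : c * c = e) : rt E e = c := by
  have h1 : rt E e * rt E e - c * c = 0 := by rw [rt_mul_rt, h, sub_self]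
  have h2 : (rt E e - c) * (rt E e - c) = 0 := by
    have h3 : (2 : E) = 0 := CharTwo.two_eq_zero
    linear_combination h1 + h3 * (c * c - rt E e * c)
  exact sub_eq_zero.1 (mul_self_eq_zero.1 h2)

section Ext

variable {F E V : Type u} [Field F] [Finite F] [CharP F 2] [Field E] [Finite E] [CharP E 2] [Algebra F E]
  [AddCommGroup V] [Module F V] [Module E V] [IsScalarTower F E V] [FiniteDimensional F V] {Q : QuadraticForm F V}

theorem exists_t (F E : Type u) [Field F] [Field E] [Algebra F E] : ∃ t : E →ₗ[F] F, t ≠ 0 := by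
  by_contra h
  push Not at h
  have h1 := (Module.forall_dual_apply_eq_zero_iff F (1 : E)).1 fun φ => by rw [h φ]; rfl
  exact one_ne_zero h1

theorem t_unique {t : E →ₗ[F] F} (ht : t ≠ 0) {c : E} (h : ∀ e, t (e * c) = 0) : c = 0 := by
  by_contra hc
  apply ht
  ext e
  have h1 := h (e * c⁻¹)
  rwa [mul_assoc, inv_mul_cancel₀ hc, mul_one] at h1

theorem t_unique' {t : E →ₗ[F] F} (ht : t ≠ 0) {c d : E} (h : ∀ e, t (e * c) = t (e * d)) : c = d := by
  rw [← sub_eq_zero]
  refine t_unique ht fun e => ?_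
  rw [mul_sub, map_sub, h, sub_self]

theorem exists_rep {t : E →ₗ[F] F} (ht : t ≠ 0) (l : E →ₗ[F] F) : ∃ c, ∀ e, t (e * c) = l e := by
  have : Module.Finite F E := inferInstance
  let Φ : E →ₗ[F] (E →ₗ[F] F) := (LinearMap.mul F E).compr₂ t
  have hΦ : ∀ c e, Φ c e = t (c * e) := fun c e => rfl
  have hinj : Function.Injective Φ := by
    rw [injective_iff_map_eq_zero]
    intro c hc
    refine t_unique ht fun e => ?_
    rw [mul_comm, ← hΦ, hc]
    rfl
  have hsurj : Function.Surjective Φ :=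
    (LinearMap.injective_iff_surjective_of_finrank_eq_finrank (Subspace.dual_finrank_eq (K := F) (V := E)).symm).1 hinj
  obtain ⟨c, hc⟩ := hsurj l
  refine ⟨c, fun e => ?_⟩
  rw [mul_comm, ← hΦ, hc]

variable (hs : ∀ (e : E) (v w : V), polar Q (e • v) w = polar Q v (e • w))
  (ha : ∀ (e : E) (v : V), polar Q (e • v) v = 0)

include hs ha in
/-- the functional `e ↦ Q (√e v)` -/
theorem exists_lam (v : V) : ∃ l : E →ₗ[F] F, ∀ e, l e = Q (rt E e • v) := by
  refine ⟨{ toFun := fun e => Q (rt E e • v), map_add' := fun a b => ?_, map_smul' := fun a b => ?_ }, fun e => rfl⟩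
  · have h1 : polar Q (rt E a • v) (rt E b • v) = 0 := by
      rw [← hs, smul_smul, ha]
    rw [map_add, add_smul, Q_add, h1, add_zero]
  · have h1 : rt E (a • b) = algebraMap F E (rt F a) * rt E b := by
      apply eq_rt
      rw [mul_mul_mul_comm, rt_mul_rt, ← map_mul, rt_mul_rt, Algebra.smul_def]
    have h2 : (algebraMap F E (rt F a) * rt E b) • v = rt F a • (rt E b • v) := by
      rw [mul_smul, algebraMap_smul]
    rw [h1, h2, QuadraticMap.map_smul, rt_mul_rt]
    rfl

include hs in
/-- the functional `e ↦ f (e v, w)` -/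
theorem exists_mu (v w : V) : ∃ l : E →ₗ[F] F, ∀ e, l e = polar Q (e • v) w := by
  refine ⟨{ toFun := fun e => polar Q (e • v) w, map_add' := fun a b => ?_, map_smul' := fun a b => ?_ }, fun e => rfl⟩
  · rw [add_smul, polar_add_left]
  · rw [smul_assoc, polar_smul_left]
    rfl

include hs ha in
/-- **the quadratic form over `E`** -/
theorem exists_QE {t : E →ₗ[F] F} (ht : t ≠ 0) : ∃ QE : QuadraticForm E V,
    (∀ (e : E) (v : V), t (e * QE v) = Q (rt E e • v)) ∧
      ∀ (e : E) (v w : V), t (e * polar QE v w) = polar Q (e • v) w := by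
  choose l hl using exists_lam hs ha
  choose q hq using fun v => exists_rep ht (l v)
  choose m hm using exists_mu hs
  choose f hf using fun v w => exists_rep ht (m v w)
  have hq' : ∀ (v : V) (e : E), t (e * q v) = Q (rt E e • v) := fun v e => by rw [hq, hl]
  have hf' : ∀ (v w : V) (e : E), t (e * f v w) = polar Q (e • v) w := fun v w e => by rw [hf, hm]
  have hadd : ∀ x y, q (x + y) = q x + q y + f x y := by
    intro x y
    refine t_unique' ht fun e => ?_
    have h1 : polar Q (rt E e • x) (rt E e • y) = polar Q (e • x) y := by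
      rw [← hs, smul_smul, rt_mul_rt]
    rw [hq', mul_add, mul_add, map_add, map_add, hq', hq', hf', smul_add, Q_add, h1]
  have hpol : ∀ x y, q (x + y) - q x - q y = f x y := fun x y => by rw [hadd]; ring
  let B : LinearMap.BilinMap E V E := LinearMap.mk₂ E f
    (fun a b c => t_unique' ht fun e => by
      rw [mul_add, map_add, hf', hf', hf', smul_add, polar_add_left])
    (fun a b c => t_unique' ht fun e => by
      rw [smul_eq_mul, ← mul_assoc, hf', hf', smul_smul])
    (fun a b c => t_unique' ht fun e => by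
      rw [mul_add, map_add, hf', hf', hf', polar_add_right])
    (fun a b c => t_unique' ht fun e => by
      rw [smul_eq_mul, ← mul_assoc, hf', hf', ← hs, smul_smul, mul_comm])
  refine ⟨{ toFun := q, toFun_smul := fun a v => ?_, exists_companion' := ⟨B, hadd⟩ }, fun e v => hq' v e,
    fun e v w => ?_⟩
  · refine t_unique' ht fun e => ?_
    rw [smul_eq_mul, ← mul_assoc, hq', hq', smul_smul]
    congr 2
    symm
    apply eq_rt
    rw [mul_mul_mul_comm, rt_mul_rt]
  · rw [← hf' v w e, ← hpol]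
    rfl

variable {t : E →ₗ[F] F} (ht : t ≠ 0) {QE : QuadraticForm E V}
  (h1 : ∀ (e : E) (v : V), t (e * QE v) = Q (rt E e • v))
  (h2 : ∀ (e : E) (v w : V), t (e * polar QE v w) = polar Q (e • v) w)

include h2 in
theorem nondeg_QE (hQ : Nondeg Q) : Nondeg QE := by
  intro v hv
  refine hQ v fun w => ?_
  have h := h2 1 v w
  rw [hv, mul_zero, map_zero, one_smul] at h
  exact h.symm

/-- restriction of scalars -/
def resS (F : Type u) {E V : Type u} [Field F] [Field E] [Algebra F E] [AddCommGroup V] [Module F V] [Module E V]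
    [IsScalarTower F E V] : (V ≃ₗ[E] V) →* (V ≃ₗ[F] V) where
  toFun g := g.restrictScalars F
  map_one' := rfl
  map_mul' _ _ := rfl

include ht h1 in
theorem mem_range (g : V ≃ₗ[F] V) : (g ∈ ((resS F).comp (O QE).subtype).range ↔
    g ∈ O Q ∧ ∀ (e : E) (v : V), g (e • v) = e • g v) := by
  constructor
  · rintro ⟨⟨h, hh⟩, rfl⟩
    refine ⟨fun v => ?_, fun e v => map_smul h e v⟩
    have h3 := h1 1 (h v)
    have h4 := h1 1 v
    rw [map_one, one_smul] at h3 h4
    show Q (h v) = Q v
    rw [← h3, ← h4, mem_O.1 hh]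
  · rintro ⟨hg, hc⟩
    refine ⟨⟨{ g with map_smul' := hc }, fun v => ?_⟩, ?_⟩
    · refine t_unique' ht fun e => ?_
      show t (e * QE (g v)) = t (e * QE v)
      rw [h1, h1, ← hc, mem_O.1 hg]
    · rfl

end Ext

end Field2

open Field2

open Polynomial in
theorem exists_extension {F V : Type u} [Field F] [Finite F] [CharP F 2] [AddCommGroup V] [Module F V]
    [FiniteDimensional F V] (Q : QuadraticForm F V) (hQ : Nondeg Q) (x : Module.End F V)
    (hself : ∀ v w, polar Q (x v) w = polar Q v (x w)) (halt : ∀ v, polar Q (x v) v = 0)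
    (hirr : Irreducible (minpoly F x)) :
    ∃ (E : Type u) (_ : Field E) (_ : Finite E) (_ : CharP E 2) (_ : Module E V) (_ : FiniteDimensional E V)
      (QE : QuadraticForm E V) (f : ↥(O QE) →* (V ≃ₗ[F] V)), Nondeg QE ∧
      Module.finrank E V * (minpoly F x).natDegree = Module.finrank F V ∧ Even (Module.finrank E V) ∧
      (∀ (g : O QE) (v : V), f g v = (g : V ≃ₗ[E] V) v) ∧
      (∀ g : V ≃ₗ[F] V, g ∈ f.range ↔ g ∈ O Q ∧ ∀ v, g (x v) = x (g v)) := by
  have : Fact (Irreducible (minpoly F x)) := ⟨hirr⟩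
  have hx : IsIntegral F x := Algebra.IsIntegral.isIntegral x
  let E : Type u := AdjoinRoot (minpoly F x)
  let _ : Field E := AdjoinRoot.instField
  let _ : Algebra F E := inferInstanceAs (Algebra F (AdjoinRoot (minpoly F x)))
  have hfin : Module.Finite F E := (AdjoinRoot.powerBasis hirr.ne_zero).finite
  have : Finite E := Module.finite_of_finite F
  have : CharP E 2 := charP_of_injective_algebraMap (algebraMap F E).injective 2
  have hφ0 : ∀ a : F[X], a ∈ Ideal.span {minpoly F x} → (aeval x : F[X] →ₐ[F] Module.End F V) a = 0 := by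
    intro a ha
    obtain ⟨b, rfl⟩ := Ideal.mem_span_singleton.1 ha
    rw [map_mul, minpoly.aeval, zero_mul]
  let φ : E →ₐ[F] Module.End F V := Ideal.Quotient.liftₐ (Ideal.span {minpoly F x}) (aeval x) hφ0
  have hφ : ∀ a : F[X], φ (AdjoinRoot.mk (minpoly F x) a) = aeval x a := fun a => rfl
  let _ : Module E V := Module.compHom V φ.toRingHom
  have hsm : ∀ (e : E) (v : V), e • v = φ e v := fun e v => rfl
  have hroot : ∀ v : V, (AdjoinRoot.root (minpoly F x) : E) • v = x v := by
    intro v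
    rw [hsm]
    have h1 := hφ X
    rw [aeval_X] at h1
    exact congrArg (fun f : Module.End F V => f v) h1
  have : IsScalarTower F E V := ⟨fun a e v => by
    rw [hsm, hsm, map_smul]
    rfl⟩
  have hsp : ∀ (a : F[X]) (v w : V), polar Q (aeval x a v) w = polar Q v (aeval x a w) := by
    intro a
    induction a using Polynomial.induction_on' with
    | add p q hp hq => intro v w; simp only [map_add, LinearMap.add_apply, polar_add_left, polar_add_right, hp, hq]
    | monomial n a =>
      intro v w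
      simp only [aeval_monomial, Module.End.mul_apply, Module.algebraMap_end_apply, polar_smul_left, polar_smul_right]
      congr 1
      induction n generalizing v w with
      | zero => simp
      | succ n ih =>
        rw [pow_succ, Module.End.mul_apply, ih, hself, ← Module.End.mul_apply, ← pow_succ', ← pow_succ]
  have hpow : ∀ (n : ℕ) (v w : V), polar Q ((x ^ n) v) w = polar Q v ((x ^ n) w) := by
    intro n v w
    have h1 := hsp (X ^ n) v w
    rwa [map_pow, aeval_X] at h1
  have hself0 : ∀ v : V, polar Q v v = 0 := fun v => by rw [polar_self', CharTwo.two_eq_zero, zero_mul]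
  have hap : ∀ (a : F[X]) (v : V), polar Q (aeval x a v) v = 0 := by
    intro a
    induction a using Polynomial.induction_on' with
    | add p q hp hq => intro v; rw [map_add, LinearMap.add_apply, polar_add_left, hp, hq, add_zero]
    | monomial n a =>
      intro v
      simp only [aeval_monomial, Module.End.mul_apply, Module.algebraMap_end_apply, polar_smul_left]
      rw [smul_eq_zero]
      right
      rcases Nat.even_or_odd' n with ⟨k, rfl | rfl⟩
      · rw [two_mul, pow_add, Module.End.mul_apply, hpow, hself0]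
      · have h1 : x ^ (2 * k + 1) = x ^ k * (x * x ^ k) := by
          rw [← pow_succ', ← pow_add]
          congr 1
          omega
        rw [h1, Module.End.mul_apply, Module.End.mul_apply, hpow, halt]
  have hs : ∀ (e : E) (v w : V), polar Q (e • v) w = polar Q v (e • w) := by
    intro e v w
    obtain ⟨a, rfl⟩ := AdjoinRoot.mk_surjective e
    rw [hsm, hsm, hφ]
    exact hsp a v w
  have ha : ∀ (e : E) (v : V), polar Q (e • v) v = 0 := by
    intro e v
    obtain ⟨a, rfl⟩ := AdjoinRoot.mk_surjective e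
    rw [hsm, hφ]
    exact hap a v
  have hfd : FiniteDimensional E V := Module.Finite.of_restrictScalars_finite F E V
  obtain ⟨t, ht⟩ := exists_t F E
  obtain ⟨QE, h1, h2⟩ := exists_QE hs ha ht
  have hnd := nondeg_QE h2 hQ
  refine ⟨E, inferInstance, inferInstance, inferInstance, inferInstance, hfd, QE, (resS F).comp (O QE).subtype,
    hnd, ?_, even_finrank hnd, fun g v => rfl, fun g => ?_⟩
  · have h3 : Module.finrank F E = (minpoly F x).natDegree := by
      rw [(AdjoinRoot.powerBasis hirr.ne_zero).finrank, AdjoinRoot.powerBasis_dim]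
    rw [← h3, mul_comm]
    exact Module.finrank_mul_finrank F E V
  · rw [mem_range ht h1]
    refine and_congr_right fun _ => ⟨fun h v => ?_, fun h e v => ?_⟩
    · rw [← hroot, ← hroot, h]
    · obtain ⟨a, rfl⟩ := AdjoinRoot.mk_surjective e
      rw [hsm, hsm, hφ]
      induction a using Polynomial.induction_on' generalizing v with
      | add p q hp hq => rw [map_add, LinearMap.add_apply, LinearMap.add_apply, map_add, hp, hq]
      | monomial n a =>
        simp only [aeval_monomial, Module.End.mul_apply, Module.algebraMap_end_apply, map_smul]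
        congr 1
        induction n generalizing v with
        | zero => simp
        | succ n ih => rw [pow_succ, Module.End.mul_apply, Module.End.mul_apply, ih, h]

end Cfsg.Agent.H955.FS
end

-- part: H955/FSZero
section
/-!
# The induction step for the full orthogonal groups: tools
-/

set_option autoImplicit false

universe u

namespace Cfsg.Agent.H955.FS

open Module QuadraticMap Cfsg.Agent.LieClassical.OrthCore Cfsg.Agent.LieClassical.OrthTrans
open Cfsg.Agent.H955

/-- a `2`-group of linear maps fixes a nonzero vector in characteristic two -/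
theorem exists_fixed {F V : Type u} [Field F] [Finite F] [CharP F 2] [AddCommGroup V] [Module F V]
    [FiniteDimensional F V] (hpos : 0 < finrank F V) (P : Subgroup (V ≃ₗ[F] V))
    (hP : IsPGroup 2 P) : ∃ w : V, w ≠ 0 ∧ ∀ g ∈ P, g w = w := by
  classical
  have : Finite V := Module.finite_of_finite F
  have : Fact (Nat.Prime 2) := ⟨Nat.prime_two⟩
  have := finite_equiv F V
  let _ : MulAction P V := MulAction.compHom V P.subtype
  have hcard : 2 ∣ Nat.card V := by
    rw [Module.natCard_eq_pow_finrank (K := F)]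
    refine dvd_pow ?_ hpos.ne'
    let _ := Fintype.ofFinite F
    obtain ⟨n, hp, h⟩ := FiniteField.card F 2
    rw [Nat.card_eq_fintype_card, h]
    exact dvd_pow_self 2 n.ne_zero
  obtain ⟨b, hb, hne⟩ := hP.exists_fixed_point_of_prime_dvd_card_of_fixed_point V hcard
    (a := 0) (fun g => by
      change (g : V ≃ₗ[F] V) 0 = 0
      exact map_zero _)
  exact ⟨b, hne.symm, fun g hg => hb ⟨g, hg⟩⟩

section Stab

variable {F V : Type u} [Field F] [AddCommGroup V] [Module F V] [FiniteDimensional F V]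
  {Q : QuadraticForm F V}

/-- an isometry preserving a nondegenerate subspace is a product -/
theorem exists_glue {U : Submodule F V} (hU : Nondeg (res Q U)) {g : V ≃ₗ[F] V} (hg : g ∈ O Q)
    (hgU : ∀ w ∈ U, g w ∈ U) :
    ∃ p : (U ≃ₗ[F] U) × (perp Q U ≃ₗ[F] perp Q U), p.1 ∈ O (res Q U) ∧
      p.2 ∈ O (res Q (perp Q U)) ∧ glue hU p = g := by
  have hgP : ∀ w ∈ perp Q U, g w ∈ perp Q U := inv_perp hg hgU
  refine ⟨(resT g U hgU, resT g (perp Q U) hgP), resT_mem_O hg hgU, resT_mem_O hg hgP, ?_⟩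
  ext v
  obtain ⟨a, b, rfl⟩ := exists_add_perp hU v
  rw [glue_apply, map_add]
  rfl

/-- the stabiliser of a nondegenerate subspace -/
theorem good_stab [Finite F] [CharP F 2] (hQ : Nondeg Q) {n : ℕ} (hd : finrank F V = 2 * n)
    (ih : ∀ m < n, T0.{u} m) {U : Submodule F V} (hU : Nondeg (res Q U)) (h0 : U ≠ ⊥)
    (h1 : U ≠ ⊤) :
    ∃ Y : Subgroup (V ≃ₗ[F] V), Y ≤ O Q ∧ (∀ g ∈ O Q, (∀ w ∈ U, g w ∈ U) → g ∈ Y) ∧
      FSGood False Y := by
  have := finite_equiv F V
  have := finite_equiv F U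
  have := finite_equiv F (perp Q U)
  obtain ⟨a, ha⟩ := (Field2.even_finrank hU).exists_two_nsmul
  obtain ⟨b, hb⟩ := (Field2.even_finrank (nondeg_perp hQ hU)).exists_two_nsmul
  have hsum := finrank_add_perp hQ U
  have hUpos : 0 < finrank F U := by
    rw [Nat.pos_iff_ne_zero]
    intro h
    exact h0 (Submodule.finrank_eq_zero.1 h)
  have hUlt : finrank F U < finrank F V := Submodule.finrank_lt h1
  rw [smul_eq_mul] at ha hb
  have hga : FSGood False (O (res Q U)) := ih a (by omega) F U (res Q U) hU (by omega)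
  have hgb : FSGood False (O (res Q (perp Q U))) :=
    ih b (by omega) F _ (res Q (perp Q U)) (nondeg_perp hQ hU) (by omega)
  let f : O (res Q U) × O (res Q (perp Q U)) →* (V ≃ₗ[F] V) :=
    (glue hU).comp ((O (res Q U)).subtype.prodMap (O (res Q (perp Q U))).subtype)
  refine ⟨f.range, ?_, ?_, ?_⟩
  · rintro _ ⟨p, rfl⟩
    exact (glue_mem_O hU).2 ⟨p.1.2, p.2.2⟩
  · intro g hg hgU
    obtain ⟨p, hp1, hp2, rfl⟩ := exists_glue hU hg hgU
    exact ⟨(⟨p.1, hp1⟩, ⟨p.2, hp2⟩), rfl⟩
  · exact (hga.prod hgb).of_surjective f.rangeRestrict f.rangeRestrict_surjective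

end Stab

section Plane

variable {F V : Type u} [Field F] [AddCommGroup V] [Module F V] {Q : QuadraticForm F V}

/-- the form `a² + τ a b + b²` on the plane -/
def kap (F : Type u) [Field F] (τ : F) : QuadraticForm F (F × F) where
  toFun p := p.1 * p.1 + τ * (p.1 * p.2) + p.2 * p.2
  toFun_smul := by
    intro a p
    simp only [Prod.smul_fst, Prod.smul_snd, smul_eq_mul]
    ring
  exists_companion' := by
    refine ⟨LinearMap.mk₂ F (fun p q => 2 * (p.1 * q.1) + τ * (p.1 * q.2 + p.2 * q.1)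
      + 2 * (p.2 * q.2)) ?_ ?_ ?_ ?_, ?_⟩
    · intro p p' q
      simp only [Prod.fst_add, Prod.snd_add]
      ring
    · intro c p q
      simp only [Prod.smul_fst, Prod.smul_snd, smul_eq_mul]
      ring
    · intro p q q'
      simp only [Prod.fst_add, Prod.snd_add]
      ring
    · intro c p q
      simp only [Prod.smul_fst, Prod.smul_snd, smul_eq_mul]
      ring
    · intro p q
      simp only [Prod.fst_add, Prod.snd_add, LinearMap.mk₂_apply]
      ring

theorem kap_apply (τ : F) (p : F × F) :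
    kap F τ p = p.1 * p.1 + τ * (p.1 * p.2) + p.2 * p.2 := rfl

theorem polar_kap [CharP F 2] (τ : F) (p q : F × F) :
    polar (kap F τ) p q = τ * (p.1 * q.2 + p.2 * q.1) := by
  have h2 : (2 : F) = 0 := CharTwo.two_eq_zero
  unfold polar
  rw [kap_apply, kap_apply, kap_apply]
  simp only [Prod.fst_add, Prod.snd_add]
  linear_combination (p.1 * q.1 + p.2 * q.2) * h2

theorem nondeg_kap [CharP F 2] {τ : F} (hτ : τ ≠ 0) : Nondeg (kap F τ) := by
  intro p hp
  have h1 := hp (0, 1)
  have h2 := hp (1, 0)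
  rw [polar_kap] at h1 h2
  simp only [mul_one, mul_zero, add_zero, zero_add] at h1 h2
  exact Prod.ext ((mul_eq_zero.1 h1).resolve_left hτ) ((mul_eq_zero.1 h2).resolve_left hτ)

end Plane

end Cfsg.Agent.H955.FS
end
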