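import Cfsg.Agent.H955.FSZero
import Cfsg.Agent.H955.FSDefs
import Cfsg.Agent.S2580
import Cfsg.Agent.H955.FSClifford_mg
import Cfsg.Agent.H592.FSFour
import Cfsg.Agent.S0765
import Cfsg.Agent.H646.FSOmega_mg
set_option linter.all false

-- part: H955/FSZero2
section
/-!
# The induction step for the full orthogonal groups: the covering subgroups
-/

set_option autoImplicit false

universe u

namespace Cfsg.Agent.H955.FS

open Module QuadraticMap Cfsg.Agent.LieClassical.OrthCore Cfsg.Agent.LieClassical.OrthTrans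
open Cfsg.Agent.H955

section

variable {F V : Type u} [Field F] [AddCommGroup V] [Module F V] {Q : QuadraticForm F V}

/-- `c + c⁻¹` -/
def xc (c : V ≃ₗ[F] V) : Module.End F V := (c : V →ₗ[F] V) + ((c⁻¹ : V ≃ₗ[F] V) : V →ₗ[F] V)

theorem xc_apply (c : V ≃ₗ[F] V) (v : V) : xc c v = c v + c⁻¹ v := rfl

theorem xc_self {c : V ≃ₗ[F] V} (hc : c ∈ O Q) (v w : V) :
    polar Q (xc c v) w = polar Q v (xc c w) := by
  have h1 : polar Q (c v) w = polar Q v (c⁻¹ w) := by
    have := polar_map (inv_mem hc) (c v) w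
    have e : c⁻¹ (c v) = v := c.symm_apply_apply v
    rw [e] at this
    exact this.symm
  have h2 : polar Q (c⁻¹ v) w = polar Q v (c w) := by
    have := polar_map hc (c⁻¹ v) w
    have e : c (c⁻¹ v) = v := c.apply_symm_apply v
    rw [e] at this
    exact this.symm
  rw [xc_apply, xc_apply, polar_add_left, polar_add_right, h1, h2, add_comm]

theorem xc_alt [CharP F 2] {c : V ≃ₗ[F] V} (hc : c ∈ O Q) (v : V) : polar Q (xc c v) v = 0 := by
  have h2 : polar Q (c⁻¹ v) v = polar Q (c v) v := by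
    have := polar_map hc (c⁻¹ v) v
    have e : c (c⁻¹ v) = v := c.apply_symm_apply v
    rw [e] at this
    rw [← this, polar_comm]
  rw [xc_apply, polar_add_left, h2]
  exact CharTwo.add_self_eq_zero _

theorem xc_comm {c g : V ≃ₗ[F] V} (h : g * c * g⁻¹ = c ∨ g * c * g⁻¹ = c⁻¹) (v : V) :
    g (xc c v) = xc c (g v) := by
  rw [xc_apply, xc_apply, map_add]
  rcases h with h | h
  · have h1 : g * c = c * g := by rw [← mul_inv_eq_iff_eq_mul]; exact h
    have h2 : g * c⁻¹ = c⁻¹ * g := by
      have : Commute g c := h1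
      exact this.inv_right
    have e1 : g (c v) = c (g v) := congrArg (fun t : V ≃ₗ[F] V => t v) h1
    have e2 : g (c⁻¹ v) = c⁻¹ (g v) := congrArg (fun t : V ≃ₗ[F] V => t v) h2
    rw [e1, e2]
  · have h1 : g * c = c⁻¹ * g := by rw [← mul_inv_eq_iff_eq_mul]; exact h
    have h2 : g * c⁻¹ = c * g := by
      rw [mul_inv_eq_iff_eq_mul, mul_assoc, h1, mul_inv_cancel_left]
    have e1 : g (c v) = c⁻¹ (g v) := congrArg (fun t : V ≃ₗ[F] V => t v) h1
    have e2 : g (c⁻¹ v) = c (g v) := congrArg (fun t : V ≃ₗ[F] V => t v) h2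
    rw [e1, e2, add_comm]

/-- membership in `planeK` -/
theorem mem_planeK_of {N : Type u} [AddCommGroup N] [Module F N] [FiniteDimensional F N]
    {κ : QuadraticForm F N} {ι : N →ₗ[F] V} (hι : Function.Injective ι) {g : V ≃ₗ[F] V}
    (hg : g ∈ O Q) (D : N →ₗ[F] N) (hD : ∀ p, g (ι p) = ι (D p)) (hκ : ∀ p, κ (D p) = κ p) :
    g ∈ planeK Q κ ι := by
  have hinj : Function.Injective D := by
    intro p q hpq
    apply hι
    apply g.injective
    rw [hD, hD, hpq]
  exact ⟨hg, LinearEquiv.ofInjectiveEndo D hinj, fun p => hκ p, fun p => hD p⟩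

theorem eq_one_of_sq_odd {G : Type*} [Group G] {c : G} (hodd : Odd (orderOf c))
    (h : c * c = 1) : c = 1 := by
  have h1 : orderOf c ∣ 2 := orderOf_dvd_of_pow_eq_one (by rw [pow_two]; exact h)
  rcases (Nat.dvd_prime Nat.prime_two).1 h1 with h2 | h2
  · exact orderOf_eq_one_iff.1 h2
  · rw [h2] at hodd
    exact absurd hodd (by decide)

end

/-- the covering subgroup for `K = ⟨c⟩ P` -/
theorem zero_cover {n : ℕ} (hn : 2 ≤ n) (ih : ∀ m < n, T0.{u} m) (h1 : T1.{u} n) (h2 : T2.{u} n)
    (h3 : T3.{u} n) (h4 : T4.{u} n)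
    (hred : ∀ (F V : Type u) [Field F] [Finite F] [CharP F 2] [AddCommGroup V] [Module F V]
      [FiniteDimensional F V] {Q : QuadraticForm F V} (_ : Nondeg Q) {c : V ≃ₗ[F] V}
      (_ : c ∈ O Q) (_ : Odd (orderOf c)) (_ : 0 < finrank F V)
      (_ : ¬ Irreducible (minpoly F (xc c))),
      ∃ U : Submodule F V, Nondeg (res Q U) ∧ U ≠ ⊥ ∧ U ≠ ⊤ ∧ ∀ g ∈ O Q,
        (∀ v, g (xc c v) = xc c (g v)) → ∀ w ∈ U, g w ∈ U)
    {F V : Type u} [Field F] [Finite F] [CharP F 2] [AddCommGroup V] [Module F V]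
    [FiniteDimensional F V] {Q : QuadraticForm F V} (hQ : Nondeg Q) (hd : finrank F V = 2 * n)
    {c : V ≃ₗ[F] V} (hc : c ∈ O Q) (hodd : Odd (orderOf c)) {P : Subgroup (V ≃ₗ[F] V)}
    (hPO : P ≤ O Q) (hP : IsPGroup 2 P)
    (hcP : ∀ g ∈ P, g * c * g⁻¹ = c ∨ g * c * g⁻¹ = c⁻¹) :
    ∃ Y : Subgroup (V ≃ₗ[F] V), Y ≤ O Q ∧ c ∈ Y ∧ P ≤ Y ∧ FSGood True Y ∧
      (FSGood False Y ∨ ∃ τ : F, τ ≠ 0 ∧ (∀ v, c v + c⁻¹ v = τ • v) ∧
        ∃ lam : F, lam * lam + τ * lam + 1 = 0) := by
  classical
  have := finite_equiv F V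
  have two : (2 : F) = 0 := CharTwo.two_eq_zero
  have hcc : c * c * c⁻¹ = c ∨ c * c * c⁻¹ = c⁻¹ := Or.inl (mul_inv_cancel_right c c)
  suffices H : (∃ Y : Subgroup (V ≃ₗ[F] V), Y ≤ O Q ∧ c ∈ Y ∧ P ≤ Y ∧ FSGood False Y) ∨
      (∃ Y : Subgroup (V ≃ₗ[F] V), Y ≤ O Q ∧ c ∈ Y ∧ P ≤ Y ∧ FSGood True Y ∧
      ∃ τ : F, τ ≠ 0 ∧ (∀ v, c v + c⁻¹ v = τ • v) ∧
        ∃ lam : F, lam * lam + τ * lam + 1 = 0) by
    rcases H with ⟨Y, hY1, hY2, hY3, hY4⟩ | ⟨Y, hY1, hY2, hY3, hY4, hY5⟩
    · exact ⟨Y, hY1, hY2, hY3, hY4.mono (fun h => h.elim), Or.inl hY4⟩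
    · exact ⟨Y, hY1, hY2, hY3, hY4, Or.inr hY5⟩
  by_cases hirr : Irreducible (minpoly F (xc c))
  swap
  · -- decomposable
    left
    obtain ⟨U, hU, hU0, hU1, hUg⟩ := hred F V hQ hc hodd (by omega) hirr
    obtain ⟨Y, hYO, hYmem, hYg⟩ := good_stab hQ hd ih hU hU0 hU1
    exact ⟨Y, hYO, hYmem c hc (hUg c hc (xc_comm hcc)),
      fun g hg => hYmem g (hPO hg) (hUg g (hPO hg) (xc_comm (hcP g hg))), hYg⟩
  by_cases hdeg : 2 ≤ (minpoly F (xc c)).natDegree
  · -- a proper extension field
    left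
    obtain ⟨E, iE1, iE2, iE3, iE4, iE5, QE, f, hQE, hdim, hev, hf, hrange⟩ :=
      exists_extension Q hQ (xc c) (xc_self hc) (xc_alt hc) hirr
    obtain ⟨m, hm⟩ := hev.exists_two_nsmul
    rw [smul_eq_mul] at hm
    have hmn : m < n := by
      rw [hm, hd] at hdim
      have h5 : m * (minpoly F (xc c)).natDegree = n := by
        have : 2 * (m * (minpoly F (xc c)).natDegree) = 2 * n := by rw [← hdim]; ring
        omega
      have hmpos : 0 < m := by
        rw [Nat.pos_iff_ne_zero]
        intro h0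
        rw [h0, zero_mul] at h5
        omega
      calc m < m * 2 := by omega
        _ ≤ m * (minpoly F (xc c)).natDegree := Nat.mul_le_mul_left m hdeg
        _ = n := h5
    have hgood : FSGood False (O QE) := ih m hmn E V QE hQE hm
    have : Finite (O QE) := by
      have := finite_equiv E V
      infer_instance
    refine ⟨f.range, fun g hg => ((hrange g).1 hg).1, (hrange c).2 ⟨hc, xc_comm hcc⟩,
      fun g hg => (hrange g).2 ⟨hPO hg, xc_comm (hcP g hg)⟩,
      hgood.of_surjective f.rangeRestrict f.rangeRestrict_surjective⟩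
  -- `c + c⁻¹` is a scalar
  have hdeg1 : (minpoly F (xc c)).natDegree = 1 := by
    have := hirr.natDegree_pos
    omega
  obtain ⟨τ, hτ⟩ : ∃ τ : F, ∀ v, c v + c⁻¹ v = τ • v := by
    have hint : IsIntegral F (xc c) := Algebra.IsIntegral.isIntegral _
    have hmonic := minpoly.monic hint
    have h5 := hmonic.eq_X_add_C hdeg1
    have h6 := minpoly.aeval F (xc c)
    rw [h5] at h6
    simp only [map_add, Polynomial.aeval_X, Polynomial.aeval_C] at h6
    refine ⟨-(minpoly F (xc c)).coeff 0, fun v => ?_⟩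
    have h7 := LinearMap.congr_fun h6 v
    rw [LinearMap.add_apply, LinearMap.zero_apply, Module.algebraMap_end_apply, xc_apply] at h7
    rw [neg_smul]
    exact eq_neg_of_add_eq_zero_left h7
  obtain ⟨w, hw0, hwP⟩ := exists_fixed (by omega : 0 < finrank F V) P hP
  by_cases hcw : c w = w
  · -- a common fixed vector
    left
    refine ⟨fixV Q w, fun g hg => hg.1, ⟨hc, hcw⟩, fun g hg => ⟨hPO hg, hwP g hg⟩, ?_⟩
    by_cases hQw : Q w = 0
    · exact h1 F V Q hQ hd w hw0 hQw
    · exact h2 F V Q hQ hd w hQw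
  have hτ0 : τ ≠ 0 := by
    intro h0
    apply hcw
    have h5 : ∀ v, c v = c⁻¹ v := by
      intro v
      have h6 := hτ v
      rw [h0, zero_smul] at h6
      rw [eq_neg_of_add_eq_zero_left h6, neg_eq_self' (F := F)]
    have h6 : c * c = 1 := by
      ext v
      change c (c v) = v
      rw [h5 (c v)]
      exact c.symm_apply_apply v
    rw [eq_one_of_sq_odd hodd h6]
    rfl
  -- the plane `⟨w, c w⟩`
  have hcinv : ∀ v, c⁻¹ v = τ • v + c v := by
    intro v
    rw [← hτ v, add_comm (c v), add_assoc, char_two_self (F := F), add_zero]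
  have hc2 : ∀ v, c (c v) = τ • c v + v := by
    intro v
    have h5 := hcinv (c v)
    have h6 : c⁻¹ (c v) = v := c.symm_apply_apply v
    rw [h6] at h5
    calc c (c v) = τ • c v + (τ • c v + c (c v)) := by
          rw [← add_assoc, char_two_self (F := F), zero_add]
      _ = τ • c v + v := by rw [← h5]
  have hpol : polar Q w (c w) = τ * Q w := by
    have h5 : Q (c w + c⁻¹ w) = τ * τ * Q w := by
      rw [hτ, QuadraticMap.map_smul, smul_eq_mul]
    rw [Q_add, hc w, (inv_mem hc : c⁻¹ ∈ O Q) w, hcinv, polar_add_right, polar_smul_right,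
      polar_self', hc w, two, zero_mul, add_zero, smul_eq_mul, polar_comm Q (c w) w] at h5
    have h6 : τ * polar Q w (c w) = τ * (τ * Q w) := by
      linear_combination h5 - (Q w) * two
    exact mul_left_cancel₀ hτ0 h6
  by_cases hQw : Q w = 0
  · by_cases hline : ∃ lam : F, c w = lam • w
    · -- a common eigenvector
      right
      obtain ⟨lam, hlam⟩ := hline
      have hlam0 : lam ≠ 0 := by
        intro h0
        rw [h0, zero_smul] at hlam
        exact hw0 (c.map_eq_zero_iff.1 hlam)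
      refine ⟨lineV Q w, fun g hg => hg.1, ⟨hc, Units.mk0 lam hlam0, hlam⟩,
        fun g hg => ⟨hPO hg, 1, by rw [one_smul, hwP g hg]⟩, h3 F V Q hQ hd w hw0 hQw,
        τ, hτ0, hτ, lam, ?_⟩
      have h5 := hc2 w
      rw [hlam, map_smul, hlam, smul_smul, smul_smul] at h5
      have h6 : (lam * lam + τ * lam + 1) • w = 0 := by
        rw [add_smul, add_smul, one_smul, h5]
        have h7 : (τ * lam) • w + w + (τ * lam) • w + w
            = ((τ * lam) • w + (τ * lam) • w) + (w + w) := by abel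
        rw [h7, char_two_self (F := F), char_two_self (F := F), add_zero]
      exact (smul_eq_zero.1 h6).resolve_right hw0
    · -- a totally singular plane
      let ι : F × F →ₗ[F] V :=
        (LinearMap.toSpanSingleton F V w).comp (LinearMap.fst F F F)
          + (LinearMap.toSpanSingleton F V (c w)).comp (LinearMap.snd F F F)
      have hι : ∀ p : F × F, ι p = p.1 • w + p.2 • c w := fun p => rfl
      have hinj : Function.Injective ι := by
        rw [injective_iff_map_eq_zero]
        rintro ⟨a, b⟩ hab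
        rw [hι] at hab
        by_cases hb : b = 0
        · subst hb
          rw [zero_smul, add_zero] at hab
          exact Prod.ext ((smul_eq_zero.1 hab).resolve_right hw0) rfl
        · exfalso
          apply hline
          refine ⟨-(b⁻¹ * a), ?_⟩
          have h5 : b • c w = -(a • w) := eq_neg_of_add_eq_zero_right hab
          calc c w = b⁻¹ • (b • c w) := by rw [smul_smul, inv_mul_cancel₀ hb, one_smul]
            _ = -(b⁻¹ * a) • w := by rw [h5, smul_neg, smul_smul, neg_smul]
      have hsing : ∀ p, Q (ι p) = 0 := by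
        intro p
        rw [hι, Q_add, QuadraticMap.map_smul, QuadraticMap.map_smul, hc w, hQw,
          polar_smul_left, polar_smul_right, hpol, hQw]
        simp
      have hgood := h4 F V Q hQ hd (F × F) (kap F τ) (nondeg_kap hτ0)
        (by rw [Module.finrank_prod, Module.finrank_self]) ι hinj hsing
      -- the three kinds of elements
      let Dc : F × F →ₗ[F] F × F :=
        { toFun := fun p => (p.2, p.1 + τ * p.2)
          map_add' := fun p q => Prod.ext rfl (by simp only [Prod.fst_add, Prod.snd_add]; ring)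
          map_smul' := fun a p => Prod.ext rfl (by
            simp only [Prod.smul_fst, Prod.smul_snd, smul_eq_mul, RingHom.id_apply]; ring) }
      let Di : F × F →ₗ[F] F × F :=
        { toFun := fun p => (p.1 + τ * p.2, p.2)
          map_add' := fun p q => Prod.ext (by simp only [Prod.fst_add, Prod.snd_add]; ring) rfl
          map_smul' := fun a p => Prod.ext (by
            simp only [Prod.smul_fst, Prod.smul_snd, smul_eq_mul, RingHom.id_apply]; ring) rfl }
      have hcmem : c ∈ planeK Q (kap F τ) ι := by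
        refine mem_planeK_of hinj hc Dc (fun p => ?_) (fun p => ?_)
        · change c (ι p) = ι (p.2, p.1 + τ * p.2)
          rw [hι, hι, map_add, map_smul, map_smul, hc2]
          change p.1 • c w + p.2 • (τ • c w + w) = p.2 • w + (p.1 + τ * p.2) • c w
          module
        · change kap F τ (p.2, p.1 + τ * p.2) = kap F τ p
          rw [kap_apply, kap_apply]
          simp only
          linear_combination (τ * τ * p.2 * p.2 + τ * p.1 * p.2) * two
      have hPmem : P ≤ planeK Q (kap F τ) ι := by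
        intro g hg
        rcases hcP g hg with h5 | h5
        · refine mem_planeK_of hinj (hPO hg) LinearMap.id (fun p => ?_) (fun p => rfl)
          have h6 : g (c w) = c w := by
            have h7 : g * c = c * g := by rw [← mul_inv_eq_iff_eq_mul]; exact h5
            have h8 : g (c w) = c (g w) := congrArg (fun t : V ≃ₗ[F] V => t w) h7
            rw [h8, hwP g hg]
          rw [LinearMap.id_apply, hι, map_add, map_smul, map_smul, h6, hwP g hg]
        · refine mem_planeK_of hinj (hPO hg) Di (fun p => ?_) (fun p => ?_)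
          · have h6 : g (c w) = c⁻¹ w := by
              have h7 : g * c = c⁻¹ * g := by rw [← mul_inv_eq_iff_eq_mul]; exact h5
              have h8 : g (c w) = c⁻¹ (g w) := congrArg (fun t : V ≃ₗ[F] V => t w) h7
              rw [h8, hwP g hg]
            change g (ι p) = ι (p.1 + τ * p.2, p.2)
            rw [hι, hι, map_add, map_smul, map_smul, h6, hwP g hg, hcinv]
            change p.1 • w + p.2 • (τ • w + c w) = (p.1 + τ * p.2) • w + p.2 • c w
            module
          · change kap F τ (p.1 + τ * p.2, p.2) = kap F τ p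
            rw [kap_apply, kap_apply]
            simp only
            linear_combination (τ * τ * p.2 * p.2 + τ * p.1 * p.2) * two
      by_cases hiso : ∃ p : F × F, p ≠ 0 ∧ kap F τ p = 0
      · right
        refine ⟨planeK Q (kap F τ) ι, fun g hg => hg.1, hcmem, hPmem,
          hgood.mono (fun _ => trivial), τ, hτ0, hτ, ?_⟩
        obtain ⟨p, hp0, hp⟩ := hiso
        rw [kap_apply] at hp
        have hp2 : p.2 ≠ 0 := by
          intro h0
          rw [h0] at hp
          simp only [mul_zero, add_zero] at hp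
          exact hp0 (Prod.ext (mul_self_eq_zero.1 hp) h0)
        refine ⟨p.1 / p.2, ?_⟩
        field_simp
        linear_combination hp
      · left
        exact ⟨planeK Q (kap F τ) ι, fun g hg => hg.1, hcmem, hPmem, hgood.mono hiso⟩
  · -- a nondegenerate plane
    left
    let U : Submodule F V := Submodule.span F {w, c w}
    have hmemU : ∀ v, v ∈ U ↔ ∃ a b : F, a • w + b • c w = v := fun v =>
      Submodule.mem_span_pair
    have hwU : w ∈ U := Submodule.subset_span (by simp)
    have hcwU : c w ∈ U := Submodule.subset_span (by simp)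
    have hU : Nondeg (res Q U) := by
      rw [nondeg_res_iff]
      intro x hx hxy
      obtain ⟨a, b, rfl⟩ := (hmemU x).1 hx
      have hww : polar Q w w = 0 := by rw [polar_self', two, zero_mul]
      have hcc' : polar Q (c w) (c w) = 0 := by rw [polar_self', two, zero_mul]
      have e1 := hxy w hwU
      have e2 := hxy (c w) hcwU
      rw [polar_add_left, polar_smul_left, polar_smul_left, hww, polar_comm Q (c w) w, hpol] at e1
      rw [polar_add_left, polar_smul_left, polar_smul_left, hcc', hpol] at e2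
      simp only [smul_eq_mul, mul_zero, zero_add, add_zero] at e1 e2
      have hb : b = 0 := by
        rcases mul_eq_zero.1 e1 with h | h
        · exact h
        · exact absurd h (mul_ne_zero hτ0 hQw)
      have ha : a = 0 := by
        rcases mul_eq_zero.1 e2 with h | h
        · exact h
        · exact absurd h (mul_ne_zero hτ0 hQw)
      rw [ha, hb, zero_smul, zero_smul, add_zero]
    have hU0 : U ≠ ⊥ := by
      intro h0
      rw [h0] at hwU
      exact hw0 ((Submodule.mem_bot F).1 hwU)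
    have hU1 : U ≠ ⊤ := by
      intro h0
      have h5 : finrank F U ≤ 2 := by
        have h6 := finrank_span_finset_le_card (R := F) (M := V) ({w, c w} : Finset V)
        have h7 : (({w, c w} : Finset V)).card ≤ 2 := Finset.card_le_two
        have h8 : U = Submodule.span F (({w, c w} : Finset V) : Set V) := by
          simp [U]
        rw [h8]
        exact h6.trans h7
      rw [h0, finrank_top, hd] at h5
      omega
    obtain ⟨Y, hYO, hYmem, hYg⟩ := good_stab hQ hd ih hU hU0 hU1
    refine ⟨Y, hYO, hYmem c hc ?_, fun g hg => hYmem g (hPO hg) ?_, hYg⟩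
    · intro v hv
      obtain ⟨a, b, rfl⟩ := (hmemU v).1 hv
      rw [map_add, map_smul, map_smul, hc2]
      exact add_mem (Submodule.smul_mem _ _ hcwU) (Submodule.smul_mem _ _
        (add_mem (Submodule.smul_mem _ _ hcwU) hwU))
    · intro v hv
      obtain ⟨a, b, rfl⟩ := (hmemU v).1 hv
      rw [map_add, map_smul, map_smul, hwP g hg]
      refine add_mem (Submodule.smul_mem _ _ hwU) (Submodule.smul_mem _ _ ?_)
      rcases hcP g hg with h5 | h5
      · have h7 : g * c = c * g := by rw [← mul_inv_eq_iff_eq_mul]; exact h5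
        have h8 : g (c w) = c (g w) := congrArg (fun t : V ≃ₗ[F] V => t w) h7
        rw [h8, hwP g hg]
        exact hcwU
      · have h7 : g * c = c⁻¹ * g := by rw [← mul_inv_eq_iff_eq_mul]; exact h5
        have h8 : g (c w) = c⁻¹ (g w) := congrArg (fun t : V ≃ₗ[F] V => t w) h7
        rw [h8, hwP g hg, hcinv]
        exact add_mem (Submodule.smul_mem _ _ hwU) hcwU

end Cfsg.Agent.H955.FS
end

-- part: H955/FSVec2
section
/-!
# Stabilisers of vectors: the general Siegel lemma, and singular vectors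
-/

set_option autoImplicit false

universe u

namespace Cfsg.Agent.H955.FS

open Module QuadraticMap Cfsg.Agent.LieClassical.OrthCore Cfsg.Agent.LieClassical.OrthTrans
open Cfsg.Agent.H955

/-- Clifford theory for a group of Siegel transformations extended by a part of the Levi
factor. -/
theorem good_sg {F V : Type u} [Field F] [Finite F] [CharP F 2] [AddCommGroup V] [Module F V]
    [FiniteDimensional F V] {Q : QuadraticForm F V} (hQ : Nondeg Q) {x y : V} (h : Hyp Q x y)
    (X : Subgroup (V ≃ₗ[F] V)) (S : AddSubgroup (hperp Q x y))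
    (Y₀ : Subgroup (O (res Q (hperp Q x y)) × Fˣ))
    (hX : ∀ g, g ∈ X ↔ ∃ m ∈ S, ∃ p ∈ Y₀, g = sg h m * lev h (p.1, p.2))
    (hS : ∀ p ∈ Y₀, ∀ m ∈ S, p.2 • (p.1 : hperp Q x y ≃ₗ[F] hperp Q x y) m ∈ S)
    {ψ : AddChar F ℂ} (hψ : ∃ a, ψ a ≠ 1) {w : Prop}
    (H : ∀ m' : hperp Q x y, ∃ T : Subgroup (O (res Q (hperp Q x y)) × Fˣ),
      (∀ p, p ∈ T ↔ p ∈ Y₀ ∧ ∀ m ∈ S, ψ (polar Q (m' : V)
        ((p.2 • (p.1 : hperp Q x y ≃ₗ[F] hperp Q x y) m : hperp Q x y) : V))
        = ψ (polar Q (m' : V) (m : V))) ∧ FSGood w T) :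
    FSGood w X := by
  have := finite_equiv F V
  have := finite_equiv F (hperp Q x y)
  let φ : Y₀ →* (V ≃ₗ[F] V) :=
    ((lev h).comp ((O (res Q (hperp Q x y))).subtype.prodMap (MonoidHom.id Fˣ))).comp Y₀.subtype
  have hφ : ∀ p : Y₀, φ p = lev h (p.1.1, p.1.2) := fun p => rfl
  have hφO : ∀ p, φ p ∈ O Q := fun p => (lev_mem_O h).2 p.1.1.2
  have hact : ∀ (p : Y₀) m, φ p * sg h m * (φ p)⁻¹
      = sg h (p.1.2 • (p.1.1 : hperp Q x y ≃ₗ[F] hperp Q x y) m) := fun p m =>
    lev_sg h (p := (p.1.1, p.1.2)) p.1.1.2 m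
  refine good_semidirect X (sgSub h S) ?_ ?_ ?_ φ ?_ ?_ ?_ ?_
  · rintro _ ⟨m, hm, rfl⟩
    exact (hX _).2 ⟨m, hm, 1, one_mem _, by
      have : lev h ((1 : O (res Q (hperp Q x y)) × Fˣ).1, (1 : O (res Q (hperp Q x y)) × Fˣ).2)
        = 1 := map_one (lev h)
      rw [this, mul_one]⟩
  · rintro g hg _ ⟨m, hm, rfl⟩
    obtain ⟨m₀, hm₀, p, hp, rfl⟩ := (hX g).1 hg
    have h5 := hact ⟨p, hp⟩ m
    rw [hφ] at h5
    refine ⟨p.2 • (p.1 : hperp Q x y ≃ₗ[F] hperp Q x y) m, hS p hp m hm, ?_⟩
    have h6 : sg h m₀ * lev h (p.1, p.2) * sg h m * (sg h m₀ * lev h (p.1, p.2))⁻¹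
        = sg h m₀ * (lev h (p.1, p.2) * sg h m * (lev h (p.1, p.2))⁻¹) * (sg h m₀)⁻¹ := by group
    change lev h (p.1, p.2) * sg h m * (lev h (p.1, p.2))⁻¹
      = sg h (p.2 • (p.1 : hperp Q x y ≃ₗ[F] hperp Q x y) m) at h5
    rw [h6, h5, ← sg_add, mul_inv_eq_iff_eq_mul, ← sg_add, add_comm]
  · rintro _ ⟨m, -, rfl⟩
    exact sg_mul_self h m
  · intro p
    exact (hX _).2 ⟨0, zero_mem _, p.1, p.2, by rw [sg_zero, one_mul, hφ]⟩
  · rintro p ⟨m, -, hm⟩
    have h6 : φ p x = x := by rw [hm, sg_x]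
    have h7 : p.1.2 = 1 := by
      have h8 : (p.1.2 : F) • x = (1 : F) • x := by
        rw [one_smul]
        exact (lev_x h _).symm.trans h6
      exact Units.ext (smul_left_injective F h.left_ne h8)
    have h9 : φ p y = y := by
      have : φ p y = p.1.2⁻¹ • y := lev_y h _
      rw [this, h7, inv_one, one_smul]
    have h10 : sg h m = 1 := by
      have h11 : sg h m y = y := by rw [← hm, h9]
      rw [sg_y] at h11
      have h12 : hypEquiv h (m, -Q (m : V), 1) = hypEquiv h (0, 0, 1) := by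
        rw [hypEquiv_apply, hypEquiv_apply]
        simp only [neg_smul, one_smul, ← sub_eq_add_neg, zero_smul, add_zero,
          Submodule.coe_zero, zero_add]
        exact h11
      have h13 : m = 0 := congrArg Prod.fst ((hypEquiv h).injective h12)
      rw [h13, sg_zero]
    have h14 : lev h (p.1.1, p.1.2) = 1 := by rw [← hφ, hm, h10]
    have h15 := (injective_iff_map_eq_one (lev h)).1 (lev_injective h) _ h14
    exact Subtype.ext (Prod.ext (Subtype.ext (congrArg Prod.fst h15)) h7)
  · intro g hg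
    obtain ⟨m, hm, p, hp, h5⟩ := (hX g).1 hg
    exact ⟨sg h m, ⟨m, hm, rfl⟩, ⟨p, hp⟩, h5⟩
  · intro lam hl1 hl2
    obtain ⟨m', hm'⟩ := exists_lam h hQ hψ S lam hl1 hl2
    obtain ⟨T, hT, hTg⟩ := H m'
    have hTY : T ≤ Y₀ := fun p hp => ((hT p).1 hp).1
    refine ⟨T.subgroupOf Y₀, fun p => ?_, hTg.of_equiv (Subgroup.subgroupOfEquivOfLe hTY).symm⟩
    rw [Subgroup.mem_subgroupOf, hT]
    constructor
    · rintro ⟨-, h6⟩ _ ⟨m, hm, rfl⟩
      rw [hact, hm' _ (hS _ p.2 m hm), hm' _ hm]
      exact h6 m hm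
    · intro h6
      refine ⟨p.2, fun m hm => ?_⟩
      have h7 := h6 (sg h m) ⟨m, hm, rfl⟩
      rw [hact, hm' _ (hS _ p.2 m hm), hm' _ hm] at h7
      exact h7

/-! ### singular vectors -/

theorem T1_step (n : ℕ) (h0 : T0.{u} n) (h1 : T1.{u} n) (h2 : T2.{u} n) : T1.{u} (n + 1) := by
  intro F V _ _ _ _ _ _ Q hQ hd x hx0 hx
  have := finite_equiv F V
  obtain ⟨y, h⟩ := exists_hyp hQ hx hx0
  have hM : Nondeg (res Q (hperp Q x y)) := nondeg_hperp hQ h
  have hdM : finrank F (hperp Q x y) = 2 * n := by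
    have := finrank_hperp h
    omega
  have := finite_equiv F (hperp Q x y)
  obtain ⟨ψ, hψ⟩ := exists_psi F
  refine good_sg hQ h (fixV Q x) ⊤ ((⊤ : Subgroup (O (res Q (hperp Q x y)))).prod ⊥) ?_ ?_ hψ ?_
  · intro g
    constructor
    · rintro ⟨hg, hgx⟩
      obtain ⟨m, k, hk, h5⟩ := exists_sg_lev h hg (β := 1) (by rw [one_smul, hgx])
      exact ⟨m, AddSubgroup.mem_top _, (⟨k, hk⟩, 1), ⟨Subgroup.mem_top _, rfl⟩, h5⟩
    · rintro ⟨m, -, p, ⟨-, hp⟩, rfl⟩
      have hp' : p.2 = 1 := hp
      refine ⟨mul_mem (sg_mem_O h m) ((lev_mem_O h).2 p.1.2), ?_⟩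
      rw [LinearEquiv.mul_apply, lev_x, hp', one_smul, sg_x]
  · intro p _ m _
    exact AddSubgroup.mem_top _
  · intro m'
    have hmul : ∀ {p q : O (res Q (hperp Q x y)) × Fˣ},
        p ∈ {p : O (res Q (hperp Q x y)) × Fˣ |
          p.2 = 1 ∧ (p.1 : hperp Q x y ≃ₗ[F] hperp Q x y) m' = m'} →
        q ∈ {p : O (res Q (hperp Q x y)) × Fˣ |
          p.2 = 1 ∧ (p.1 : hperp Q x y ≃ₗ[F] hperp Q x y) m' = m'} →
        p * q ∈ {p : O (res Q (hperp Q x y)) × Fˣ |
          p.2 = 1 ∧ (p.1 : hperp Q x y ≃ₗ[F] hperp Q x y) m' = m'} := by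
      rintro p q ⟨hp1, hp2⟩ ⟨hq1, hq2⟩
      refine ⟨by rw [Prod.snd_mul, hp1, hq1, one_mul], ?_⟩
      change (p.1 : hperp Q x y ≃ₗ[F] hperp Q x y) ((q.1 : hperp Q x y ≃ₗ[F] hperp Q x y) m') = m'
      rw [hq2, hp2]
    have hinv : ∀ {p : O (res Q (hperp Q x y)) × Fˣ},
        p ∈ {p : O (res Q (hperp Q x y)) × Fˣ |
          p.2 = 1 ∧ (p.1 : hperp Q x y ≃ₗ[F] hperp Q x y) m' = m'} →
        p⁻¹ ∈ {p : O (res Q (hperp Q x y)) × Fˣ |
          p.2 = 1 ∧ (p.1 : hperp Q x y ≃ₗ[F] hperp Q x y) m' = m'} := by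
      rintro p ⟨hp1, hp2⟩
      refine ⟨by rw [Prod.snd_inv, hp1, inv_one], ?_⟩
      change (p.1 : hperp Q x y ≃ₗ[F] hperp Q x y).symm m' = m'
      rw [LinearEquiv.symm_apply_eq, hp2]
    refine ⟨{ carrier := {p | p.2 = 1 ∧ (p.1 : hperp Q x y ≃ₗ[F] hperp Q x y) m' = m'}
              mul_mem' := hmul, one_mem' := ⟨rfl, rfl⟩, inv_mem' := hinv }, ?_, ?_⟩
    · intro p
      constructor
      · rintro ⟨hp1, hp2⟩
        refine ⟨⟨Subgroup.mem_top _, hp1⟩, fun m _ => ?_⟩
        have h6 : polar (res Q (hperp Q x y)) ((p.1 : _ ≃ₗ[F] _) m') ((p.1 : _ ≃ₗ[F] _) m)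
          = polar (res Q (hperp Q x y)) m' m := polar_map p.1.2 m' m
        rw [hp2] at h6
        rw [hp1, one_smul]
        exact congrArg ψ h6
      · rintro ⟨⟨-, hp1⟩, h5⟩
        have hp1' : p.2 = 1 := hp1
        refine ⟨hp1', ?_⟩
        have h6 : ∀ m : hperp Q x y, ψ (polar (res Q (hperp Q x y)) m'
            (((p.1 : hperp Q x y ≃ₗ[F] hperp Q x y) :
              hperp Q x y →ₗ[F] hperp Q x y) m)) = ψ (polar (res Q (hperp Q x y)) m' m) := by
          intro m
          have h7 := h5 m (AddSubgroup.mem_top _)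
          rw [hp1', one_smul] at h7
          exact h7
        have h7 := polar_eq_of_psi (res Q (hperp Q x y)) hψ _ h6
        rw [← sub_eq_zero]
        refine hM _ fun z => ?_
        obtain ⟨m, rfl⟩ := (p.1 : hperp Q x y ≃ₗ[F] hperp Q x y).surjective z
        rw [sub_eq_add_neg, polar_add_left, polar_neg_left]
        have h8 : polar (res Q (hperp Q x y)) ((p.1 : _ ≃ₗ[F] _) m') ((p.1 : _ ≃ₗ[F] _) m)
            = polar (res Q (hperp Q x y)) m' m := polar_map p.1.2 m' m
        have h9 : polar (res Q (hperp Q x y)) m' ((p.1 : _ ≃ₗ[F] _) m)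
            = polar (res Q (hperp Q x y)) m' m := h7 m
        rw [h8, h9]
        exact add_neg_cancel _
    · -- the stabiliser
      have hgood : FSGood False (fixV (res Q (hperp Q x y)) m') := by
        by_cases hm0 : m' = 0
        · have h5 : fixV (res Q (hperp Q x y)) m' = O (res Q (hperp Q x y)) := by
            ext g
            exact ⟨fun hg => hg.1, fun hg => ⟨hg, by rw [hm0, map_zero]⟩⟩
          rw [h5]
          exact h0 F _ _ hM hdM
        · by_cases hm1 : res Q (hperp Q x y) m' = 0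
          · exact h1 F _ _ hM hdM m' hm0 hm1
          · exact h2 F _ _ hM hdM m' hm1
      have := finite_equiv F V
      let T : Subgroup (O (res Q (hperp Q x y)) × Fˣ) :=
        { carrier := {p | p.2 = 1 ∧ (p.1 : hperp Q x y ≃ₗ[F] hperp Q x y) m' = m'}
          mul_mem' := hmul, one_mem' := ⟨rfl, rfl⟩, inv_mem' := hinv }
      let f : fixV (res Q (hperp Q x y)) m' →* T :=
        { toFun := fun g => ⟨(⟨g.1, g.2.1⟩, 1), rfl, g.2.2⟩
          map_one' := rfl
          map_mul' := fun a b => Subtype.ext (Prod.ext rfl (one_mul (1 : Fˣ)).symm) }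
      refine hgood.of_surjective f ?_
      rintro ⟨⟨g, β⟩, hβ, hg⟩
      have hβ' : β = 1 := hβ
      subst hβ'
      exact ⟨⟨g.1, g.2, hg⟩, rfl⟩

end Cfsg.Agent.H955.FS
end

-- part: H955/FSSplit
section
/-!
# Isometries which stabilise two complementary totally singular subspaces are real (helper956, task 689 [J])
-/

set_option autoImplicit false

namespace Cfsg.Agent.H955.FS

open Cfsg QuadraticMap
open Cfsg.Agent.LieClassical.OrthCore

universe u

/-- an endomorphism is selfadjoint for some nondegenerate bilinear form -/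
theorem exists_selfadjoint_form {F W : Type u} [Field F] [AddCommGroup W] [Module F W] [FiniteDimensional F W]
    (φ : W →ₗ[F] W) : ∃ B : W →ₗ[F] W →ₗ[F] F, (∀ x, (∀ y, B x y = 0) → x = 0) ∧
      ∀ x y, B (φ x) y = B x (φ y) := by
  have htor : Module.IsTorsion (Polynomial F) (Module.AEval' φ) := by
    exact Module.AEval.isTorsion_of_finiteDimensional F W φ
  obtain ⟨B, hB1, hB2⟩ := S2580.exists_form_module (Module.AEval' φ) htor
  let o : W ≃ₗ[F] Module.AEval' φ := Module.AEval'.of φ
  refine ⟨B.compl₁₂ o.toLinearMap o.toLinearMap, ?_, ?_⟩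
  · intro x hx
    have : o x = 0 := by
      apply hB1
      intro y
      simpa using hx (o.symm y)
    exact (LinearEquiv.map_eq_zero_iff o).1 this
  · intro x y
    have h := hB2 (o x) (o y) Polynomial.X
    have h1 : ∀ z, (Polynomial.X : Polynomial F) • o z = o (φ z) := fun z => Module.AEval'.X_smul_of φ z
    rw [h1, h1] at h
    simpa using h

theorem polar_eq_zero_of_sing {F V : Type u} [Field F] [AddCommGroup V] [Module F V] {Q : QuadraticForm F V}
    {W : Submodule F V} (hW : ∀ w ∈ W, Q w = 0) {x y : V} (hx : x ∈ W) (hy : y ∈ W) : polar Q x y = 0 := by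
  rw [polar, hW _ (W.add_mem hx hy), hW _ hx, hW _ hy, sub_zero, sub_zero]

/-- **Task J.** -/
theorem isConj_inv_split {F V : Type u} [Field F] [CharP F 2] [AddCommGroup V] [Module F V] [FiniteDimensional F V]
    (Q : QuadraticForm F V) (hQ : Nondeg Q) {g : V ≃ₗ[F] V} (hg : g ∈ O Q) (W W' : Submodule F V) (hc : IsCompl W W')
    (hW : ∀ w ∈ W, Q w = 0) (hW' : ∀ w ∈ W', Q w = 0) (h1 : ∀ w ∈ W, g w ∈ W) (h2 : ∀ w ∈ W', g w ∈ W') :
    ∃ h ∈ O Q, h * g * h⁻¹ = g⁻¹ ∧ (∀ w ∈ W, h w ∈ W') ∧ (∀ w ∈ W', h w ∈ W) := by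
  classical
  -- the pairing
  have sepW' : ∀ z ∈ W', (∀ y ∈ W, polar Q z y = 0) → z = 0 := by
    intro z hz h
    apply hQ
    intro v
    obtain ⟨y, hy, z', hz', rfl⟩ := Submodule.mem_sup.1 (hc.sup_eq_top ▸ Submodule.mem_top : v ∈ W ⊔ W')
    rw [polar_add_right, h y hy, polar_eq_zero_of_sing hW' hz hz', add_zero]
  have sepW : ∀ y ∈ W, (∀ z ∈ W', polar Q z y = 0) → y = 0 := by
    intro y hy h
    apply hQ
    intro v
    obtain ⟨y', hy', z, hz, rfl⟩ := Submodule.mem_sup.1 (hc.sup_eq_top ▸ Submodule.mem_top : v ∈ W ⊔ W')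
    rw [polar_add_right, polar_eq_zero_of_sing hW hy hy', polar_comm _ y z, h z hz, add_zero]
  let A' : W' →ₗ[F] Module.Dual F W := ((polarBilin Q).compl₁₂ W'.subtype W.subtype)
  let A : W →ₗ[F] Module.Dual F W' := ((polarBilin Q).compl₁₂ W.subtype W'.subtype)
  have hA'app : ∀ (z : W') (y : W), A' z y = polar Q (z : V) (y : V) := fun z y => rfl
  have hAapp : ∀ (y : W) (z : W'), A y z = polar Q (y : V) (z : V) := fun z y => rfl
  have hA' : Function.Injective A' := by
    rw [injective_iff_map_eq_zero]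
    intro z hz
    apply Subtype.ext
    refine sepW' z z.2 fun y hy => ?_
    exact congrArg (fun l : Module.Dual F W => l ⟨y, hy⟩) hz
  have hA : Function.Injective A := by
    rw [injective_iff_map_eq_zero]
    intro y hy
    apply Subtype.ext
    refine sepW y y.2 fun z hz => ?_
    rw [polar_comm]
    exact congrArg (fun l : Module.Dual F W' => l ⟨z, hz⟩) hy
  have hdW : Module.finrank F W' ≤ Module.finrank F W := by
    have := LinearMap.finrank_le_finrank_of_injective hA'
    rwa [Subspace.dual_finrank_eq] at this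
  have hdW' : Module.finrank F W ≤ Module.finrank F W' := by
    have := LinearMap.finrank_le_finrank_of_injective hA
    rwa [Subspace.dual_finrank_eq] at this
  have hdim : Module.finrank F W' = Module.finrank F W := le_antisymm hdW hdW'
  let eA' : W' ≃ₗ[F] Module.Dual F W := LinearMap.linearEquivOfInjective A' hA'
    (by rw [Subspace.dual_finrank_eq, hdim])
  let eA : W ≃ₗ[F] Module.Dual F W' := LinearMap.linearEquivOfInjective A hA
    (by rw [Subspace.dual_finrank_eq, hdim])
  -- the selfadjoint form on `W`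
  let gW : W →ₗ[F] W := (g : V →ₗ[F] V).restrict h1
  obtain ⟨B, hB1, hB2⟩ := exists_selfadjoint_form gW
  have hBinj : Function.Injective B := by
    rw [injective_iff_map_eq_zero]
    intro x hx
    exact hB1 x fun y => by rw [hx]; rfl
  let eB : W ≃ₗ[F] Module.Dual F W := LinearMap.linearEquivOfInjective B hBinj
    (by rw [Subspace.dual_finrank_eq])
  let k1 : W ≃ₗ[F] W' := eB.trans eA'.symm
  have hk1 : ∀ x y : W, polar Q (k1 x : V) (y : V) = B x y := by
    intro x y
    have h3 : A' (k1 x) = B x := eA'.apply_symm_apply (eB x)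
    rw [← hA'app, h3]
  let C : W' →ₗ[F] Module.Dual F W' := (((polarBilin Q).compl₁₂ W'.subtype W.subtype).compl₁₂ LinearMap.id
    k1.symm.toLinearMap)
  have hCapp : ∀ z u : W', C z u = polar Q (z : V) ((k1.symm u : W) : V) := fun z u => rfl
  have hC : Function.Injective C := by
    rw [injective_iff_map_eq_zero]
    intro z hz
    apply Subtype.ext
    refine sepW' z z.2 fun y hy => ?_
    have := congrArg (fun l => l (k1 ⟨y, hy⟩)) hz
    simp only [hCapp, LinearEquiv.symm_apply_apply] at this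
    exact this
  let eC : W' ≃ₗ[F] Module.Dual F W' := LinearMap.linearEquivOfInjective C hC (by rw [Subspace.dual_finrank_eq])
  let k2 : W' ≃ₗ[F] W := eC.trans eA.symm
  have hk2 : ∀ (x : W) (z : W'), polar Q (k1 x : V) (k2 z : V) = polar Q (x : V) (z : V) := by
    intro x z
    have h3 : A (k2 z) = C z := eA.apply_symm_apply (eC z)
    have h4 := congrArg (fun l => l (k1 x)) h3
    simp only [hCapp, hAapp, LinearEquiv.symm_apply_apply] at h4
    rw [polar_comm, h4, polar_comm]
  -- the isometry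
  let e : (W × W') ≃ₗ[F] V := Submodule.prodEquivOfIsCompl W W' hc
  let h : V ≃ₗ[F] V := e.symm ≪≫ₗ (LinearEquiv.prodCongr k1 k2) ≪≫ₗ (LinearEquiv.prodComm F W' W) ≪≫ₗ e
  have he : ∀ (w : W) (z : W'), e (w, z) = (w : V) + z := fun w z => Submodule.coe_prodEquivOfIsCompl' W W' hc (w, z)
  have hh : ∀ (w : W) (z : W'), h ((w : V) + z) = (k2 z : V) + k1 w := by
    intro w z
    have h3 : h (e (w, z)) = e (k2 z, k1 w) := by
      show e (((LinearEquiv.prodComm F W' W)) ((LinearEquiv.prodCongr k1 k2) (e.symm (e (w, z))))) = _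
      rw [LinearEquiv.symm_apply_apply]
      rfl
    rw [he, he] at h3
    exact h3
  have hhW : ∀ w : W, h (w : V) = k1 w := by
    intro w
    have h3 := hh w 0
    simpa using h3
  have hhW' : ∀ z : W', h (z : V) = k2 z := by
    intro z
    have h3 := hh 0 z
    simpa using h3
  have hdec : ∀ v : V, ∃ (w : W) (z : W'), v = (w : V) + z := by
    intro v
    obtain ⟨y, hy, z, hz, rfl⟩ := Submodule.mem_sup.1 (hc.sup_eq_top ▸ Submodule.mem_top : v ∈ W ⊔ W')
    exact ⟨⟨y, hy⟩, ⟨z, hz⟩, rfl⟩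
  have hO : h ∈ O Q := by
    intro v
    obtain ⟨w, z, rfl⟩ := hdec v
    rw [hh, Q_add, Q_add, hW _ (k2 z).2, hW' _ (k1 w).2, hW _ w.2, hW' _ z.2, polar_comm, hk2]
  -- `g` on `W` and on `W'` is surjective
  have hgW : ∀ y ∈ W, ∃ y' ∈ W, g y' = y := by
    have h3 : Function.Injective gW := by
      intro a b hab
      apply Subtype.ext
      apply g.injective
      exact congrArg Subtype.val hab
    intro y hy
    obtain ⟨y', hy'⟩ := LinearMap.surjective_of_injective h3 ⟨y, hy⟩
    exact ⟨y', y'.2, congrArg Subtype.val hy'⟩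
  have key1 : ∀ w : W, g (k1 (gW w) : V) = k1 w := by
    intro w
    have h3 : g (k1 (gW w) : V) - k1 w ∈ W' := W'.sub_mem (h2 _ (k1 (gW w)).2) (k1 w).2
    have h4 := sepW' _ h3 (by
      intro y hy
      obtain ⟨y', hy', rfl⟩ := hgW y hy
      rw [polar_sub_left, polar_map hg]
      have h5 : polar Q (k1 (gW w) : V) y' = B (gW w) ⟨y', hy'⟩ := hk1 _ ⟨y', hy'⟩
      have h6 : polar Q (k1 w : V) (g y') = B w (gW ⟨y', hy'⟩) := hk1 w (gW ⟨y', hy'⟩)
      rw [h5, h6, hB2, sub_self])
    exact sub_eq_zero.1 h4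
  have key2 : ∀ z : W', g (k2 ⟨g z, h2 _ z.2⟩ : V) = k2 z := by
    intro z
    have h3 : g (k2 ⟨g z, h2 _ z.2⟩ : V) - k2 z ∈ W := W.sub_mem (h1 _ (k2 _).2) (k2 z).2
    have h4 := sepW _ h3 (by
      intro u hu
      obtain ⟨x, hx⟩ := k1.surjective ⟨u, hu⟩
      have hux : u = k1 x := (congrArg Subtype.val hx).symm
      rw [hux, polar_sub_right, hk2]
      conv_lhs => enter [1]; rw [← key1 x]
      rw [polar_map hg, hk2]
      show polar Q (g (x : V)) (g (z : V)) - _ = 0
      rw [polar_map hg, sub_self])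
    exact sub_eq_zero.1 h4
  have hgh : ∀ v, g (h (g v)) = h v := by
    intro v
    obtain ⟨w, z, rfl⟩ := hdec v
    rw [map_add g]
    have h3 : g (w : V) + g (z : V) = ((gW w : W) : V) + ((⟨g z, h2 _ z.2⟩ : W') : V) := rfl
    rw [h3, hh, hh, map_add, key1, key2]
  refine ⟨h, hO, ?_, ?_, ?_⟩
  · rw [mul_inv_eq_iff_eq_mul, eq_inv_mul_iff_mul_eq]
    apply LinearEquiv.ext
    intro v
    exact hgh v
  · intro w hw
    rw [show h w = k1 ⟨w, hw⟩ from hhW ⟨w, hw⟩]
    exact (k1 _).2
  · intro w hw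
    rw [show h w = k2 ⟨w, hw⟩ from hhW' ⟨w, hw⟩]
    exact (k2 _).2

end Cfsg.Agent.H955.FS
end

-- part: H627/FSZero
section
/-!
# Pieces of the step `T0` (S4940, S4972, S4973)

* `T0_one`: the planes;
* `exists_inv_of_eigen`: reality of `g` if an element `c` commuting with `g` satisfies
  `c + c⁻¹ = τ ≠ 0` and `X² + τ X + 1` has a root in `F`;
* `exists_split`: if the minimal polynomial of `x = c + c⁻¹` is not irreducible then `V` splits.
-/

set_option autoImplicit false

namespace Cfsg.Agent.H627.FSZero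

open Cfsg QuadraticMap Cfsg.Agent.H955.FS
open Cfsg.Agent.LieClassical.OrthCore

universe u

theorem T0_one : T0.{u} 1 := by
  intro F V _ _ _ _ _ _ Q hQ hd
  have : Finite V := Module.finite_of_finite F
  have : Finite (V ≃ₗ[F] V) := Finite.of_injective (fun g : V ≃ₗ[F] V => (g : V → V)) DFunLike.coe_injective
  obtain ⟨C, hC, hodd, hsq, ⟨g, hg, hgC⟩, -⟩ := plane_compl Q hQ (by rw [hd])
  have h1 : Odd (Nat.card (C.subgroupOf (O Q))) := by
    rw [Nat.card_congr (Subgroup.subgroupOfEquivOfLe hC).toEquiv]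
    exact hodd
  refine (fsGood_of_compl (C.subgroupOf (O Q)) h1 ?_).mono ?_
  · intro x hx
    apply Subtype.ext
    exact hsq x x.2 fun h => hx (Subgroup.mem_subgroupOf.2 h)
  · intro h
    apply hgC
    have : (⟨g, hg⟩ : O Q) ∈ C.subgroupOf (O Q) := by rw [h]; trivial
    exact Subgroup.mem_subgroupOf.1 this

section Eigen

variable {F V : Type u} [Field F] [AddCommGroup V] [Module F V]

/-- the eigenspace as a submodule -/
def eig (c : V ≃ₗ[F] V) (lam : F) : Submodule F V where
  carrier := {v | c v = lam • v}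
  add_mem' {a b} ha hb := by
    show c (a + b) = _
    rw [map_add, ha, hb, smul_add]
  zero_mem' := by
    show c 0 = _
    rw [map_zero, smul_zero]
  smul_mem' a v hv := by
    show c (a • v) = _
    rw [map_smul, hv, smul_comm]

theorem mem_eig {c : V ≃ₗ[F] V} {lam : F} {v : V} : v ∈ eig c lam ↔ c v = lam • v := Iff.rfl

theorem isCompl_eig {c : V ≃ₗ[F] V} {lam mu : F} (hne : lam ≠ mu)
    (h : ∀ v, c (c v) = (lam + mu) • c v - (lam * mu) • v) : IsCompl (eig c lam) (eig c mu) := by
  have hsub : lam - mu ≠ 0 := sub_ne_zero.2 hne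
  refine ⟨?_, ?_⟩
  · rw [Submodule.disjoint_def]
    intro v h1 h2
    have h3 : (lam - mu) • v = 0 := by
      rw [sub_smul, ← mem_eig.1 h1, ← mem_eig.1 h2, sub_self]
    exact (smul_eq_zero.1 h3).resolve_left hsub
  · rw [codisjoint_iff, eq_top_iff]
    intro v _
    have h1 : c v - mu • v ∈ eig c lam := by
      rw [mem_eig, map_sub, map_smul, h]
      module
    have h2 : c v - lam • v ∈ eig c mu := by
      rw [mem_eig, map_sub, map_smul, h]
      module
    have h3 : v = (lam - mu)⁻¹ • (c v - mu • v) + -((lam - mu)⁻¹ • (c v - lam • v)) := by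
      have h4 : (lam - mu)⁻¹ • (c v - mu • v) + -((lam - mu)⁻¹ • (c v - lam • v)) =
          ((lam - mu)⁻¹ * (lam - mu)) • v := by
        module
      rw [h4, inv_mul_cancel₀ hsub, one_smul]
    rw [h3]
    exact Submodule.add_mem_sup (Submodule.smul_mem _ _ h1) (Submodule.neg_mem _ (Submodule.smul_mem _ _ h2))

/-- reality, eigenvalue case -/
theorem exists_inv_of_eigen [CharP F 2] [FiniteDimensional F V] {Q : QuadraticForm F V} (hQ : Nondeg Q)
    {g c : V ≃ₗ[F] V} (hg : g ∈ O Q) (hc : c ∈ O Q) (hgc : g * c = c * g) {τ lam : F} (hτ : τ ≠ 0)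
    (hcc : ∀ v, c v + c.symm v = τ • v) (hlam : lam * lam + τ * lam + 1 = 0) :
    ∃ h ∈ O Q, h * g * h⁻¹ = g⁻¹ := by
  have hl0 : lam ≠ 0 := by
    rintro rfl
    rw [mul_zero, mul_zero, zero_add, zero_add] at hlam
    exact one_ne_zero hlam
  have h2 : ∀ a : F, a + a = 0 := fun a => CharTwo.add_self_eq_zero a
  have hτ' : τ = lam + lam⁻¹ := by
    have h3 : τ * lam = lam * lam + 1 := by
      have h4 : lam * lam + τ * lam + 1 + (lam * lam + 1) = lam * lam + 1 := by rw [hlam, zero_add]
      have h5 : lam * lam + τ * lam + 1 + (lam * lam + 1) = τ * lam := by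
        have : lam * lam + τ * lam + 1 + (lam * lam + 1) = τ * lam + ((lam * lam + lam * lam) + (1 + 1)) := by ring
        rw [this, h2, h2, add_zero, add_zero]
      rw [← h5, h4]
    field_simp
    rw [h3, pow_two]
  have hne : lam ≠ lam⁻¹ := by
    intro h
    apply hτ
    rw [hτ', ← h, h2]
  have hquad : ∀ v, c (c v) = (lam + lam⁻¹) • c v - (lam * lam⁻¹) • v := by
    intro v
    have h3 := hcc (c v)
    rw [LinearEquiv.symm_apply_apply] at h3
    rw [← hτ', mul_inv_cancel₀ hl0, one_smul, ← h3, add_sub_cancel_right]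
  have hsing : ∀ μ : F, μ * μ ≠ 1 → ∀ w ∈ eig c μ, Q w = 0 := by
    intro μ hμ w hw
    have h3 : Q w = (μ * μ) * Q w := by
      conv_lhs => rw [← mem_O.1 hc w, mem_eig.1 hw]
      rw [QuadraticMap.map_smul, smul_eq_mul]
    have h4 : (μ * μ - 1) * Q w = 0 := by
      rw [sub_mul, one_mul, ← h3, sub_self]
    exact (mul_eq_zero.1 h4).resolve_left (sub_ne_zero.2 hμ)
  have hl1 : lam * lam ≠ 1 := fun h => hne (eq_inv_of_mul_eq_one_left h)
  have hl2 : lam⁻¹ * lam⁻¹ ≠ 1 := by
    intro h
    apply hl1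
    rw [← mul_inv] at h
    exact inv_eq_one.1 h
  have hinv : ∀ μ : F, ∀ w ∈ eig c μ, g w ∈ eig c μ := by
    intro μ w hw
    have h3 : c (g w) = g (c w) := by
      have := congrArg (fun f : V ≃ₗ[F] V => f w) hgc
      exact this.symm
    rw [mem_eig, h3, mem_eig.1 hw, map_smul]
  obtain ⟨h, hh, h3, -⟩ := isConj_inv_split Q hQ hg (eig c lam) (eig c lam⁻¹) (isCompl_eig hne hquad)
    (hsing _ hl1) (hsing _ hl2) (hinv _) (hinv _)
  exact ⟨h, hh, h3⟩

end Eigen

section Split

open Polynomial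

variable {F V : Type u} [Field F] [AddCommGroup V] [Module F V]

theorem aeval_selfadj {Q : QuadraticForm F V} {x : Module.End F V}
    (hself : ∀ v w, polar Q (x v) w = polar Q v (x w)) (a : F[X]) (v w : V) :
    polar Q (aeval x a v) w = polar Q v (aeval x a w) := by
  have hpow : ∀ (n : ℕ) (v w : V), polar Q ((x ^ n) v) w = polar Q v ((x ^ n) w) := by
    intro n
    induction n with
    | zero => intro v w; rfl
    | succ n ih =>
      intro v w
      rw [pow_succ, Module.End.mul_apply, ih, hself, ← Module.End.mul_apply, ← pow_succ', ← pow_succ]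
  induction a using Polynomial.induction_on' generalizing v w with
  | add p q hp hq => simp only [map_add, LinearMap.add_apply, polar_add_left, polar_add_right, hp, hq]
  | monomial n a =>
    simp only [aeval_monomial, Module.End.mul_apply, Module.algebraMap_end_apply, polar_smul_left,
      polar_smul_right, hpow]

/-- **(T0-red)** -/
theorem exists_split [CharP F 2] [FiniteDimensional F V] [Nontrivial V] {Q : QuadraticForm F V}
    {c : V ≃ₗ[F] V} (hodd : Odd (orderOf c)) (x : Module.End F V) (hx : ∀ v, x v = c v + c.symm v)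
    (hc : c ∈ O Q) (hirr : ¬ Irreducible (minpoly F x)) :
    ∃ U U' : Submodule F V, IsCompl U U' ∧ U ≠ ⊥ ∧ U' ≠ ⊥ ∧ (∀ u ∈ U, ∀ w ∈ U', polar Q u w = 0) ∧
      ∀ g : V ≃ₗ[F] V, (∀ v, g (x v) = x (g v)) → (∀ u ∈ U, g u ∈ U) ∧ (∀ u ∈ U', g u ∈ U') := by
  have hself : ∀ v w, polar Q (x v) w = polar Q v (x w) := by
    intro v w
    have h1 : polar Q (c v) w = polar Q v (c.symm w) := by
      have := polar_map hc v (c.symm w)
      rwa [LinearEquiv.apply_symm_apply] at this
    have h2 : polar Q (c.symm v) w = polar Q v (c w) := by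
      have := polar_map hc (c.symm v) w
      rw [LinearEquiv.apply_symm_apply] at this
      exact this.symm
    rw [hx, hx, polar_add_left, polar_add_right, h1, h2, add_comm]
  -- `c` is semisimple
  have hm : 0 < orderOf c := hodd.pos
  let f : Module.End F V := c.toLinearMap
  have hf : ∀ (n : ℕ), f ^ n = (c ^ n).toLinearMap := by
    intro n
    induction n with
    | zero => rfl
    | succ n ih => rw [pow_succ, pow_succ, ih]; rfl
  have hsf : Squarefree (X ^ orderOf c - 1 : F[X]) := by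
    apply Polynomial.Separable.squarefree
    apply Polynomial.X_pow_sub_one_separable_iff.2
    intro h
    rw [CharP.cast_eq_zero_iff F 2] at h
    exact (Nat.not_even_iff_odd.2 hodd) (even_iff_two_dvd.2 h)
  have hss : f.IsSemisimple := by
    refine Module.End.isSemisimple_of_squarefree_aeval_eq_zero hsf ?_
    rw [map_sub, map_pow, aeval_X, map_one, hf, pow_orderOf_eq_one]
    exact sub_self _
  have hxf : x = aeval f (X + X ^ (orderOf c - 1) : F[X]) := by
    apply LinearMap.ext
    intro v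
    rw [hx, map_add, map_pow, aeval_X, LinearMap.add_apply, hf]
    congr 1
    have : c⁻¹ = c ^ (orderOf c - 1) := by
      rw [inv_eq_iff_mul_eq_one, ← pow_succ', Nat.sub_add_cancel hm, pow_orderOf_eq_one]
    rw [← this]
    rfl
  have hxss : x.IsSemisimple := by
    rw [hxf]
    exact hss.aeval _
  have hsqf : Squarefree (minpoly F x) := hxss.minpoly_squarefree
  have hint : IsIntegral F x := Algebra.IsIntegral.isIntegral x
  obtain ⟨p, hp, q, hpq⟩ := WfDvdMonoid.exists_irreducible_factor (minpoly.not_isUnit F x) (minpoly.ne_zero hint)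
  have hq : ¬ IsUnit q := by
    intro hq
    apply hirr
    rw [hpq]
    exact (irreducible_mul_isUnit hq).2 hp
  have hcop : IsCoprime p q := by
    rw [hpq] at hsqf
    exact (squarefree_mul_iff.1 hsqf).1.isCoprime
  obtain ⟨a, b, hab⟩ := hcop
  have hpq0 : ∀ v, aeval x p (aeval x q v) = 0 := by
    intro v
    rw [← Module.End.mul_apply, ← map_mul, ← hpq, minpoly.aeval, LinearMap.zero_apply]
  have hqp0 : ∀ v, aeval x q (aeval x p v) = 0 := by
    intro v
    rw [← Module.End.mul_apply, ← map_mul, mul_comm, ← hpq, minpoly.aeval, LinearMap.zero_apply]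
  have hdec : ∀ v, v = aeval x a (aeval x p v) + aeval x b (aeval x q v) := by
    intro v
    rw [← Module.End.mul_apply, ← Module.End.mul_apply, ← map_mul, ← map_mul, ← LinearMap.add_apply,
      ← map_add, hab, map_one, Module.End.one_apply]
  have hcomm : ∀ (r s : F[X]) (v : V), aeval x r (aeval x s v) = aeval x s (aeval x r v) := by
    intro r s v
    rw [← Module.End.mul_apply, ← Module.End.mul_apply, ← map_mul, ← map_mul, mul_comm]
  refine ⟨LinearMap.ker (aeval x p), LinearMap.ker (aeval x q), ⟨?_, ?_⟩, ?_, ?_, ?_, ?_⟩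
  · rw [Submodule.disjoint_def]
    intro v h1 h2
    rw [hdec v, LinearMap.mem_ker.1 h1, LinearMap.mem_ker.1 h2, map_zero, map_zero, add_zero]
  · rw [codisjoint_iff, eq_top_iff]
    intro v _
    rw [hdec v, add_comm]
    refine Submodule.add_mem_sup ?_ ?_
    · rw [LinearMap.mem_ker, hcomm, hpq0, map_zero]
    · rw [LinearMap.mem_ker, hcomm, hqp0, map_zero]
  · intro h
    have h1 : aeval x q = 0 := by
      apply LinearMap.ext
      intro v
      have h2 := hpq0 v
      rw [← LinearMap.mem_ker, h, Submodule.mem_bot] at h2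
      exact h2
    have h3 := minpoly.dvd F x h1
    rw [hpq] at h3
    have hq0 : q ≠ 0 := by
      rintro rfl
      exact minpoly.ne_zero hint (by rw [hpq, mul_zero])
    obtain ⟨r, hr⟩ := h3
    apply hp.not_isUnit
    apply IsUnit.of_mul_eq_one r
    apply mul_right_cancel₀ hq0
    rw [one_mul]
    conv_rhs => rw [hr]
    ring
  · intro h
    have h1 : aeval x p = 0 := by
      apply LinearMap.ext
      intro v
      have h2 := hqp0 v
      rw [← LinearMap.mem_ker, h, Submodule.mem_bot] at h2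
      exact h2
    have h3 := minpoly.dvd F x h1
    rw [hpq] at h3
    have hp0 : p ≠ 0 := hp.ne_zero
    obtain ⟨r, hr⟩ := h3
    apply hq
    apply IsUnit.of_mul_eq_one r
    apply mul_left_cancel₀ hp0
    rw [mul_one]
    conv_rhs => rw [hr]
    ring
  · intro u hu w hw
    rw [LinearMap.mem_ker] at hu hw
    have h1 : w = aeval x p (aeval x a w) := by
      conv_lhs => rw [hdec w, hw, map_zero, add_zero, hcomm]
    rw [h1, ← aeval_selfadj hself, hu, polar_zero_left]
  · intro g hg
    have hpowg : ∀ (n : ℕ) (v : V), g ((x ^ n) v) = (x ^ n) (g v) := by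
      intro n
      induction n with
      | zero => intro v; rfl
      | succ n ih =>
        intro v
        rw [pow_succ', Module.End.mul_apply, Module.End.mul_apply, hg, ih]
    have hag : ∀ (a : F[X]) (v : V), g (aeval x a v) = aeval x a (g v) := by
      intro a v
      induction a using Polynomial.induction_on' with
      | add p q hp hq => simp only [map_add, LinearMap.add_apply, hp, hq]
      | monomial n a =>
        simp only [aeval_monomial, Module.End.mul_apply, Module.algebraMap_end_apply, map_smul, hpowg]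
    refine ⟨fun u hu => ?_, fun u hu => ?_⟩
    · rw [LinearMap.mem_ker] at hu ⊢
      rw [← hag, hu, map_zero]
    · rw [LinearMap.mem_ker] at hu ⊢
      rw [← hag, hu, map_zero]

end Split

end Cfsg.Agent.H627.FSZero
end

-- part: H955/FSZero3
section
/-!
# The induction step for the full orthogonal groups
-/

set_option autoImplicit false

universe u

namespace Cfsg.Agent.H955.FS

open Module QuadraticMap Cfsg.Agent.LieClassical.OrthCore Cfsg.Agent.LieClassical.OrthTrans
open Cfsg.Agent.H955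

/-- groups of exponent two -/
theorem fsGood_of_sq {G : Type u} [Group G] [Finite G] (h : ∀ x : G, x * x = 1) :
    FSGood False G := by
  have h1 : FSGood True G := (fsGood_of_compl (⊥ : Subgroup G)
    (by rw [Subgroup.card_bot]; exact odd_one) (fun x _ => h x)).mono (fun _ => trivial)
  refine h1.of_isConj_inv fun g => ?_
  rw [inv_eq_of_mul_eq_one_right (h g)]

theorem T0_zero : T0.{u} 0 := by
  intro F V _ _ _ _ _ _ Q _ hd
  have := finite_equiv F V
  have hV : Subsingleton V := Module.finrank_zero_iff.1 (by omega)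
  refine fsGood_of_sq fun x => Subtype.ext ?_
  ext v
  exact Subsingleton.elim _ _

theorem hred {F V : Type u} [Field F] [Finite F] [CharP F 2] [AddCommGroup V] [Module F V]
    [FiniteDimensional F V] {Q : QuadraticForm F V} (hQ : Nondeg Q) {c : V ≃ₗ[F] V}
    (hc : c ∈ O Q) (hodd : Odd (orderOf c)) (hpos : 0 < finrank F V)
    (hirr : ¬ Irreducible (minpoly F (xc c))) :
    ∃ U : Submodule F V, Nondeg (res Q U) ∧ U ≠ ⊥ ∧ U ≠ ⊤ ∧ ∀ g ∈ O Q,
      (∀ v, g (xc c v) = xc c (g v)) → ∀ w ∈ U, g w ∈ U := by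
  have : Nontrivial V := Module.finrank_pos_iff.1 hpos
  obtain ⟨U, U', hcomp, hU, hU', horth, hinv⟩ :=
    Cfsg.Agent.H627.FSZero.exists_split hodd (xc c) (fun v => rfl) hc hirr
  refine ⟨U, ?_, hU, ?_, fun g _ hg => (hinv g hg).1⟩
  · rw [nondeg_res_iff]
    intro x hx h
    refine hQ x fun y => ?_
    have hy : y ∈ U ⊔ U' := by rw [hcomp.sup_eq_top]; exact Submodule.mem_top
    obtain ⟨a, ha, b, hb, rfl⟩ := Submodule.mem_sup.1 hy
    rw [polar_add_right, h a ha, horth x hx b hb, add_zero]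
  · intro h
    apply hU'
    have h1 := hcomp.inf_eq_bot
    rw [h, top_inf_eq] at h1
    exact h1

theorem T0_step {n : ℕ} (hn : 2 ≤ n) (ih : ∀ m < n, T0.{u} m) (h1 : T1.{u} n) (h2 : T2.{u} n)
    (h3 : T3.{u} n) (h4 : T4.{u} n) : T0.{u} n := by
  intro F V _ _ _ _ _ _ Q hQ hd
  have := finite_equiv F V
  have key := fun {c : V ≃ₗ[F] V} (hc : c ∈ O Q) (hodd : Odd (orderOf c))
    {P : Subgroup (V ≃ₗ[F] V)} (hPO : P ≤ O Q) (hP : IsPGroup 2 P)
    (hcP : ∀ g ∈ P, g * c * g⁻¹ = c ∨ g * c * g⁻¹ = c⁻¹) =>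
    zero_cover hn ih h1 h2 h3 h4 (fun F V _ _ _ _ _ _ Q hQ c hc hodd hpos hirr =>
      hred hQ hc hodd hpos hirr) hQ hd hc hodd hPO hP hcP
  refine fsGood_of_inv (fsGood_of_cover_amb (O Q) fun c hc hodd P hPO hP hcP => ?_) ?_
  · obtain ⟨Y, hY1, hY2, hY3, hY4, -⟩ := key hc hodd hPO hP hcP
    exact ⟨Y, hY1, hY2, hY3, hY4⟩
  · intro g hg
    obtain ⟨c, p, hcp, hcomm, hodd, k, hk⟩ :=
      Cfsg.Agent.H592.FSPar.exists_decomp (⟨g, hg⟩ : O Q)
    have hg' : g = (c : V ≃ₗ[F] V) * (p : V ≃ₗ[F] V) := congrArg Subtype.val hcp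
    have hcomm' : (c : V ≃ₗ[F] V) * p = p * c := congrArg Subtype.val hcomm.eq
    have hk' : (p : V ≃ₗ[F] V) ^ 2 ^ k = 1 := congrArg Subtype.val hk
    have hP : IsPGroup 2 (Subgroup.zpowers (p : V ≃ₗ[F] V)) := by
      rintro ⟨x, j, rfl⟩
      refine ⟨k, Subtype.ext ?_⟩
      change ((p : V ≃ₗ[F] V) ^ j) ^ 2 ^ k = 1
      rw [← zpow_natCast, ← zpow_mul, mul_comm, zpow_mul, zpow_natCast, hk', one_zpow]
    obtain ⟨Y, hY1, hY2, hY3, hY4, hY5⟩ := key c.2 (by rwa [Subgroup.orderOf_coe])
      ((Subgroup.zpowers_le).2 p.2) hP (by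
        rintro _ ⟨j, rfl⟩
        left
        have h5 : Commute ((p : V ≃ₗ[F] V) ^ j) (c : V ≃ₗ[F] V) :=
          Commute.zpow_left (show Commute (p : V ≃ₗ[F] V) c from hcomm'.symm) j
        rw [h5.eq, mul_inv_cancel_right])
    have hpY : (p : V ≃ₗ[F] V) ∈ Y := hY3 (Subgroup.mem_zpowers _)
    have : Finite Y := inferInstance
    rcases hY5 with hY5 | ⟨τ, hτ, hx, lam, hlam⟩
    · obtain ⟨x, hx, hxg⟩ := hY5.exists_inv (g := g) (by rw [hg']; exact mul_mem hY2 hpY)
      exact ⟨x, hY1 hx, hxg⟩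
    · refine Cfsg.Agent.H627.FSZero.exists_inv_of_eigen hQ hg c.2 ?_ hτ hx hlam
      rw [hg', mul_assoc, ← hcomm']

theorem T1_zero : T1.{u} 0 := by
  intro F V _ _ _ _ _ _ Q _ hd v hv
  have hV : Subsingleton V := Module.finrank_zero_iff.1 (by omega)
  exact absurd (Subsingleton.elim v 0) hv

theorem T3_zero : T3.{u} 0 := by
  intro F V _ _ _ _ _ _ Q _ hd v hv
  have hV : Subsingleton V := Module.finrank_zero_iff.1 (by omega)
  exact absurd (Subsingleton.elim v 0) hv

/-- the induction, given the three remaining steps -/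
theorem all_of (hT2 : ∀ n, T5.{u} n → (∀ m < n, T0.{u} m) → T2.{u} n)
    (hT4 : ∀ n, (∀ m < n, T0.{u} m ∧ T1.{u} m ∧ T2.{u} m ∧ T3.{u} m ∧ T4.{u} m ∧ T5.{u} m) →
      T4.{u} n)
    (hT5 : ∀ n, (∀ m < n, T0.{u} m ∧ T2.{u} m ∧ T5.{u} m) → T5.{u} n) (n : ℕ) :
    T0.{u} n ∧ T1.{u} n ∧ T2.{u} n ∧ T3.{u} n ∧ T4.{u} n ∧ T5.{u} n := by
  induction n using Nat.strong_induction_on with
  | _ n ih =>
  have h5 := hT5 n fun m hm => ⟨(ih m hm).1, (ih m hm).2.2.1, (ih m hm).2.2.2.2.2⟩
  have h4 := hT4 n ih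
  have h2 := hT2 n h5 fun m hm => (ih m hm).1
  have h1 : T1.{u} n := by
    rcases n with - | m
    · exact T1_zero
    · have h := ih m (Nat.lt_succ_self m)
      exact T1_step m h.1 h.2.1 h.2.2.1
  have h3 : T3.{u} n := by
    rcases n with - | m
    · exact T3_zero
    · have h := ih m (Nat.lt_succ_self m)
      exact T3_step m h.1 h.2.2.1 h.2.2.2.1
  refine ⟨?_, h1, h2, h3, h4, h5⟩
  by_cases hn : 2 ≤ n
  · exact T0_step hn (fun m hm => (ih m hm).1) h1 h2 h3 h4
  · have : n = 0 ∨ n = 1 := by omega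
    rcases this with rfl | rfl
    · exact T0_zero
    · exact Cfsg.Agent.H627.FSZero.T0_one

end Cfsg.Agent.H955.FS
end

-- part: H955/FSFive
section
/-!
# The groups `transV` (`T5`)
-/

set_option autoImplicit false

universe u

namespace Cfsg.Agent.H955.FS

open Module QuadraticMap Cfsg.Agent.LieClassical.OrthCore Cfsg.Agent.LieClassical.OrthTrans
open Cfsg.Agent.H955

section Aux

variable {F M : Type u} [Field F] [AddCommGroup M] [Module F M] {R : QuadraticForm F M}

theorem eq_smul_of_perp (hR : Nondeg R) {w d : M} (hw : w ≠ 0)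
    (h : ∀ m, polar R w m = 0 → polar R d m = 0) : ∃ t : F, d = t • w := by
  obtain ⟨m₁, hm₁⟩ := hR.exists_polar_eq hw 1
  refine ⟨polar R d m₁, ?_⟩
  rw [← sub_eq_zero]
  refine hR _ fun m => ?_
  have h1 : polar R w (m - polar R w m • m₁) = 0 := by
    rw [sub_eq_add_neg, polar_add_right, polar_neg_right, polar_smul_right, hm₁, smul_eq_mul,
      mul_one]
    exact add_neg_cancel _
  have h2 := h _ h1
  rw [sub_eq_add_neg, polar_add_right, polar_neg_right, polar_smul_right, smul_eq_mul] at h2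
  rw [sub_eq_add_neg, polar_add_left, polar_neg_left, polar_smul_left, smul_eq_mul, mul_comm]
  exact h2

/-- the group fixing a nonsingular `w` and moving `m'` by multiples of `w` -/
theorem good_trans [Finite F] [CharP F 2] [FiniteDimensional F M] {k : ℕ}
    (h0 : ∀ m < k, T0.{u} m) (h2 : T2.{u} k) (h5 : T5.{u} k) (hR : Nondeg R)
    (hd : finrank F M = 2 * k) {w : M} (hw : R w ≠ 0) (m' : M) (Γ : AddSubgroup F) :
    FSGood False (transV R w m' Γ) := by
  classical
  have := finite_equiv F M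
  have two : (2 : F) = 0 := CharTwo.two_eq_zero
  have hw0 : w ≠ 0 := by
    rintro rfl
    exact hw (QuadraticMap.map_zero R)
  by_cases hm' : polar R w m' = 0
  · -- translations are trivial
    have htriv : ∀ g ∈ transV R w m' Γ, g w = w ∧ g m' = m' := by
      rintro g ⟨hg, hgw, γ, hγ, hgm⟩
      refine ⟨hgw, ?_⟩
      have h6 := hg m'
      rw [hgm, Q_add, QuadraticMap.map_smul, polar_smul_right, polar_comm, hm', smul_eq_mul,
        smul_eq_mul, mul_zero, add_zero] at h6
      have h7 : γ * γ * R w = 0 := by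
        have := add_eq_left.1 h6
        exact this
      have h8 : γ = 0 := by
        rcases mul_eq_zero.1 h7 with h | h
        · exact mul_self_eq_zero.1 h
        · exact absurd h hw
      rw [hgm, h8, zero_smul, add_zero]
    by_cases hline : ∃ c : F, m' = c • w
    · obtain ⟨c, hc⟩ := hline
      have heq : transV R w m' Γ = fixV R w := by
        ext g
        constructor
        · intro hg
          exact ⟨hg.1, hg.2.1⟩
        · rintro ⟨hg, hgw⟩
          exact ⟨hg, hgw, 0, zero_mem _, by rw [hc, map_smul, hgw, zero_smul, add_zero]⟩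
      rw [heq]
      exact h2 F M R hR hd w hw
    · -- a singular vector
      obtain ⟨τ, hτ⟩ : ∃ τ : F, τ * τ = (R w)⁻¹ * R m' :=
        ⟨Field2.rt F _, Field2.rt_mul_rt _⟩
      have hs : R (m' + τ • w) = 0 := by
        rw [Q_add, QuadraticMap.map_smul, polar_smul_right, polar_comm, hm', smul_zero, add_zero,
          smul_eq_mul, hτ, mul_assoc, mul_comm (R m'), ← mul_assoc, inv_mul_cancel₀ hw, one_mul,
          ← two_mul, two, zero_mul]
      have hs0 : m' + τ • w ≠ 0 := by
        intro h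
        exact hline ⟨-τ, by rw [neg_smul]; exact eq_neg_of_add_eq_zero_left h⟩
      have hperp : polar R (m' + τ • w) w = 0 := by
        rw [polar_add_left, polar_smul_left, polar_self', two, zero_mul, smul_zero, add_zero,
          polar_comm, hm']
      have heq : transV R w m' Γ = transV R (m' + τ • w) w ⊥ := by
        ext g
        constructor
        · intro hg
          obtain ⟨h6, h7⟩ := htriv g hg
          exact ⟨hg.1, by rw [map_add, map_smul, h6, h7], 0, zero_mem _, by
            rw [zero_smul, add_zero, h6]⟩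
        · rintro ⟨hg, hgs, γ, hγ, hgw⟩
          have hγ0 : γ = 0 := by simpa using hγ
          rw [hγ0, zero_smul, add_zero] at hgw
          refine ⟨hg, hgw, 0, zero_mem _, ?_⟩
          rw [map_add, map_smul, hgw] at hgs
          rw [zero_smul, add_zero]
          exact add_right_cancel hgs
      rw [heq]
      exact h5 F M R hR hd _ w ⊥ hs0 hs hw hperp
  · -- a nondegenerate plane
    let U : Submodule F M := Submodule.span F {w, m'}
    have hmemU : ∀ v, v ∈ U ↔ ∃ a b : F, a • w + b • m' = v := fun v =>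
      Submodule.mem_span_pair
    have hwU : w ∈ U := Submodule.subset_span (by simp)
    have hmU : m' ∈ U := Submodule.subset_span (by simp)
    have hU : Nondeg (res R U) := by
      rw [nondeg_res_iff]
      intro x hx hxy
      obtain ⟨a, b, rfl⟩ := (hmemU x).1 hx
      have hww : polar R w w = 0 := by rw [polar_self', two, zero_mul]
      have hcc' : polar R m' m' = 0 := by rw [polar_self', two, zero_mul]
      have e1 := hxy w hwU
      have e2 := hxy m' hmU
      rw [polar_add_left, polar_smul_left, polar_smul_left, hww, polar_comm R m' w] at e1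
      rw [polar_add_left, polar_smul_left, polar_smul_left, hcc'] at e2
      simp only [smul_eq_mul, mul_zero, zero_add, add_zero] at e1 e2
      rw [(mul_eq_zero.1 e1).resolve_right hm', (mul_eq_zero.1 e2).resolve_right hm', zero_smul,
        zero_smul, add_zero]
    have hUdim : finrank F U = 2 := by
      have h6 := finrank_span_finset_le_card (R := F) (M := M) ({w, m'} : Finset M)
      have h7 : (({w, m'} : Finset M)).card ≤ 2 := Finset.card_le_two
      have h8 : U = Submodule.span F (({w, m'} : Finset M) : Set M) := by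
        simp [U]
      have h9 : finrank F U ≤ 2 := by
        rw [h8]
        exact h6.trans h7
      have h10 : 0 < finrank F U := by
        rw [Module.finrank_pos_iff]
        exact ⟨⟨w, hwU⟩, 0, fun h => hw0 (congrArg Subtype.val h)⟩
      obtain ⟨a, ha⟩ := (Field2.even_finrank hU).exists_two_nsmul
      rw [smul_eq_mul] at ha
      omega
    have hsum := finrank_add_perp hR U
    have := finite_equiv F U
    have := finite_equiv F (perp R U)
    have hgood : FSGood False (O (res R (perp R U))) :=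
      h0 (k - 1) (by omega) F _ _ (nondeg_perp hR hU) (by omega)
    let w' : U := ⟨w, hwU⟩
    let n' : U := ⟨m', hmU⟩
    have hone : FSGood False (transV (res R U) w' n' Γ) := by
      refine fsGood_of_sq fun g => Subtype.ext ?_
      obtain ⟨g, hg, hgw, γ, hγ, hgm⟩ := g
      ext v
      obtain ⟨v, hv⟩ := v
      obtain ⟨a, b, rfl⟩ := (hmemU v).1 hv
      have h6 : (⟨a • w + b • m', hv⟩ : U) = a • w' + b • n' := rfl
      change ((g (g ⟨a • w + b • m', hv⟩) : U) : M) = _
      rw [h6, map_add, map_smul, map_smul, hgw, hgm, map_add, map_smul, map_smul, map_add,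
        map_smul, hgw, hgm, add_assoc, ← add_smul, CharTwo.add_self_eq_zero, zero_smul, add_zero]
      rfl
    let f : transV (res R U) w' n' Γ × O (res R (perp R U)) →* (M ≃ₗ[F] M) :=
      (glue hU).comp ((transV (res R U) w' n' Γ).subtype.prodMap
        (O (res R (perp R U))).subtype)
    have hf : f.range = transV R w m' Γ := by
      ext g
      constructor
      · rintro ⟨⟨⟨p, hp, hpw, γ, hγ, hpm⟩, r⟩, rfl⟩
        refine ⟨(glue_mem_O hU).2 ⟨hp, r.2⟩, ?_, γ, hγ, ?_⟩
        · have h6 := glue_left hU (p, (r : _ ≃ₗ[F] _)) w'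
          change glue hU (p, (r : _ ≃ₗ[F] _)) w = w
          rw [h6, hpw]
        · have h6 := glue_left hU (p, (r : _ ≃ₗ[F] _)) n'
          change glue hU (p, (r : _ ≃ₗ[F] _)) m' = m' + γ • w
          rw [h6, hpm]
          rfl
      · rintro ⟨hg, hgw, γ, hγ, hgm⟩
        obtain ⟨p, hp1, hp2, hp⟩ := exists_glue hU hg (fun v hv => by
          obtain ⟨a, b, rfl⟩ := (hmemU v).1 hv
          rw [map_add, map_smul, map_smul, hgw, hgm]
          exact add_mem (Submodule.smul_mem _ _ hwU) (Submodule.smul_mem _ _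
            (add_mem hmU (Submodule.smul_mem _ _ hwU))))
        have h6 : ∀ a : U, ((p.1 a : U) : M) = g a := fun a => by
          rw [← hp]
          exact (glue_left hU p a).symm
        refine ⟨(⟨p.1, hp1, Subtype.ext ((h6 w').trans hgw), γ, hγ,
          Subtype.ext ((h6 n').trans hgm)⟩, ⟨p.2, hp2⟩), hp⟩
    rw [← hf]
    have : Finite (transV (res R U) w' n' Γ) := inferInstance
    exact (hone.prod hgood).of_surjective f.rangeRestrict f.rangeRestrict_surjective

end Aux

theorem T5_step (n : ℕ) (ih : ∀ m < n, T0.{u} m ∧ T2.{u} m ∧ T5.{u} m) : T5.{u} n := by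
  intro F V _ _ _ _ _ _ Q hQ hd s w Γ hs0 hs hw hsw
  classical
  have := finite_equiv F V
  obtain ⟨ψ, hψ⟩ := exists_psi F
  -- the partner of `s`
  obtain ⟨y, h, hwy⟩ : ∃ y, Hyp Q s y ∧ polar Q y w = 0 := by
    obtain ⟨y₀, h1, h2⟩ := exists_sep (Q := Q) (x := s) (z := w) hQ (by
      intro c hc
      by_cases hc0 : c = 0
      · rw [hc0, zero_smul] at hc
        exact hs0 hc
      · have h3 : Q s = c * c * Q w := by rw [hc, QuadraticMap.map_smul, smul_eq_mul]
        rw [hs] at h3
        exact (mul_ne_zero (mul_ne_zero hc0 hc0) hw) h3.symm)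
    refine ⟨y₀ + (-Q y₀) • s, ⟨hs, ?_, ?_⟩, ?_⟩
    · rw [Q_add, QuadraticMap.map_smul, hs, polar_smul_right, polar_comm Q y₀ s, h2]
      simp
    · rw [polar_add_right, polar_smul_right, polar_self_of_sing hs, h2]
      simp
    · rw [polar_add_left, polar_smul_left, hsw, polar_comm Q y₀ w, h1]
      simp
  have hM : Nondeg (res Q (hperp Q s y)) := nondeg_hperp hQ h
  have hdim := finrank_hperp h
  have := finite_equiv F (hperp Q s y)
  have hdM : finrank F (hperp Q s y) = 2 * (n - 1) := by omega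
  have hn : n - 1 < n := by omega
  obtain ⟨-, hT2, hT5⟩ := ih (n - 1) hn
  let w' : hperp Q s y := ⟨w, hsw, hwy⟩
  have hw' : res Q (hperp Q s y) w' ≠ 0 := hw
  have hw'0 : w' ≠ 0 := by
    intro h0
    apply hw
    have h1 : w = 0 := congrArg Subtype.val h0
    rw [h1]
    exact QuadraticMap.map_zero Q
  let S : AddSubgroup (hperp Q s y) :=
    { carrier := {m | polar Q (w : V) (m : V) ∈ Γ}
      add_mem' := by
        intro a b ha hb
        change polar Q w ((a : V) + (b : V)) ∈ Γ
        rw [polar_add_right]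
        exact add_mem ha hb
      zero_mem' := by
        change polar Q w (0 : V) ∈ Γ
        rw [polar_zero_right]
        exact zero_mem _
      neg_mem' := by
        intro a ha
        change polar Q w (-(a : V)) ∈ Γ
        rw [polar_neg_right]
        exact neg_mem ha }
  have hSmem : ∀ m, m ∈ S ↔ polar Q w (m : V) ∈ Γ := fun m => Iff.rfl
  let Y₀ : Subgroup (O (res Q (hperp Q s y)) × Fˣ) :=
    { carrier := {p | p.2 = 1 ∧ (p.1 : hperp Q s y ≃ₗ[F] hperp Q s y) w' = w'}
      mul_mem' := by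
        rintro p q ⟨hp1, hp2⟩ ⟨hq1, hq2⟩
        refine ⟨by rw [Prod.snd_mul, hp1, hq1, one_mul], ?_⟩
        change (p.1 : hperp Q s y ≃ₗ[F] hperp Q s y)
          ((q.1 : hperp Q s y ≃ₗ[F] hperp Q s y) w') = w'
        rw [hq2, hp2]
      one_mem' := ⟨rfl, rfl⟩
      inv_mem' := by
        rintro p ⟨hp1, hp2⟩
        refine ⟨by rw [Prod.snd_inv, hp1, inv_one], ?_⟩
        change (p.1 : hperp Q s y ≃ₗ[F] hperp Q s y).symm w' = w'
        rw [LinearEquiv.symm_apply_eq, hp2] }
  have hYmem : ∀ p, p ∈ Y₀ ↔ p.2 = 1 ∧ (p.1 : hperp Q s y ≃ₗ[F] hperp Q s y) w' = w' :=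
    fun p => Iff.rfl
  have hSinv : ∀ p ∈ Y₀, ∀ m, (p.1 : hperp Q s y ≃ₗ[F] hperp Q s y) m ∈ S ↔ m ∈ S := by
    rintro p ⟨hp1, hp2⟩ m
    rw [hSmem, hSmem]
    have h1 : polar (res Q (hperp Q s y)) ((p.1 : _ ≃ₗ[F] _) w') ((p.1 : _ ≃ₗ[F] _) m)
        = polar (res Q (hperp Q s y)) w' m := polar_map p.1.2 w' m
    rw [hp2] at h1
    change polar (res Q (hperp Q s y)) w' ((p.1 : _ ≃ₗ[F] _) m) ∈ Γ
      ↔ polar (res Q (hperp Q s y)) w' m ∈ Γ
    rw [h1]
  let Γ' : AddSubgroup F :=
    { carrier := {t | ∀ γ ∈ Γ, ψ (t * γ) = 1}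
      add_mem' := by
        intro a b ha hb γ hγ
        rw [add_mul, AddChar.map_add_eq_mul, ha γ hγ, hb γ hγ, one_mul]
      zero_mem' := by
        intro γ _
        rw [zero_mul, AddChar.map_zero_eq_one]
      neg_mem' := by
        intro a ha γ hγ
        rw [neg_mul, ← mul_neg]
        exact ha _ (neg_mem hγ) }
  refine good_sg hQ h (transV Q s w Γ) S Y₀ ?_ ?_ hψ ?_
  · intro g
    constructor
    · rintro ⟨hg, hgs, γ, hγ, hgw⟩
      obtain ⟨m, k, hk, h5⟩ := exists_sg_lev h hg (β := 1) (by rw [one_smul, hgs])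
      have h6 : g w = (k w' : V) + (-polar Q (m : V) (k w' : V)) • s := by
        rw [h5, LinearEquiv.mul_apply]
        have h7 : lev h (k, 1) w = (k w' : V) := lev_m h (k, 1) w'
        rw [h7, sg_m, neg_smul, sub_eq_add_neg]
      have h8 : hypEquiv h (k w', -polar Q (m : V) (k w' : V), 0)
          = hypEquiv h (w', γ, 0) := by
        rw [hypEquiv_apply, hypEquiv_apply]
        simp only [zero_smul, add_zero]
        rw [← h6, hgw]
      have h9 := (hypEquiv h).injective h8
      have h10 : k w' = w' := congrArg Prod.fst h9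
      have h11 : -polar Q (m : V) (k w' : V) = γ := congrArg (fun t => t.2.1) h9
      refine ⟨m, ?_, (⟨k, hk⟩, 1), ⟨rfl, h10⟩, h5⟩
      rw [hSmem, polar_comm]
      rw [h10] at h11
      have h12 : polar Q (m : V) w = -γ := by
        rw [← h11, neg_neg]
      rw [h12]
      exact neg_mem hγ
    · rintro ⟨m, hm, p, ⟨hp1, hp2⟩, rfl⟩
      refine ⟨mul_mem (sg_mem_O h m) ((lev_mem_O h).2 p.1.2), ?_, -polar Q (m : V) w, ?_, ?_⟩
      · rw [LinearEquiv.mul_apply, lev_x]
        rw [hp1, one_smul, sg_x]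
      · rw [polar_comm]
        exact neg_mem hm
      · rw [LinearEquiv.mul_apply]
        have h7 : lev h ((p.1 : hperp Q s y ≃ₗ[F] hperp Q s y), p.2) w
          = ((p.1 : hperp Q s y ≃ₗ[F] hperp Q s y) w' : V) := lev_m h _ w'
        rw [h7, hp2, sg_m, neg_smul, sub_eq_add_neg]
  · intro p hp m hm
    have h6 := (hSinv p hp m).2 hm
    rw [((hYmem p).1 hp).1, one_smul]
    exact h6
  · intro m'
    let T : Subgroup (O (res Q (hperp Q s y)) × Fˣ) :=
      { carrier := {p | p.2 = 1 ∧ (p.1 : hperp Q s y ≃ₗ[F] hperp Q s y)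
          ∈ transV (res Q (hperp Q s y)) w' m' Γ'}
        mul_mem' := by
          rintro p q ⟨hp1, hp2⟩ ⟨hq1, hq2⟩
          exact ⟨by rw [Prod.snd_mul, hp1, hq1, one_mul], mul_mem hp2 hq2⟩
        one_mem' := ⟨rfl, one_mem _⟩
        inv_mem' := by
          rintro p ⟨hp1, hp2⟩
          exact ⟨by rw [Prod.snd_inv, hp1, inv_one], inv_mem hp2⟩ }
    refine ⟨T, ?_, ?_⟩
    · intro p
      constructor
      · rintro ⟨hp1, hp, hpw, t, ht, hpm⟩
        refine ⟨⟨hp1, hpw⟩, fun m hm => ?_⟩
        rw [hp1, one_smul]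
        have e1 : polar (res Q (hperp Q s y)) ((p.1 : _ ≃ₗ[F] _) m') ((p.1 : _ ≃ₗ[F] _) m)
          = polar (res Q (hperp Q s y)) m' m := polar_map p.1.2 m' m
        have e2 : polar (res Q (hperp Q s y)) ((p.1 : _ ≃ₗ[F] _) w') ((p.1 : _ ≃ₗ[F] _) m)
          = polar (res Q (hperp Q s y)) w' m := polar_map p.1.2 w' m
        rw [hpw] at e2
        rw [hpm, polar_add_left, polar_smul_left, e2, smul_eq_mul] at e1
        have e3 : ψ (polar (res Q (hperp Q s y)) m' m)
            = ψ (polar (res Q (hperp Q s y)) m' ((p.1 : _ ≃ₗ[F] _) m)) := by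
          have ht' : ψ (t * polar (res Q (hperp Q s y)) w' m) = 1 := ht _ hm
          rw [← e1, AddChar.map_add_eq_mul, ht', mul_one]
        exact e3.symm
      · rintro ⟨⟨hp1, hpw⟩, h6⟩
        refine ⟨hp1, p.1.2, hpw, ?_⟩
        set g : hperp Q s y ≃ₗ[F] hperp Q s y := (p.1 : hperp Q s y ≃ₗ[F] hperp Q s y) with hgdef
        have hgO : g ∈ O (res Q (hperp Q s y)) := p.1.2
        -- `d = g m' - m'` pairs trivially with `S`
        have h7 : ∀ m ∈ S, ψ (polar (res Q (hperp Q s y)) (g m' - m') m) = 1 := by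
          intro m hm
          obtain ⟨m₀, rfl⟩ := g.surjective m
          have hm₀ : m₀ ∈ S := (hSinv p ⟨hp1, hpw⟩ m₀).1 hm
          have h8 := h6 m₀ hm₀
          rw [hp1, one_smul] at h8
          have h8' : ψ (polar (res Q (hperp Q s y)) m' (g m₀))
            = ψ (polar (res Q (hperp Q s y)) m' m₀) := h8
          have h9 : polar (res Q (hperp Q s y)) (g m' - m') (g m₀)
              + polar (res Q (hperp Q s y)) m' (g m₀)
              = polar (res Q (hperp Q s y)) m' m₀ := by
            rw [← polar_add_left, sub_add_cancel]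
            exact polar_map hgO m' m₀
          have h10 : ψ (polar (res Q (hperp Q s y)) (g m' - m') (g m₀))
              * ψ (polar (res Q (hperp Q s y)) m' m₀)
              = ψ (polar (res Q (hperp Q s y)) m' m₀) := by
            rw [← h8', ← AddChar.map_add_eq_mul, h9, h8']
          have h11 : ψ (polar (res Q (hperp Q s y)) m' m₀) ≠ 0 := by
            intro h0
            have h12 := AddChar.map_add_eq_mul ψ (polar (res Q (hperp Q s y)) m' m₀)
              (-(polar (res Q (hperp Q s y)) m' m₀))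
            rw [add_neg_cancel, AddChar.map_zero_eq_one, h0, zero_mul] at h12
            exact one_ne_zero h12
          exact mul_right_cancel₀ h11 (by rw [h10, one_mul])
        obtain ⟨t, ht⟩ := eq_smul_of_perp hM hw'0 (d := g m' - m') (fun m hm => by
          refine eq_zero_of_psi hψ fun c => ?_
          have h8 : c • m ∈ S := by
            rw [hSmem]
            have h9 : polar Q w ((c • m : hperp Q s y) : V) = 0 := by
              change polar Q w (c • (m : V)) = 0
              have h10 : polar Q w (m : V) = 0 := hm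
              rw [polar_smul_right, h10, smul_zero]
            rw [h9]
            exact zero_mem _
          have h9 := h7 _ h8
          rw [polar_smul_right, smul_eq_mul] at h9
          exact h9)
        refine ⟨t, ?_, ?_⟩
        · intro γ hγ
          obtain ⟨m₁, hm₁⟩ := hM.exists_polar_eq hw'0 γ
          have h8 : m₁ ∈ S := by
            rw [hSmem]
            have h9 : polar Q w (m₁ : V) = γ := hm₁
            rw [h9]
            exact hγ
          have h9 := h7 _ h8
          rw [ht, polar_smul_left, hm₁, smul_eq_mul] at h9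
          exact h9
        · rw [← ht]
          abel
    · have hgood := good_trans (fun m hm => (ih m (by omega)).1) hT2 hT5 hM hdM hw' m' Γ'
      let f : transV (res Q (hperp Q s y)) w' m' Γ' →* T :=
        { toFun := fun g => ⟨(⟨g.1, g.2.1⟩, 1), rfl, g.2⟩
          map_one' := rfl
          map_mul' := fun a b => Subtype.ext (Prod.ext rfl (one_mul (1 : Fˣ)).symm) }
      refine hgood.of_surjective f ?_
      rintro ⟨⟨g, β⟩, hβ, hg⟩
      have hβ' : β = 1 := hβ
      subst hβ'
      exact ⟨⟨g.1, hg⟩, rfl⟩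

end Cfsg.Agent.H955.FS
end

-- part: H955/FSSymp
section
/-!
# `Sp(2n,q)`, `q` even, is a quotient of the stabiliser of a nonsingular vector in `O^+(2n+2,q)`
(helper956, task 693 [M])
-/

set_option autoImplicit false

universe u

namespace Cfsg.Agent.H955.FS

open Cfsg QuadraticMap
open Cfsg.Agent.LieClassical.OrthCore

namespace Symp

variable {F : Type u} [Field F] {n : ℕ}

/-- the natural module of `Sp(2n,F)` -/
abbrev M (n : ℕ) (F : Type u) : Type u := Fin n ⊕ Fin n → F

/-- the form `∑ x_i y_i` -/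
def Q0 (n : ℕ) (F : Type u) [Field F] : QuadraticForm F (M n F) :=
  ∑ i : Fin n, QuadraticMap.linMulLin (LinearMap.proj (Sum.inl i)) (LinearMap.proj (Sum.inr i))

theorem Q0_apply (x : M n F) : Q0 n F x = ∑ i : Fin n, x (Sum.inl i) * x (Sum.inr i) := by
  simp [Q0]

theorem sympForm_eq (x y : M n F) :
    Cfsg.sympForm n F x y = ∑ i : Fin n, (x (Sum.inr i) * y (Sum.inl i) - x (Sum.inl i) * y (Sum.inr i)) := by
  unfold Cfsg.sympForm Matrix.J
  simp [Matrix.fromBlocks_mulVec, dotProduct, Fintype.sum_sum_type, Matrix.neg_mulVec, Finset.sum_sub_distrib]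
  ring

theorem polar_Q0 [CharP F 2] (x y : M n F) : polar (Q0 n F) x y = Cfsg.sympForm n F x y := by
  rw [polar, Q0_apply, Q0_apply, Q0_apply, sympForm_eq, ← Finset.sum_sub_distrib, ← Finset.sum_sub_distrib]
  refine Finset.sum_congr rfl fun i _ => ?_
  simp only [Pi.add_apply]
  have h2 : (2 : F) = 0 := CharTwo.two_eq_zero
  linear_combination (x (Sum.inl i) * y (Sum.inr i)) * h2

/-- the space `F × F × M` with the form `a b + Q0 m` -/
abbrev V (n : ℕ) (F : Type u) : Type u := F × F × M n F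

def Q (n : ℕ) (F : Type u) [Field F] : QuadraticForm F (V n F) :=
  QuadraticMap.linMulLin (LinearMap.fst F F (F × M n F)) ((LinearMap.fst F F (M n F)).comp (LinearMap.snd F F (F × M n F)))
    + (Q0 n F).comp ((LinearMap.snd F F (M n F)).comp (LinearMap.snd F F (F × M n F)))

theorem Q_apply (a b : F) (m : M n F) : Q n F (a, b, m) = a * b + Q0 n F m := by
  simp [Q]

theorem polar_Q (a b a' b' : F) (m m' : M n F) :
    polar (Q n F) (a, b, m) (a', b', m') = a * b' + a' * b + polar (Q0 n F) m m' := by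
  have h : (a, b, m) + (a', b', m') = (a + a', b + b', m + m') := rfl
  rw [polar, h, Q_apply, Q_apply, Q_apply, Q_add]
  ring

theorem nondeg_Q [CharP F 2] : Nondeg (Q n F) := by
  rintro ⟨a, b, m⟩ h
  have h1 := h (1, 0, 0)
  have h2 := h (0, 1, 0)
  rw [polar_Q, polar_zero_right] at h1 h2
  have hb : b = 0 := by simpa using h1
  have ha : a = 0 := by simpa using h2
  have hm : m = 0 := by
    by_contra hne
    obtain ⟨x, hx⟩ := S0765.form_nondeg m hne
    apply hx
    have h3 := h (0, 0, x)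
    rw [polar_Q, polar_comm, polar_Q0] at h3
    simpa using h3
  rw [ha, hb, hm]
  rfl

theorem finrank_V : Module.finrank F (V n F) = 2 * (n + 1) := by
  simp [V]
  ring

/-- the nonsingular vector -/
def u0 (n : ℕ) (F : Type u) [Field F] : V n F := (1, 1, 0)

theorem Q_u0 : Q n F (u0 n F) ≠ 0 := by
  rw [u0, Q_apply, map_zero]
  simp

/-- the induced map on `M` -/
def indL (g : V n F ≃ₗ[F] V n F) : M n F →ₗ[F] M n F :=
  ((LinearMap.snd F F (M n F)).comp (LinearMap.snd F F (F × M n F))).comp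
    (g.toLinearMap.comp ((LinearMap.inr F F (F × M n F)).comp (LinearMap.inr F F (M n F))))

theorem indL_apply (g : V n F ≃ₗ[F] V n F) (m : M n F) : indL g m = (g (0, 0, m)).2.2 := rfl

theorem map_of_mem [CharP F 2] {g : V n F ≃ₗ[F] V n F} (hg : g ∈ fixV (Q n F) (u0 n F)) (m : M n F) :
    ∃ c : F, g (0, 0, m) = (c, c, indL g m) := by
  obtain ⟨h1, h2⟩ := mem_fixV.1 hg
  have h3 := polar_map h1 (0, 0, m) (u0 n F)
  rw [h2] at h3
  obtain ⟨a, b, m', h4⟩ : ∃ a b m', g (0, 0, m) = (a, b, m') := ⟨_, _, _, rfl⟩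
  rw [h4, u0, polar_Q, polar_Q, polar_zero_right, polar_zero_right] at h3
  have h5 : a + b = 0 := by simpa using h3
  have h6 : a = b := by
    rw [← sub_eq_zero, CharTwo.sub_eq_add]
    exact h5
  refine ⟨a, ?_⟩
  rw [indL_apply, h4, h6]

theorem indL_form [CharP F 2] {g : V n F ≃ₗ[F] V n F} (hg : g ∈ fixV (Q n F) (u0 n F)) (x y : M n F) :
    Cfsg.sympForm n F (indL g x) (indL g y) = Cfsg.sympForm n F x y := by
  obtain ⟨c, hc⟩ := map_of_mem hg x
  obtain ⟨d, hd⟩ := map_of_mem hg y
  have h1 := polar_map (mem_fixV.1 hg).1 (0, 0, x) (0, 0, y)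
  rw [hc, hd, polar_Q, polar_Q, polar_Q0, polar_Q0] at h1
  have h2 : c * d + d * c = 0 := by
    rw [mul_comm d c]
    exact CharTwo.add_self_eq_zero _
  rw [h2, zero_add] at h1
  rw [h1]
  ring

theorem indL_mul [CharP F 2] {g h : V n F ≃ₗ[F] V n F} (hg : g ∈ fixV (Q n F) (u0 n F))
    (hh : h ∈ fixV (Q n F) (u0 n F)) : indL (g * h) = indL g ∘ₗ indL h := by
  refine LinearMap.ext fun m => ?_
  obtain ⟨c, hc⟩ := map_of_mem hh m
  rw [LinearMap.comp_apply, indL_apply]
  have h1 : (g * h) (0, 0, m) = g (h (0, 0, m)) := rfl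
  have h2 : ((c, c, indL h m) : V n F) = c • u0 n F + (0, 0, indL h m) := by
    simp [u0]
  rw [h1, hc, h2, map_add, map_smul, (mem_fixV.1 hg).2, indL_apply]
  simp [u0]
  rfl

theorem mem_symplectic (L : M n F →ₗ[F] M n F)
    (h : ∀ x y, Cfsg.sympForm n F (L x) (L y) = Cfsg.sympForm n F x y) :
    LinearMap.toMatrix' L ∈ Matrix.symplecticGroup (Fin n) F := by
  rw [SymplecticGroup.mem_iff']
  ext i j
  have h1 := h (Pi.single i 1) (Pi.single j 1)
  rw [← LinearMap.toMatrix'_mulVec, ← LinearMap.toMatrix'_mulVec] at h1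
  unfold Cfsg.sympForm at h1
  rw [← Matrix.vecMul_transpose, ← Matrix.dotProduct_mulVec, Matrix.mulVec_mulVec, Matrix.mulVec_mulVec,
    single_one_dotProduct, single_one_dotProduct, Matrix.mulVec_single_one, Matrix.mulVec_single_one] at h1
  simpa [Matrix.mul_assoc] using h1

/-- the homomorphism onto the symplectic group -/
noncomputable def toSp [CharP F 2] : ↥(fixV (Q n F) (u0 n F)) →* Matrix.symplecticGroup (Fin n) F where
  toFun g := ⟨LinearMap.toMatrix' (indL g.1), mem_symplectic _ (indL_form g.2)⟩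
  map_one' := by
    apply Subtype.ext
    show LinearMap.toMatrix' (indL (1 : V n F ≃ₗ[F] V n F)) = 1
    have : indL (1 : V n F ≃ₗ[F] V n F) = LinearMap.id := by
      ext1 m
      rfl
    rw [this, LinearMap.toMatrix'_id]
  map_mul' g h := by
    apply Subtype.ext
    show LinearMap.toMatrix' (indL (g.1 * h.1)) = LinearMap.toMatrix' (indL g.1) * LinearMap.toMatrix' (indL h.1)
    rw [indL_mul g.2 h.2, LinearMap.toMatrix'_comp]

theorem toSp_surjective [Finite F] [CharP F 2] : Function.Surjective (toSp (n := n) (F := F)) := by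
  rw [← MonoidHom.range_eq_top, eq_top_iff, ← S0765.result n, Subgroup.closure_le]
  rintro A ⟨w, c, hA⟩
  rw [SetLike.mem_coe, MonoidHom.mem_range]
  rcases eq_or_ne c 0 with rfl | hc
  · refine ⟨1, ?_⟩
    rw [map_one]
    apply Subtype.ext
    rw [hA]
    unfold Cfsg.sympTransvection
    rw [zero_smul, add_zero]
    rfl
  · obtain ⟨a, ha⟩ : ∃ a : F, a * a = c⁻¹ + Q0 n F w := by
      obtain ⟨a, ha⟩ := FiniteField.isSquare_of_char_two (ringChar.eq F 2) (c⁻¹ + Q0 n F w)
      exact ⟨a, ha.symm⟩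
    have hQw : Q n F (a, a, w) = c⁻¹ := by
      rw [Q_apply, ha, add_assoc, CharTwo.add_self_eq_zero, add_zero]
    have hne : Q n F (a, a, w) ≠ 0 := by
      rw [hQw]
      exact inv_ne_zero hc
    have hfix : refl (Q n F) (a, a, w) hne ∈ fixV (Q n F) (u0 n F) := by
      refine mem_fixV.2 ⟨refl_mem_O hne, ?_⟩
      rw [refl_apply, u0, polar_Q, polar_zero_right, mul_one, one_mul, add_zero, CharTwo.add_self_eq_zero, mul_zero,
        zero_smul, sub_zero]
    refine ⟨⟨_, hfix⟩, ?_⟩
    apply Subtype.ext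
    rw [hA]
    apply Matrix.toLin'.injective
    refine LinearMap.ext fun x => ?_
    show Matrix.toLin' (LinearMap.toMatrix' (indL (refl (Q n F) (a, a, w) hne))) x = _
    rw [Matrix.toLin'_toMatrix', Matrix.toLin'_apply, S0765.trans_mulVec, indL_apply, refl_apply, hQw, inv_inv,
      polar_Q, polar_Q0, S0765.form_swap w x]
    simp only [mul_zero, zero_add, CharTwo.neg_eq, zero_mul, Prod.snd_sub, Prod.smul_snd, add_zero]
    rw [sub_eq_add_neg, ← neg_smul, CharTwo.neg_eq]

end Symp

/-- **Task M**, from the quotient property of `FSGood` (FSBase). -/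
theorem symplectic_of_T2_of (hsurj : ∀ {G H : Type u} [Group G] [Group H] [Finite G] (f : G →* H),
    Function.Surjective f → FSGood False G → FSGood False H) (h : ∀ n, T2.{u} n) {F : Type u} [Field F] [Fintype F]
    [CharP F 2] (n : ℕ) : FSGood False (Matrix.symplecticGroup (Fin n) F) := by
  have : Finite (Symp.V n F ≃ₗ[F] Symp.V n F) := by
    have : Finite (Symp.V n F →ₗ[F] Symp.V n F) := Module.finite_of_finite F
    exact Finite.of_injective (fun e : Symp.V n F ≃ₗ[F] Symp.V n F => (e : Symp.V n F →ₗ[F] Symp.V n F))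
      LinearEquiv.toLinearMap_injective
  exact hsurj Symp.toSp Symp.toSp_surjective
    (h (n + 1) F (Symp.V n F) (Symp.Q n F) Symp.nondeg_Q Symp.finrank_V (Symp.u0 n F) Symp.Q_u0)

end Cfsg.Agent.H955.FS
end

-- part: H636/FSTwo
section
/-!
# Stabilisers of nonsingular vectors in orthogonal groups of characteristic two (step `T2`)

* `nondeg_fixS_of_odd` : the fixed space of an isometry of odd order is nondegenerate;
* `exists_cover` : the covering subgroups;
* `T2_step` : for S4940, S4972, S4973.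
-/

set_option autoImplicit false

universe u

namespace Cfsg.Agent.H636.FSTwo

open Module QuadraticMap Cfsg.Agent.LieClassical.OrthCore Cfsg.Agent.LieClassical.OrthTrans
open Cfsg.Agent.H955 Cfsg.Agent.H955.FS Cfsg.Agent.H955.FS.Field2

section

variable {F V : Type u} [Field F] [AddCommGroup V] [Module F V] {Q : QuadraticForm F V}

theorem pow_mem_O {c : V ≃ₗ[F] V} (hc : c ∈ O Q) (i : ℕ) : c ^ i ∈ O Q := pow_mem hc i

/-- The fixed space of an isometry of odd order is nondegenerate. -/
theorem nondeg_fixS_of_odd [CharP F 2] (hQ : Nondeg Q) {c : V ≃ₗ[F] V} (hc : c ∈ O Q)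
    (hodd : Odd (orderOf c)) : Nondeg (res Q (fixS c)) := by
  rw [nondeg_res_iff]
  intro x hx hxy
  refine hQ x fun v => ?_
  obtain ⟨r, hr⟩ : ∃ r, r = orderOf c := ⟨_, rfl⟩
  have hcx : c x = x := mem_fixS.1 hx
  have hpow : ∀ i : ℕ, (c ^ i) x = x := by
    intro i
    induction i with
    | zero => rfl
    | succ i ih =>
      rw [pow_succ]
      change (c ^ i) (c x) = x
      rw [hcx, ih]
  have hsum : (∑ i ∈ Finset.range r, (c ^ i) v) ∈ fixS c := by
    rw [mem_fixS, map_sum]
    have h1 : ∀ i ∈ Finset.range r, c ((c ^ i) v) = (c ^ (i + 1)) v := by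
      intro i _
      rw [pow_succ']
      rfl
    rw [Finset.sum_congr rfl h1]
    have h2 := Finset.sum_range_succ' (fun i => (c ^ i) v) r
    have h3 := Finset.sum_range_succ (fun i => (c ^ i) v) r
    rw [h2] at h3
    have h4 : (c ^ r) v = (c ^ 0) v := by
      rw [hr, pow_orderOf_eq_one, pow_zero]
    rw [h4] at h3
    exact add_right_cancel h3
  have h5 := hxy _ hsum
  have h6 : polar Q x (∑ i ∈ Finset.range r, (c ^ i) v) = ∑ i ∈ Finset.range r, polar Q x ((c ^ i) v) :=
    map_sum (polarBilin Q x) _ _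
  rw [h6] at h5
  have h7 : ∀ i ∈ Finset.range r, polar Q x ((c ^ i) v) = polar Q x v := by
    intro i _
    have h8 := polar_map (pow_mem_O hc i) x v
    rwa [hpow] at h8
  rw [Finset.sum_congr rfl h7, Finset.sum_const, Finset.card_range, nsmul_eq_mul] at h5
  have h9 : (r : F) ≠ 0 := by
    rw [hr]
    intro h
    have h10 := (CharP.cast_eq_zero_iff F 2 (orderOf c)).1 h
    exact (Nat.not_even_iff_odd.2 hodd) (even_iff_two_dvd.2 h10)
  exact (mul_eq_zero.1 h5).resolve_left h9

end

section Group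

variable {F V : Type u} [Field F] [AddCommGroup V] [Module F V]

/-- A finite `2`-group of semilinear (here: linear) maps stabilising `W` and fixing `u ∈ W` fixes a coset
`s + F u ≠ F u` in `W`, if `W ≠ F u` -/
theorem exists_fixed_coset [Finite F] [CharP F 2] [FiniteDimensional F V] (P : Subgroup (V ≃ₗ[F] V)) (hP : IsPGroup 2 P)
    (W : Submodule F V) (u : V) (hu : u ∈ W) (hPW : ∀ g ∈ P, ∀ w ∈ W, g w ∈ W) (hPu : ∀ g ∈ P, g u = u)
    (hd : 2 ≤ finrank F W) :
    ∃ s ∈ W, (∀ a : F, s ≠ a • u) ∧ ∀ g ∈ P, ∃ a : F, g s = s + a • u := by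
  classical
  have hfin := finite_equiv F V
  have hfV : Finite V := Module.finite_of_finite F
  -- the submodule generated by `u` in `W`
  let L : Submodule F W := Submodule.span F {⟨u, hu⟩}
  have hL : finrank F L ≤ 1 := by
    by_cases h0 : (⟨u, hu⟩ : W) = 0
    · have hL0 : L = ⊥ := by
        change Submodule.span F {(⟨u, hu⟩ : W)} = ⊥
        rw [h0, Submodule.span_zero_singleton]
      rw [hL0, finrank_bot]
      norm_num
    · exact (finrank_span_singleton h0).le
  have hq : 1 ≤ finrank F (W ⧸ L) := by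
    have := Submodule.finrank_quotient_add_finrank L
    omega
  have hgW : ∀ g : P, ∀ w : W, (g : V ≃ₗ[F] V) w ∈ W := fun g w => hPW g g.2 w w.2
  let ρ : ∀ g : P, W →ₗ[F] W := fun g =>
    { toFun := fun w => ⟨(g : V ≃ₗ[F] V) w, hgW g w⟩
      map_add' := fun a b => Subtype.ext (map_add _ _ _)
      map_smul' := fun a b => Subtype.ext (map_smul _ _ _) }
  have hρL : ∀ g : P, L ≤ L.comap (ρ g) := by
    intro g
    rw [Submodule.span_le, Set.singleton_subset_iff]
    change ρ g ⟨u, hu⟩ ∈ L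
    have h1 : ρ g ⟨u, hu⟩ = ⟨u, hu⟩ := Subtype.ext (hPu g g.2)
    rw [h1]
    exact Submodule.mem_span_singleton_self _
  let act : MulAction P (W ⧸ L) :=
    { smul := fun g x => L.mapQ L (ρ g) (hρL g) x
      one_smul := by
        intro x
        induction x using Submodule.Quotient.induction_on with | _ w => rfl
      mul_smul := by
        intro a b x
        induction x using Submodule.Quotient.induction_on with | _ w => rfl }
  have hsmul : ∀ (g : P) (w : W), g • (L.mkQ w) = L.mkQ (ρ g w) := fun g w => rfl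
  have hfq : Finite (W ⧸ L) := Quotient.finite _
  have h2 : 2 ∣ Nat.card (W ⧸ L) := by
    have h3 : Nat.card (W ⧸ L) = Nat.card F ^ finrank F (W ⧸ L) := Module.natCard_eq_pow_finrank
    have := Fintype.ofFinite F
    have h4 : 2 ∣ Nat.card F := by
      rw [Nat.card_eq_fintype_card]
      obtain ⟨n, -, hn⟩ := FiniteField.card F 2
      rw [hn]
      exact dvd_pow_self 2 n.ne_zero
    rw [h3]
    exact dvd_pow h4 (by omega)
  have h0 : (0 : W ⧸ L) ∈ MulAction.fixedPoints P (W ⧸ L) := by
    intro g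
    change L.mapQ L (ρ g) (hρL g) 0 = 0
    exact map_zero _
  obtain ⟨x, hx, hx0⟩ := hP.exists_fixed_point_of_prime_dvd_card_of_fixed_point (W ⧸ L) h2 h0
  obtain ⟨s, rfl⟩ := L.mkQ_surjective x
  refine ⟨s, s.2, ?_, ?_⟩
  · intro a ha
    apply hx0
    symm
    rw [Submodule.mkQ_apply, Submodule.Quotient.mk_eq_zero]
    have h5 : s = a • (⟨u, hu⟩ : W) := Subtype.ext ha
    rw [h5]
    exact Submodule.smul_mem _ _ (Submodule.mem_span_singleton_self _)
  · intro g hg
    have h5 := hx ⟨g, hg⟩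
    rw [hsmul] at h5
    have h6 : ρ ⟨g, hg⟩ s - s ∈ L := (Submodule.Quotient.eq L).1 h5
    obtain ⟨a, ha⟩ := Submodule.mem_span_singleton.1 h6
    refine ⟨a, ?_⟩
    have h7 := congrArg Subtype.val ha
    change a • u = g s - s at h7
    rw [h7]
    abel

end Group

section Cover

set_option linter.unusedSectionVars false

variable {F V : Type u} [Field F] [Finite F] [CharP F 2] [AddCommGroup V] [Module F V] [FiniteDimensional F V]
  {Q : QuadraticForm F V}

/-- isometries of a nondegenerate plane fixing a nonsingular vector have order at most two -/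
theorem sq_of_fix_plane (hQ : Nondeg Q) (hd : finrank F V = 2) {u : V} (hu : Q u ≠ 0) {g : V ≃ₗ[F] V} (hg : g ∈ O Q)
    (hgu : g u = u) : g * g = 1 := by
  have hu0 : u ≠ 0 := by
    rintro rfl
    exact hu (QuadraticMap.map_zero Q)
  have huu : polar Q u u = 0 := by
    rw [polar_self', CharTwo.two_eq_zero, zero_mul]
  have hle : Submodule.span F {u} ≤ perp Q (Submodule.span F {u}) := by
    rw [Submodule.span_le, Set.singleton_subset_iff]
    intro w hw
    obtain ⟨a, rfl⟩ := Submodule.mem_span_singleton.1 hw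
    rw [polar_smul_left, huu, smul_zero]
  have h1 : finrank F (Submodule.span F {u}) = 1 := finrank_span_singleton hu0
  have h2 := finrank_perp hQ (Submodule.span F {u})
  rw [h1, hd] at h2
  have heq : Submodule.span F {u} = perp Q (Submodule.span F {u}) :=
    Submodule.eq_of_le_of_finrank_eq hle (by rw [h1, h2])
  ext w
  have h3 : g w - w ∈ perp Q (Submodule.span F {u}) := by
    intro x hx
    obtain ⟨a, rfl⟩ := Submodule.mem_span_singleton.1 hx
    rw [polar_smul_left, sub_eq_add_neg, polar_add_right, polar_neg_right]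
    have h4 := polar_map hg u w
    rw [hgu] at h4
    rw [h4, add_neg_cancel, smul_zero]
  rw [← heq] at h3
  obtain ⟨a, ha⟩ := Submodule.mem_span_singleton.1 h3
  have h5 : g w = w + a • u := by rw [ha]; abel
  change g (g w) = w
  rw [h5, map_add, map_smul, hgu, h5, add_assoc, char_two_self (F := F), add_zero]

/-- restriction of a linear equivalence to a stable subspace -/
theorem exists_restrict {W : Submodule F V} (g : V ≃ₗ[F] V) (h : ∀ w ∈ W, g w ∈ W) :
    ∃ e : W ≃ₗ[F] W, ∀ w, (e w : V) = g w := by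
  refine ⟨LinearEquiv.ofInjectiveEndo ((g : V →ₗ[F] V).restrict h) ?_, fun w => rfl⟩
  intro a b hab
  exact Subtype.ext (g.injective (congrArg Subtype.val hab))

/-- isometries stabilising a nondegenerate subspace are glued -/
theorem exists_eq_glue {W : Submodule F V} (hW : Nondeg (res Q W)) {g : V ≃ₗ[F] V} (hg : g ∈ O Q)
    (h : ∀ w ∈ W, g w ∈ W) : ∃ p : (W ≃ₗ[F] W) × (perp Q W ≃ₗ[F] perp Q W), glue hW p = g ∧
      ∀ w, (p.1 w : V) = g w := by
  obtain ⟨e, he⟩ := exists_restrict g h
  have h2 : ∀ w ∈ perp Q W, g w ∈ perp Q W := by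
    intro w hw x hx
    have h3 : g (e.symm ⟨x, hx⟩) = x := by
      rw [← he, LinearEquiv.apply_symm_apply]
    rw [← h3, polar_map hg]
    exact hw _ (e.symm ⟨x, hx⟩).2
  obtain ⟨f, hf⟩ := exists_restrict g h2
  refine ⟨(e, f), ?_, he⟩
  ext v
  obtain ⟨a, b, rfl⟩ := exists_add_perp hW v
  rw [glue_apply, map_add, he, hf]

/-- the covering subgroups -/
theorem exists_cover {n : ℕ} (h5 : T5.{u} n) (h0 : ∀ m < n, T0.{u} m) (hQ : Nondeg Q) (hd : finrank F V = 2 * n)
    {u : V} (hu : Q u ≠ 0) {c : V ≃ₗ[F] V} (hc : c ∈ fixV Q u) (hodd : Odd (orderOf c)) {P : Subgroup (V ≃ₗ[F] V)}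
    (hPG : P ≤ fixV Q u) (hP : IsPGroup 2 P) (hcP : ∀ g ∈ P, g * c * g⁻¹ = c ∨ g * c * g⁻¹ = c⁻¹) :
    ∃ Y : Subgroup (V ≃ₗ[F] V), Y ≤ fixV Q u ∧ c ∈ Y ∧ P ≤ Y ∧ FSGood False Y := by
  classical
  have hfin := finite_equiv F V
  have hu0 : u ≠ 0 := by
    rintro rfl
    exact hu (QuadraticMap.map_zero Q)
  have huu : polar Q u u = 0 := by
    rw [polar_self', CharTwo.two_eq_zero, zero_mul]
  have hV0 := nondeg_fixS_of_odd hQ hc.1 hodd
  have huV : u ∈ fixS c := mem_fixS.2 hc.2
  have hPV : ∀ g ∈ P, ∀ w ∈ fixS c, g w ∈ fixS c := by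
    intro g hg w hw
    rw [mem_fixS] at hw ⊢
    rcases hcP g hg with h | h
    · have h1 : g * c = c * g := by rw [mul_inv_eq_iff_eq_mul] at h; exact h
      have h2 : g (c w) = c (g w) := congrArg (fun f : V ≃ₗ[F] V => f w) h1
      rw [← h2, hw]
    · have h1 : g * c = c⁻¹ * g := by rw [mul_inv_eq_iff_eq_mul] at h; exact h
      have h2 : g (c w) = c.symm (g w) := congrArg (fun f : V ≃ₗ[F] V => f w) h1
      rw [hw] at h2
      rw [LinearEquiv.eq_symm_apply] at h2
      exact h2
  by_cases h4 : 4 ≤ finrank F (fixS c)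
  · -- a singular vector
    let W : Submodule F V := fixS c ⊓ perp Q (Submodule.span F {u})
    have hmemW : ∀ w, w ∈ W ↔ c w = w ∧ polar Q u w = 0 := by
      intro w
      rw [Submodule.mem_inf, mem_fixS]
      refine and_congr_right fun _ => ⟨fun h => h u (Submodule.mem_span_singleton_self u), fun h x hx => ?_⟩
      obtain ⟨a, rfl⟩ := Submodule.mem_span_singleton.1 hx
      rw [polar_smul_left, h, smul_zero]
    have huW : u ∈ W := (hmemW u).2 ⟨hc.2, huu⟩
    have hPW : ∀ g ∈ P, ∀ w ∈ W, g w ∈ W := by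
      intro g hg w hw
      rw [hmemW] at hw ⊢
      refine ⟨mem_fixS.1 (hPV g hg w (mem_fixS.2 hw.1)), ?_⟩
      have h1 := polar_map (hPG hg).1 u w
      rw [(hPG hg).2, hw.2] at h1
      exact h1
    have hdW : 2 ≤ finrank F W := by
      have h1 := Submodule.finrank_sup_add_finrank_inf_eq (fixS c) (perp Q (Submodule.span F {u}))
      have h2 := finrank_perp hQ (Submodule.span F {u})
      rw [finrank_span_singleton hu0] at h2
      have h3 := Submodule.finrank_le (fixS c ⊔ perp Q (Submodule.span F {u}))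
      change 2 ≤ finrank F (fixS c ⊓ perp Q (Submodule.span F {u}) : Submodule F V)
      omega
    obtain ⟨s, hsW, hsu, hsP⟩ := exists_fixed_coset P hP W u huW hPW (fun g hg => (hPG hg).2) hdW
    obtain ⟨t, ht⟩ : ∃ t : F, t * t * Q u = Q s := by
      refine ⟨rt F (Q s / Q u), ?_⟩
      rw [rt_mul_rt, div_mul_cancel₀ _ hu]
    rw [hmemW] at hsW
    obtain ⟨s', hs'⟩ : ∃ s', s' = s + t • u := ⟨_, rfl⟩
    have hsu' : polar Q s u = 0 := by rw [polar_comm]; exact hsW.2
    have hpol : polar Q s' u = 0 := by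
      rw [hs', polar_add_left, hsu', polar_smul_left, huu, smul_zero, add_zero]
    have hQs' : Q s' = 0 := by
      rw [hs', Q_add, QuadraticMap.map_smul, polar_smul_right, hsu', smul_zero, add_zero, smul_eq_mul, ht]
      have h2 : (2 : F) = 0 := CharTwo.two_eq_zero
      rw [← two_mul, h2, zero_mul]
    have hs0 : s' ≠ 0 := by
      intro h
      rw [hs'] at h
      apply hsu (-t)
      rw [neg_smul]
      exact eq_neg_of_add_eq_zero_left h
    have hPs : ∀ g ∈ P, g s' = s' := by
      intro g hg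
      obtain ⟨a, ha⟩ := hsP g hg
      have h1 : g s' = s' + a • u := by
        rw [hs', map_add, ha, map_smul, (hPG hg).2]
        abel
      have h2 := (hPG hg).1 s'
      rw [h1, Q_add, QuadraticMap.map_smul, polar_smul_right, hpol, smul_zero, add_zero, hQs', zero_add, smul_eq_mul,
        mul_eq_zero] at h2
      have h3 : a = 0 := mul_self_eq_zero.1 (h2.resolve_right hu)
      rw [h1, h3, zero_smul, add_zero]
    have hcs : c s' = s' := by
      rw [hs', map_add, map_smul, hc.2, hsW.1]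
    have hmem : ∀ g, g ∈ O Q → g s' = s' → g u = u → g ∈ transV Q s' u ⊥ := by
      intro g h1 h2 h3
      exact ⟨h1, h2, 0, zero_mem _, by rw [zero_smul, add_zero, h3]⟩
    refine ⟨transV Q s' u ⊥, ?_, hmem c hc.1 hcs hc.2, fun g hg => hmem g (hPG hg).1 (hPs g hg) (hPG hg).2,
      h5 F V Q hQ hd s' u ⊥ hs0 hQs' hu hpol⟩
    rintro g ⟨h1, -, γ, hγ, h3⟩
    rw [AddSubgroup.mem_bot] at hγ
    rw [hγ, zero_smul, add_zero] at h3
    exact ⟨h1, h3⟩
  · -- dimension two
    have heven := even_finrank hV0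
    have hpos : 0 < finrank F (fixS c) := by
      rw [Module.finrank_pos_iff_exists_ne_zero]
      exact ⟨⟨u, huV⟩, fun h => hu0 (congrArg Subtype.val h)⟩
    have h2 : finrank F (fixS c) = 2 := by
      obtain ⟨k, hk⟩ := heven
      omega
    have hperp : Nondeg (res Q (perp Q (fixS c))) := nondeg_perp hQ hV0
    have hdperp : finrank F (perp Q (fixS c)) = 2 * (n - 1) := by
      have := finrank_perp hQ (fixS c)
      omega
    have hn : n - 1 < n := by
      have := Submodule.finrank_le (fixS c)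
      omega
    have hf1 := finite_equiv F (fixS c)
    have hf2 := finite_equiv F (perp Q (fixS c))
    let u' : fixS c := ⟨u, huV⟩
    have hsq : ∀ x : fixV (res Q (fixS c)) u', x * x = 1 := fun x =>
      Subtype.ext (sq_of_fix_plane hV0 h2 (u := u') hu x.2.1 x.2.2)
    have hA : FSGood False (fixV (res Q (fixS c)) u') := by
      refine FSGood.of_isConj_inv ((fsGood_of_compl (⊥ : Subgroup (fixV (res Q (fixS c)) u'))
        (by rw [Subgroup.card_bot]; exact odd_one) fun x _ => hsq x).mono fun _ => trivial) fun x => ?_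
      rw [inv_eq_of_mul_eq_one_left (hsq x)]
    have hB : FSGood False (O (res Q (perp Q (fixS c)))) :=
      h0 (n - 1) hn F (perp Q (fixS c)) (res Q (perp Q (fixS c))) hperp hdperp
    have hAB := hA.prod hB
    let Y' : Subgroup ((fixS c ≃ₗ[F] fixS c) × (perp Q (fixS c) ≃ₗ[F] perp Q (fixS c))) :=
      (fixV (res Q (fixS c)) u').prod (O (res Q (perp Q (fixS c))))
    have hmem : ∀ g, g ∈ O Q → (∀ w ∈ fixS c, g w ∈ fixS c) → g u = u → g ∈ Y'.map (glue hV0) := by
      intro g h3 h6 h7
      obtain ⟨p, rfl, hp⟩ := exists_eq_glue hV0 h3 h6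
      have h8 := (glue_mem_O hV0).1 h3
      refine ⟨p, ⟨⟨h8.1, ?_⟩, h8.2⟩, rfl⟩
      exact Subtype.ext ((hp u').trans h7)
    refine ⟨Y'.map (glue hV0), ?_, hmem c hc.1 (fun w hw => ?_) hc.2, fun g hg => hmem g (hPG hg).1 (hPV g hg) (hPG hg).2, ?_⟩
    · rintro _ ⟨p, hp, rfl⟩
      refine ⟨(glue_mem_O hV0).2 ⟨hp.1.1, hp.2⟩, ?_⟩
      have h3 := glue_left hV0 p u'
      have h6 : p.1 u' = u' := hp.1.2
      rw [h6] at h3
      exact h3
    · rw [mem_fixS.1 hw]
      exact hw
    · have e1 : Y' ≃* (fixV (res Q (fixS c)) u') × (O (res Q (perp Q (fixS c)))) := Subgroup.prodEquiv _ _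
      have e2 : Y' ≃* Y'.map (glue hV0) := Y'.equivMapOfInjective _ (glue_injective hV0)
      exact hAB.of_equiv (e1.symm.trans e2)

end Cover

theorem T2_step (n : ℕ) (h5 : T5.{u} n) (h0 : ∀ m < n, T0.{u} m) : T2.{u} n := by
  intro F V _ _ _ _ _ _ Q hQ hd u hu
  have := finite_equiv F V
  refine fsGood_of_inv (fsGood_of_cover_amb _ fun c hc hodd P hPG hP hcP => ?_) fun g hg => ?_
  · obtain ⟨Y, h1, h2, h3, h4⟩ := exists_cover h5 h0 hQ hd hu hc hodd hPG hP hcP
    exact ⟨Y, h1, h2, h3, h4.mono fun h => h.elim⟩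
  · obtain ⟨t, r, hr, hn⟩ : ∃ t r : ℕ, Odd r ∧ orderOf g = 2 ^ t * r := by
      obtain ⟨t, r, hr, hn⟩ := Nat.exists_eq_two_pow_mul_odd (orderOf_pos g).ne'
      exact ⟨t, r, hr, hn⟩
    have hcop : (2 ^ t).Coprime r := Nat.Coprime.pow_left _ (Nat.coprime_two_left.2 hr)
    have ho1 : orderOf (g ^ (2 ^ t)) = r := by
      rw [orderOf_pow, hn, Nat.gcd_eq_right (Dvd.intro _ rfl), Nat.mul_div_cancel_left _ (by positivity)]
    have ho2 : orderOf (g ^ r) = 2 ^ t := by
      rw [orderOf_pow, hn, Nat.gcd_eq_right (Dvd.intro_left _ rfl), Nat.mul_div_cancel _ hr.pos]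
    obtain ⟨Y, h1, h2, h3, h4⟩ := exists_cover h5 h0 hQ hd hu (c := g ^ (2 ^ t)) (pow_mem hg _) (by rw [ho1]; exact hr)
      (P := Subgroup.zpowers (g ^ r)) (by
        rw [Subgroup.zpowers_le]
        exact pow_mem hg _)
      (IsPGroup.of_card (by rw [Nat.card_zpowers, ho2]))
      (by
        intro x hx
        left
        obtain ⟨k, rfl⟩ := Subgroup.mem_zpowers_iff.1 hx
        rw [mul_inv_eq_iff_eq_mul, ← zpow_natCast, ← zpow_natCast, ← zpow_mul, ← zpow_add, ← zpow_add, add_comm])
    have hgY : g ∈ Y := by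
      have h9 := Nat.gcd_eq_gcd_ab (2 ^ t) r
      rw [Nat.coprime_iff_gcd_eq_one.1 hcop] at h9
      have h10 : g = (g ^ (2 ^ t)) ^ (Nat.gcdA (2 ^ t) r) * (g ^ r) ^ (Nat.gcdB (2 ^ t) r) := by
        rw [← zpow_natCast, ← zpow_natCast, ← zpow_mul, ← zpow_mul, ← zpow_add, ← h9]
        simp
      rw [h10]
      exact mul_mem (zpow_mem h2 _) (zpow_mem (h3 (Subgroup.mem_zpowers _)) _)
    obtain ⟨x, hx, hxg⟩ := h4.exists_inv hgY
    exact ⟨x, h1 hx, hxg⟩

end Cfsg.Agent.H636.FSTwo
end

-- part: H955/FSAll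
section
/-!
# All Frobenius-Schur indicators of orthogonal and symplectic groups in characteristic two
-/

set_option autoImplicit false

universe u

namespace Cfsg.Agent.H955.FS

/-- the induction -/
theorem all (n : ℕ) : T0.{u} n ∧ T1.{u} n ∧ T2.{u} n ∧ T3.{u} n ∧ T4.{u} n ∧ T5.{u} n :=
  all_of (fun n h5 h0 => Cfsg.Agent.H636.FSTwo.T2_step n h5 h0)
    (fun n ih => Cfsg.Agent.H592.FSFour.T4_step n ih) (fun n ih => T5_step n ih) n

end Cfsg.Agent.H955.FS
end
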