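import Mathlib
import Cfsg.Agent.H955.JSkew
set_option linter.all false

/-!
# Isometries of order two and of odd prime order, and a skew-adjoint `J`
-/

set_option autoImplicit false

namespace Cfsg.Agent.H955

open Module QuadraticMap Cfsg.Agent.LieClassical.OrthCore Cfsg.Agent.LieClassical.OrthTrans

universe u v w

/-- `a² - μ b² = c` is solvable. -/
theorem exists_norm {F : Type u} [Field F] [Finite F] (h2 : (2 : F) ≠ 0) {μ : F} (hμ : μ ≠ 0)
    (c : F) : ∃ a b : F, a ^ 2 - μ * b ^ 2 = c := by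
  have := Fintype.ofFinite F
  have hchar : ringChar F ≠ 2 := by
    intro h
    apply h2
    have := ringChar.Nat.cast_ringChar (R := F)
    rw [h] at this
    exact_mod_cast this
  obtain ⟨a, b, hab⟩ := FiniteField.exists_root_sum_quadratic
    (f := (Polynomial.X ^ 2 : Polynomial F)) (g := Polynomial.C (-μ) * Polynomial.X ^ 2 +
      Polynomial.C 0 * Polynomial.X + Polynomial.C (-c))
    (Polynomial.degree_X_pow 2) (Polynomial.degree_quadratic (neg_ne_zero.2 hμ))
    (FiniteField.odd_card_of_char_ne_two hchar)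
  refine ⟨a, b, ?_⟩
  simp at hab
  linear_combination hab

section Finite

variable {F : Type u} [Field F] [Finite F] {V : Type v} [AddCommGroup V] [Module F V]
  [FiniteDimensional F V] {B : LinearMap.BilinForm F V} {J : V →ₗ[F] V} {μ : F}

/-- an isometry anticommuting with `J` whose square is `-1`. -/
theorem JS.exists_semi (h : JS B J μ) (h2 : (2 : F) ≠ 0) (hμ : μ ≠ 0) :
    ∃ x ∈ IsoB B, (∀ v, x (x v) = - v) ∧ ∀ v, x (J v) = - J (x v) := by
  obtain ⟨d, hdd⟩ := h.sp.even
  obtain ⟨w, -, h0, h1⟩ := h.exists_family h2 hμ d ⊤ (fun _ _ => trivial) h.sp.ndTop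
    (by rw [finrank_top]; omega)
  obtain ⟨b, hb1, hb2⟩ := h.exists_basis (by omega) h0 h1
  obtain ⟨a, c, hac⟩ := exists_norm h2 hμ (-1)
  let C : V →ₗ[F] V := b.constr F (Sum.elim w (fun i => - J (w i)))
  have hC1 : ∀ i, C (w i) = w i := fun i => by
    have := b.constr_basis F (Sum.elim w (fun i => - J (w i))) (.inl i)
    rw [hb1] at this
    exact this
  have hC2 : ∀ i, C (J (w i)) = - J (w i) := fun i => by
    have := b.constr_basis F (Sum.elim w (fun i => - J (w i))) (.inr i)
    rw [hb2] at this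
    exact this
  have hCJ : ∀ v, C (J v) = - J (C v) := by
    have : C ∘ₗ J = - (J ∘ₗ C) := by
      apply b.ext
      rintro (i | i)
      · rw [hb1]
        change C (J (w i)) = - J (C (w i))
        rw [hC1, hC2]
      · rw [hb2]
        change C (J (J (w i))) = - J (C (J (w i)))
        rw [hC2, map_neg, neg_neg, h.sq, map_smul, hC1]
    intro v
    exact LinearMap.congr_fun this v
  have hCC : ∀ v, C (C v) = v := by
    have : C ∘ₗ C = LinearMap.id := by
      apply b.ext
      rintro (i | i)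
      · rw [hb1]
        change C (C (w i)) = w i
        rw [hC1, hC1]
      · rw [hb2]
        change C (C (J (w i))) = J (w i)
        rw [hC2, map_neg, hC2, neg_neg]
    intro v
    exact LinearMap.congr_fun this v
  have hCB : ∀ u v, B (C u) (C v) = - B u v := by
    have : LinearMap.compl₁₂ B C C = - B := by
      apply LinearMap.BilinForm.ext_basis b
      rintro (i | i) (j | j) <;>
      simp only [LinearMap.compl₁₂_apply, LinearMap.neg_apply, hb1, hb2, hC1, hC2, map_neg, h0, h1,
        h.skew, h.sq, map_smul, smul_zero, neg_zero, neg_neg]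
    intro u v
    exact LinearMap.congr_fun₂ this u v
  let X : V →ₗ[F] V := a • C + c • (J ∘ₗ C)
  have hX : ∀ v, X v = a • C v + c • J (C v) := fun v => rfl
  have hXX : ∀ v, X (X v) = - v := by
    intro v
    rw [hX v, map_add, map_smul, map_smul, hX, hX]
    simp only [hCC, hCJ, map_neg, h.sq]
    have : a • (a • v + c • J v) + c • (a • (-J v) + c • (-(μ • v))) = (a ^ 2 - μ * c ^ 2) • v := by
      module
    rw [this, hac, neg_one_smul]
  let x : V ≃ₗ[F] V := LinearEquiv.ofLinearMap X (-X) (by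
    ext v
    change X (- X v) = v
    rw [map_neg, hXX, neg_neg]) (by
    ext v
    change - X (X v) = v
    rw [hXX, neg_neg])
  refine ⟨x, ?_, hXX, ?_⟩
  · intro u v
    change B (X u) (X v) = B u v
    rw [hX, hX]
    simp only [map_add, map_smul, LinearMap.add_apply, LinearMap.smul_apply, h.skew, h.sq, hCB,
      smul_eq_mul]
    have e1 := hCB u v
    linear_combination (-(B u v)) * hac
  · intro v
    change X (J v) = - J (X v)
    rw [hX, hX, hCJ, map_add, map_smul, map_smul, map_neg]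
    module

/-- every isometry with square `-1` is conjugate to one anticommuting with `J`. -/
theorem JS.anti (h : JS B J μ) (h2 : (2 : F) ≠ 0) (hμ : μ ≠ 0) {x : V ≃ₗ[F] V} (hx : x ∈ IsoB B)
    (hxx : ∀ v, x (x v) = - v) :
    ∃ g ∈ IsoB B, ∀ v, (g * x * g⁻¹) (J v) = - J ((g * x * g⁻¹) v) := by
  obtain ⟨y, hy, hyy, hyJ⟩ := h.exists_semi h2 hμ
  have key : ∀ z ∈ IsoB B, (∀ v, z (z v) = - v) → JS B (z : V →ₗ[F] V) (-1) := by
    intro z hz hzz
    refine ⟨h.sp, fun v => ?_, fun u v => ?_⟩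
    · rw [neg_one_smul]; exact hzz v
    · change B (z u) v = - B u (z v)
      have := hz u (z v)
      rw [hzz, map_neg] at this
      rw [← this, neg_neg]
  obtain ⟨g, hg, hgx⟩ := (key x hx hxx).exists_equiv (key y hy hyy) h2 (neg_ne_zero.2 one_ne_zero)
    rfl
  refine ⟨g, hg, ?_⟩
  have h3 : g * x * g⁻¹ = y := by
    ext v
    change g (x (g.symm v)) = y v
    have := hgx (g.symm v)
    change g (x (g.symm v)) = y (g (g.symm v)) at this
    rw [this, LinearEquiv.apply_symm_apply]
  rw [h3]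
  exact hyJ

/-- every isometry with square `1` is conjugate to one commuting with `J`. -/
theorem JS.invol (h : JS B J μ) (h2 : (2 : F) ≠ 0) (hμ : μ ≠ 0) {x : V ≃ₗ[F] V} (hx : x ∈ IsoB B)
    (hxx : ∀ v, x (x v) = v) :
    ∃ g ∈ IsoB B, ∀ v, (g * x * g⁻¹) (J v) = J ((g * x * g⁻¹) v) := by
  have hx2 : x ^ 2 = 1 := by
    ext v
    rw [pow_two, LinearEquiv.mul_apply, hxx]
    rfl
  have hW := ndOn_comS h.sp.nd hx (n := 2) (by exact_mod_cast h2) hx2
  obtain ⟨a, ha⟩ := h.sp.even_of_ndOn hW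
  have hle := Submodule.finrank_le (comS x)
  obtain ⟨W', hW', hJ', hWd'⟩ := h.exists_ndOn h2 hμ a (by omega)
  obtain ⟨g, hg, hgW⟩ := exists_iso_map_eq h.sp hW hW' (by omega)
  refine ⟨g, hg, ?_⟩
  -- `x = -1` on `comS x`, `x = 1` on the orthogonal space
  have hneg : ∀ v ∈ comS x, x v = - v := by
    intro v hv
    obtain ⟨y, rfl⟩ := mem_comS.1 hv
    rw [map_sub, hxx]
    abel
  have hpos : ∀ v ∈ orth B (comS x), x v = v := by
    intro v hv
    rw [← sub_eq_zero]
    have h3 : x v - v ∈ comS x := sub_mem_comS x v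
    have h4 : x v - v ∈ orth B (comS x) := by
      apply Submodule.sub_mem _ _ hv
      exact inv_orth hx (inv_comS x) v hv
    have h5 := disjoint_of_le_orth hW le_rfl h.sp.eps
    exact Submodule.disjoint_def.1 h5 _ h3 h4
  have horth : ∀ v ∈ orth B W', g.symm v ∈ orth B (comS x) := by
    intro v hv w hw
    have h3 := hg w (g.symm v)
    rw [LinearEquiv.apply_symm_apply] at h3
    rw [← h3]
    refine hv _ ?_
    rw [← hgW]
    exact ⟨w, hw, rfl⟩
  have hin : ∀ v ∈ W', g.symm v ∈ comS x := by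
    intro v hv
    rw [← hgW] at hv
    obtain ⟨w, hw, rfl⟩ := hv
    change g.symm (g w) ∈ comS x
    rw [LinearEquiv.symm_apply_apply]
    exact hw
  have h5 : ∀ v ∈ W', (g * x * g⁻¹) v = - v := by
    intro v hv
    change g (x (g.symm v)) = - v
    rw [hneg _ (hin v hv), map_neg, LinearEquiv.apply_symm_apply]
  have h6 : ∀ v ∈ orth B W', (g * x * g⁻¹) v = v := by
    intro v hv
    change g (x (g.symm v)) = v
    rw [hpos _ (horth v hv), LinearEquiv.apply_symm_apply]
  intro v
  obtain ⟨a, b, rfl⟩ := exists_add_compl (hW'.isCompl h.sp.eps) v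
  rw [map_add J, map_add, map_add, h5 a a.2, h6 b b.2, h5 _ (hJ' a a.2),
    h6 _ (h.orth_inv hJ' b b.2), map_add, map_neg]

/-- **isometries of odd prime order commuting with `J`.** -/
theorem JS.pow_eq (h : JS B J μ) (h2 : (2 : F) ≠ 0) (hns : ¬ IsSquare μ) {r : ℕ} [Fact r.Prime]
    (hr : ¬ r ∣ Nat.card F) {T : V ≃ₗ[F] V} (hT : T ∈ IsoB B) (hTr : T ^ r = 1)
    (hTJ : ∀ v, T (J v) = J (T v)) {m : ℕ} (hm : finrank F (comS T) = 2 * m) :
    (Nat.card F : ZMod r) ^ m = (-1) ^ m := by
  have hμ : μ ≠ 0 := by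
    rintro rfl
    exact hns ⟨0, by simp⟩
  have hrF := natCast_ne_zero_of_not_dvd hr
  have hW := ndOn_comS h.sp.nd hT hrF hTr
  have hJ : ∀ w ∈ comS T, J w ∈ comS T := by
    intro w hw
    obtain ⟨y, rfl⟩ := mem_comS.1 hw
    exact mem_comS.2 ⟨J y, by rw [hTJ, map_sub]⟩
  have hQ := h.nondeg_res h2 hμ hJ hW
  have hTQ : resT T (comS T) (inv_comS T) ∈ O (res (qJ B J) (comS T)) := by
    intro w
    change B (T w) (J (T w)) = B w (J w)
    rw [← hTJ, hT]
  have hP := h.isPlus_iff h2 hns m (comS T) hJ hW hm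
  obtain ⟨h3, h4⟩ := pow_eq_of_free hQ hm hTQ hr (resT_pow_eq_one hTr)
    (fun w hw => Subtype.ext (free_comS hrF hTr w w.2 (congrArg Subtype.val hw)))
  by_cases hme : Even m
  · rw [hme.neg_one_pow]
    exact h3 (hP.2 hme)
  · rw [(Nat.not_even_iff_odd.1 hme).neg_one_pow]
    exact h4 (fun h5 => hme (hP.1 h5))

end Finite

end Cfsg.Agent.H955
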