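import Mathlib
import Cfsg.Agent.H955.JSkew2
import Cfsg.Agent.S0277
set_option linter.all false

/-!
# `GU_d(q)` inside the centralizer of a skew-adjoint `J`
-/

set_option autoImplicit false

namespace Cfsg.Agent.H955

open Module Cfsg.Agent.LieClassical.OrthFinite

universe u v w

section Quad

variable {F : Type u} [Field F] [Fintype F] {L : Type w} [Field L] [Algebra F L] {μ : F} {l : L}

omit [Fintype F] in
theorem exists_coord (hns : ¬ IsSquare μ) (hL : finrank F L = 2)
    (hl : l * l = algebraMap F L μ) (a : L) : ∃ x y : F, a = algebraMap F L x + y • l := by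
  have hli : LinearIndependent F ![(1 : L), l] := by
    rw [LinearIndependent.pair_iff]
    intro x y hxy
    have hy : y = 0 := by
      by_contra hy
      apply hns
      have h1 : l = algebraMap F L (- x / y) := by
        have h2 : y • l = - (x • (1 : L)) := by linear_combination hxy
        have h3 : l = y⁻¹ • (y • l) := by rw [smul_smul, inv_mul_cancel₀ hy, one_smul]
        rw [h3, h2, Algebra.algebraMap_eq_smul_one, ← neg_smul, smul_smul]
        congr 1
        field_simp
      refine ⟨- x / y, ?_⟩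
      apply (algebraMap F L).injective
      rw [← hl, h1, map_mul]
    refine ⟨?_, hy⟩
    rw [hy, zero_smul, add_zero] at hxy
    exact (smul_eq_zero.1 hxy).resolve_right one_ne_zero
  let b := basisOfLinearIndependentOfCardEqFinrank hli (by simp [hL])
  refine ⟨b.repr a 0, b.repr a 1, ?_⟩
  have h1 := b.sum_repr a
  rw [Fin.sum_univ_two] at h1
  simp only [b, coe_basisOfLinearIndependentOfCardEqFinrank, Matrix.cons_val_zero,
    Matrix.cons_val_one] at h1
  rw [Algebra.algebraMap_eq_smul_one]
  exact h1.symm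

theorem pow_card_l (h2 : (2 : F) ≠ 0) (hns : ¬ IsSquare μ)
    (hl : l * l = algebraMap F L μ) : l ^ Fintype.card F = - l := by
  have hchar : ringChar F ≠ 2 := by
    intro h
    apply h2
    have := ringChar.Nat.cast_ringChar (R := F)
    rw [h] at this
    exact_mod_cast this
  have hμ : μ ≠ 0 := by
    rintro rfl
    exact hns ⟨0, by simp⟩
  have h3 : μ ^ (Fintype.card F / 2) = -1 := by
    rcases FiniteField.pow_dichotomy hchar hμ with h | h
    · exact absurd ((FiniteField.isSquare_iff hchar hμ).2 h) hns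
    · exact h
  have h4 := Nat.two_mul_odd_div_two (FiniteField.odd_card_of_char_ne_two hchar)
  have h5 : 1 ≤ Fintype.card F := Fintype.card_pos
  have h6 : Fintype.card F = 2 * (Fintype.card F / 2) + 1 := by omega
  rw [h6, pow_succ, pow_mul, pow_two, hl, ← map_pow, h3]
  simp

theorem pow_card_coord (h2 : (2 : F) ≠ 0) (hns : ¬ IsSquare μ)
    (hl : l * l = algebraMap F L μ) (x y : F) :
    (algebraMap F L x + y • l) ^ Fintype.card F = algebraMap F L x - y • l := by
  have h3 : ∀ a : L, a ^ Fintype.card F = FiniteField.frobeniusAlgHom F L a := fun a => rfl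
  rw [h3, map_add, map_smul, AlgHom.commutes, ← h3, pow_card_l h2 hns hl, smul_neg,
    sub_eq_add_neg]

end Quad

section GU

variable {F : Type u} [Field F] [Fintype F] {V : Type v} [AddCommGroup V] [Module F V]
  [FiniteDimensional F V] {B : LinearMap.BilinForm F V} {J : V →ₗ[F] V} {μ : F}
  {L : Type w} [Field L] [Algebra F L] [Module L V] [IsScalarTower F L V] {l : L}

omit [Fintype F] [FiniteDimensional F V] in
theorem coord_smul (hlJ : ∀ v : V, l • v = J v) (x y : F) (v : V) :
    (algebraMap F L x + y • l) • v = x • v + y • J v := by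
  rw [add_smul, algebraMap_smul, smul_assoc, hlJ]

omit [FiniteDimensional F V] in
theorem JS.adj (h : JS B J μ) (h2 : (2 : F) ≠ 0) (hns : ¬ IsSquare μ) (hL : finrank F L = 2)
    (hl : l * l = algebraMap F L μ) (hlJ : ∀ v : V, l • v = J v) (a : L) (u v : V) :
    B (a • u) v = B u (a ^ Fintype.card F • v) := by
  obtain ⟨x, y, rfl⟩ := exists_coord hns hL hl a
  rw [pow_card_coord h2 hns hl, sub_eq_add_neg, ← neg_smul, coord_smul hlJ, coord_smul hlJ]
  simp only [map_add, map_smul, LinearMap.add_apply, LinearMap.smul_apply, h.skew, smul_eq_mul]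
  ring

/-- **the general unitary group commutes with `J`.** -/
theorem JS.exists_GU (h : JS B J μ) (h2 : (2 : F) ≠ 0) (hns : ¬ IsSquare μ) (hL : finrank F L = 2)
    (hl : l * l = algebraMap F L μ) (hlJ : ∀ v : V, l • v = J v) {d : ℕ} (hd0 : 0 < d)
    (hd : finrank F V = 2 * d) :
    ∃ f : Cfsg.GU d L (Fintype.card F) →* (V ≃ₗ[F] V), Function.Injective f ∧
      ∀ A, f A ∈ IsoB B ∧ ∀ v, f A (J v) = J (f A v) := by
  classical
  have hμ : μ ≠ 0 := by
    rintro rfl
    exact hns ⟨0, by simp⟩
  have hfL : FiniteDimensional F L := Module.finite_of_finrank_pos (by omega)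
  obtain ⟨w, -, h0, h1⟩ := h.exists_family h2 hμ d ⊤ (fun _ _ => trivial) h.sp.ndTop
    (by rw [finrank_top]; omega)
  let i0 : Fin d := ⟨0, hd0⟩
  let t : L →ₗ[F] F := (B (w i0)) ∘ₗ (LinearMap.toSpanSingleton L V (w i0)).restrictScalars F
  have ht : ∀ x y : F, t (algebraMap F L x + y • l) = y := by
    intro x y
    change B (w i0) ((algebraMap F L x + y • l) • w i0) = y
    rw [coord_smul hlJ, map_add, map_smul, map_smul, h0, h1, if_pos rfl]
    simp
  have hBt : ∀ (a : L) (i j : Fin d), B (w i) (a • w j) = if i = j then t a else 0 := by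
    intro a i j
    obtain ⟨x, y, rfl⟩ := exists_coord hns hL hl a
    rw [ht, coord_smul hlJ, map_add, map_smul, map_smul, h0, h1]
    split_ifs <;> simp
  have hl0 : l ≠ 0 := by
    rintro rfl
    apply hμ
    apply (algebraMap F L).injective
    rw [← hl, map_zero, mul_zero]
  have ht1 : t l = 1 := by
    have := ht 0 1
    rwa [map_zero, one_smul, zero_add] at this
  have hli : LinearIndependent L w := by
    rw [Fintype.linearIndependent_iff]
    intro g hg k
    by_contra hk
    have h3 : B (w k) ((l / g k) • ∑ i, g i • w i) = 0 := by rw [hg, smul_zero, map_zero]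
    rw [Finset.smul_sum, map_sum] at h3
    simp only [smul_smul, hBt, Finset.sum_ite_eq, Finset.mem_univ, if_true] at h3
    rw [div_mul_cancel₀ _ hk, ht1] at h3
    exact one_ne_zero h3
  have hdL : finrank L V = d := by
    have := Module.finrank_mul_finrank F L V
    rw [hL, hd] at this
    omega
  have hne : Nonempty (Fin d) := ⟨i0⟩
  let bL : Basis (Fin d) L V := basisOfLinearIndependentOfCardEqFinrank hli (by simp [hdL])
  have hbL : ∀ i, bL i = w i := fun i => by simp [bL]
  have hform : ∀ u v : V, B u v = t (Cfsg.hermForm d L (Fintype.card F) (bL.equivFun v)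
      (bL.equivFun u)) := by
    intro u v
    have hu : u = ∑ i, bL.equivFun u i • w i := by
      conv_lhs => rw [← bL.sum_equivFun u]
      exact Finset.sum_congr rfl fun i _ => by rw [hbL]
    have hv : v = ∑ i, bL.equivFun v i • w i := by
      conv_lhs => rw [← bL.sum_equivFun v]
      exact Finset.sum_congr rfl fun i _ => by rw [hbL]
    conv_lhs => rw [hu, hv]
    simp only [map_sum, LinearMap.sum_apply, h.adj h2 hns hL hl hlJ, smul_smul, hBt]
    rw [Finset.sum_comm]
    simp only [Finset.sum_ite_eq, Finset.mem_univ, if_true]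
    rw [Cfsg.hermForm, map_sum]
    exact Finset.sum_congr rfl fun i _ => by rw [mul_comm]
  -- the homomorphism
  let R : (V ≃ₗ[L] V) →* (V ≃ₗ[F] V) :=
    { toFun := fun g => g.restrictScalars F
      map_one' := rfl
      map_mul' := fun _ _ => rfl }
  let f : Cfsg.GU d L (Fintype.card F) →* (V ≃ₗ[F] V) :=
    R.comp ((tr bL.equivFun.symm).toMonoidHom.comp
      ((glEquiv (Fin d) L).toMonoidHom.comp (Subgroup.subtype _)))
  have hf : ∀ A v, bL.equivFun (f A v) =
      ((A : Matrix.GeneralLinearGroup (Fin d) L) : Matrix (Fin d) (Fin d) L).mulVec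
        (bL.equivFun v) := by
    intro A v
    change bL.equivFun (bL.equivFun.symm _) = _
    rw [LinearEquiv.apply_symm_apply]
    rfl
  refine ⟨f, ?_, fun A => ⟨fun u v => ?_, fun v => ?_⟩⟩
  · intro A A' hAA
    have h3 : glEquiv (Fin d) L A.1 = glEquiv (Fin d) L A'.1 := by
      apply (tr bL.equivFun.symm).injective
      ext v
      exact LinearEquiv.congr_fun hAA v
    exact Subtype.ext ((glEquiv (Fin d) L).injective h3)
  · rw [hform, hform, hf, hf]
    exact congrArg t (A.2 _ _)
  · rw [← hlJ, ← hlJ]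
    change (tr bL.equivFun.symm (glEquiv (Fin d) L A.1)) (l • v) =
      l • (tr bL.equivFun.symm (glEquiv (Fin d) L A.1)) v
    rw [map_smul]

end GU

section Arith

/-- the index, from the orders of `Sp_{2d}(q)` and `GU_d(q)`. -/
theorem exists_of_dvd {q d r a : ℕ} (hq : 1 < q) [hrp : Fact r.Prime] (hr : ¬ r ∣ q)
    (hra : r ∣ a) (ha : a * (q ^ (d * (d - 1) / 2) * ∏ i ∈ Finset.range d,
      (if Even i then q ^ (i + 1) + 1 else q ^ (i + 1) - 1)) ∣
        q ^ (d ^ 2) * ∏ i ∈ Finset.range d, (q ^ (2 * (i + 1)) - 1)) :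
    ∃ j, 1 ≤ j ∧ j ≤ d ∧ (q : ZMod r) ^ j = - (-1) ^ j := by
  have h1 : ∏ i ∈ Finset.range d, (q ^ (2 * (i + 1)) - 1) =
      (∏ i ∈ Finset.range d, (if Even i then q ^ (i + 1) + 1 else q ^ (i + 1) - 1)) *
      ∏ i ∈ Finset.range d, (if Even i then q ^ (i + 1) - 1 else q ^ (i + 1) + 1) := by
    rw [← Finset.prod_mul_distrib]
    refine Finset.prod_congr rfl fun i _ => ?_
    have h2 : q ^ (2 * (i + 1)) - 1 = (q ^ (i + 1) + 1) * (q ^ (i + 1) - 1) := by
      rw [mul_comm 2, pow_mul, ← one_pow 2, Nat.sq_sub_sq, one_pow]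
    split_ifs
    · rw [h2]
    · rw [h2, mul_comm]
  have hle : d * (d - 1) / 2 ≤ d ^ 2 := by
    have h3 : d * (d - 1) ≤ d ^ 2 := by
      rw [pow_two]
      exact Nat.mul_le_mul_left d (Nat.sub_le d 1)
    exact (Nat.div_le_self _ _).trans h3
  obtain ⟨e, he⟩ := Nat.exists_eq_add_of_le hle
  have hpos : 0 < q ^ (d * (d - 1) / 2) * ∏ i ∈ Finset.range d,
      (if Even i then q ^ (i + 1) + 1 else q ^ (i + 1) - 1) := by
    apply Nat.mul_pos (pow_pos (by omega) _)
    apply Finset.prod_pos
    intro i _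
    split_ifs
    · omega
    · have : 1 < q ^ (i + 1) := Nat.one_lt_pow (by omega) hq
      omega
  have h4 : a ∣ q ^ e * ∏ i ∈ Finset.range d, (if Even i then q ^ (i + 1) - 1 else q ^ (i + 1) + 1) := by
    rw [h1, he, pow_add] at ha
    refine Nat.dvd_of_mul_dvd_mul_right hpos ?_
    refine ha.trans (dvd_of_eq ?_)
    ring
  have h5 := hra.trans h4
  rcases (Nat.Prime.dvd_mul hrp.out).1 h5 with h6 | h6
  · exact absurd (hrp.out.dvd_of_dvd_pow h6) hr
  · obtain ⟨i, hi, h7⟩ := (Prime.dvd_finsetProd_iff hrp.out.prime _).1 h6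
    refine ⟨i + 1, by omega, by have := Finset.mem_range.1 hi; omega, ?_⟩
    by_cases hev : Even i
    · rw [if_pos hev] at h7
      have h8 : Odd (i + 1) := hev.add_one
      rw [h8.neg_one_pow, neg_neg]
      have h9 := (ZMod.natCast_eq_zero_iff _ _).2 h7
      rw [Nat.cast_sub (Nat.one_le_pow _ _ (by omega)), sub_eq_zero] at h9
      exact_mod_cast h9
    · rw [if_neg hev] at h7
      have h8 : Even (i + 1) := (Nat.not_even_iff_odd.1 hev).add_one
      rw [h8.neg_one_pow]
      have h9 := (ZMod.natCast_eq_zero_iff _ _).2 h7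
      push_cast at h9
      exact eq_neg_of_add_eq_zero_left h9

/-- the arithmetic of the unitary case -/
theorem unitary_arith {q d r : ℕ} [hrp : Fact r.Prime] (h2 : 2 < r)
    {j : ℕ} (hj : 1 ≤ j) (hjd : j ≤ d) (h : (q : ZMod r) ^ j = - (-1) ^ j) :
    cc q r ≤ 2 * d ∧ ∀ m, cc q r = 2 * m → (q : ZMod r) ^ m ≠ (-1) ^ m := by
  have h3 : (q : ZMod r) ^ (2 * j) = 1 := by
    rw [mul_comm, pow_mul, h, neg_sq, ← pow_mul, mul_comm, pow_mul]
    simp
  have h4 : cc q r ∣ 2 * j := (cc_dvd_iff (even_two_mul j)).2 (orderOf_dvd_of_pow_eq_one h3)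
  refine ⟨(Nat.le_of_dvd (by omega) h4).trans (by omega), ?_⟩
  intro m hm hqm
  rw [hm] at h4
  obtain ⟨t, ht⟩ := Nat.dvd_of_mul_dvd_mul_left (by norm_num) h4
  rw [ht, pow_mul, pow_mul, hqm] at h
  have h5 : ((-1 : ZMod r) ^ m) ^ t ≠ 0 := pow_ne_zero _ (pow_ne_zero _ (neg_ne_zero.2 one_ne_zero))
  have h6 : (2 : ZMod r) * ((-1 : ZMod r) ^ m) ^ t = 0 := by linear_combination h
  exact (mul_ne_zero (two_ne_zero_zmod h2) h5) h6

end Arith

end Cfsg.Agent.H955
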