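import Mathlib
import Cfsg.Agent.H955.JSkew2
import Cfsg.Agent.H954.FieldSub
import Cfsg.Prelude.Def_GeometricClasses
set_option linter.all false

-- part: H955/KMat
section
/-!
# Field subalgebras of degree two of a matrix algebra, odd characteristic

`K = F + F M` with `M² = μ` a non-square; the normalizer of `K` consists of the `g` with
`g M = ± M g`.
-/

set_option autoImplicit false

namespace Cfsg.Agent.H955

open Module Cfsg.Agent.LieClassical.OrthFinite
open scoped Matrix

universe u v w

variable {ι : Type} [Fintype ι] [DecidableEq ι] {F : Type u} [Field F]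

theorem exists_gen [Nonempty ι] (h2 : (2 : F) ≠ 0) {K : Subalgebra F (Matrix ι ι F)}
    (hK : Cfsg.Geo.IsFieldSubalgebra 2 K) :
    ∃ M ∈ K, ∃ μ : F, M * M = μ • (1 : Matrix ι ι F) ∧ ¬ IsSquare μ ∧
      ∀ k ∈ K, ∃ x y : F, k = x • (1 : Matrix ι ι F) + y • M := by
  have hfd := hK.finrank_eq
  have hKfin : FiniteDimensional F K := Module.finite_of_finrank_pos (by rw [hfd]; norm_num)
  -- a nonscalar element
  obtain ⟨a, ha⟩ : ∃ a : K, ∀ c : F, c • (1 : K) ≠ a := by
    by_contra hcon
    push Not at hcon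
    have h1 : finrank F K ≤ 1 := finrank_le_one (1 : K) hcon
    omega
  have hli : LinearIndependent F ![(1 : K), a] := by
    rw [LinearIndependent.pair_iff]
    intro x y hxy
    have hy : y = 0 := by
      by_contra hy
      apply ha (- x / y)
      have h3 : y • a = - (x • (1 : K)) := by rw [eq_neg_iff_add_eq_zero, add_comm]; exact hxy
      have h4 : a = y⁻¹ • (y • a) := by rw [smul_smul, inv_mul_cancel₀ hy, one_smul]
      rw [h4, h3, ← neg_smul, smul_smul]
      congr 1
      field_simp
    refine ⟨?_, hy⟩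
    rw [hy, zero_smul, add_zero] at hxy
    have h10 : (1 : K) ≠ 0 := by
      intro h
      have h5 : (1 : Matrix ι ι F) = 0 := congrArg Subtype.val h
      exact one_ne_zero h5
    exact (smul_eq_zero.1 hxy).resolve_right h10
  let b := basisOfLinearIndependentOfCardEqFinrank hli (by simp [hfd])
  have hb : ∀ k : K, ∃ x y : F, k = x • (1 : K) + y • a := by
    intro k
    refine ⟨b.repr k 0, b.repr k 1, ?_⟩
    have h1 := b.sum_repr k
    rw [Fin.sum_univ_two] at h1
    simp only [b, coe_basisOfLinearIndependentOfCardEqFinrank, Matrix.cons_val_zero,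
      Matrix.cons_val_one] at h1
    exact h1.symm
  obtain ⟨t, s, hts⟩ := hb (a * a)
  let m : K := a - (s / 2) • (1 : K)
  have hmm : m * m = (t + s ^ 2 / 4) • (1 : K) := by
    have h4 : (4 : F) ≠ 0 := by
      have : (4 : F) = 2 * 2 := by norm_num
      rw [this]
      exact mul_ne_zero h2 h2
    simp only [m, sub_mul, mul_sub, hts, smul_mul_assoc, mul_smul_comm, one_mul, mul_one]
    have : t • (1 : K) + s • a - (s / 2) • a - (s / 2) • (a - (s / 2) • (1 : K)) =
        (t + (s / 2) * (s / 2)) • (1 : K) + (s - s / 2 - s / 2) • a := by module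
    rw [this]
    have h5 : s - s / 2 - s / 2 = 0 := by
      field_simp
      ring
    have h6 : s / 2 * (s / 2) = s ^ 2 / 4 := by
      field_simp
      ring
    rw [h5, zero_smul, add_zero, h6]
  refine ⟨m, m.2, t + s ^ 2 / 4, congrArg Subtype.val hmm, ?_, ?_⟩
  · rintro ⟨c, hc⟩
    have h3 : (m - c • (1 : K)) * (m + c • (1 : K)) = 0 := by
      have : (m - c • (1 : K)) * (m + c • (1 : K)) = m * m - (c * c) • (1 : K) := by
        simp only [sub_mul, mul_add, smul_mul_assoc, mul_smul_comm, one_mul, mul_one]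
        module
      rw [this, hmm, hc, sub_self]
    have hfield : ∀ x y : K, x * y = 0 → x = 0 ∨ y = 0 := by
      intro x y hxy
      by_cases hx : (x : Matrix ι ι F) = 0
      · exact Or.inl (Subtype.ext hx)
      · obtain ⟨z, hz, hxz⟩ := hK.inv x x.2 hx
        right
        apply Subtype.ext
        have h5 : z * (x : Matrix ι ι F) = 1 := by rw [hK.comm z hz x x.2, hxz]
        have h6 : (y : Matrix ι ι F) = z * ((x : Matrix ι ι F) * y) := by
          rw [← mul_assoc, h5, one_mul]
        have h7 : (x : Matrix ι ι F) * y = 0 := congrArg Subtype.val hxy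
        rw [h6, h7, mul_zero]
        rfl
    rcases hfield _ _ h3 with h4 | h4
    · apply ha (s / 2 + c)
      have h5 : a = (s / 2) • (1 : K) + c • (1 : K) := by
        have h6 : m = c • (1 : K) := sub_eq_zero.1 h4
        rw [← h6]
        simp only [m]
        abel
      rw [add_smul]
      exact h5.symm
    · apply ha (s / 2 - c)
      have h5 : a = (s / 2) • (1 : K) - c • (1 : K) := by
        have h6 : m = - (c • (1 : K)) := eq_neg_of_add_eq_zero_left h4
        have h7 : a = m + (s / 2) • (1 : K) := by simp [m]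
        rw [h7, h6]
        abel
      rw [sub_smul]
      exact h5.symm
  · intro k hk
    obtain ⟨x, y, hxy⟩ := hb ⟨k, hk⟩
    refine ⟨x + y * (s / 2), y, ?_⟩
    have h3 : k = x • (1 : Matrix ι ι F) + y • (a : Matrix ι ι F) := congrArg Subtype.val hxy
    have h4 : (m : Matrix ι ι F) = (a : Matrix ι ι F) - (s / 2) • (1 : Matrix ι ι F) := rfl
    rw [h3, h4]
    module

/-- square roots of `μ` in `K` -/
theorem eq_or_eq_neg {K : Subalgebra F (Matrix ι ι F)}
    (hK : Cfsg.Geo.IsFieldSubalgebra 2 K) {M N : Matrix ι ι F} (hM : M ∈ K) (hN : N ∈ K)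
    (h : N * N = M * M) : N = M ∨ N = - M := by
  have h1 : (N - M) * (N + M) = 0 := by
    rw [sub_mul, mul_add, mul_add, hK.comm M hM N hN, h]
    abel
  by_cases h3 : N - M = 0
  · exact Or.inl (sub_eq_zero.1 h3)
  · right
    obtain ⟨z, hz, hxz⟩ := hK.inv (N - M) (K.sub_mem hN hM) h3
    have h5 : z * (N - M) = 1 := by rw [hK.comm z hz _ (K.sub_mem hN hM), hxz]
    have h6 : N + M = z * ((N - M) * (N + M)) := by rw [← mul_assoc, h5, one_mul]
    rw [h1, mul_zero] at h6
    exact eq_neg_of_add_eq_zero_left h6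

/-- **the normalizer of `K`** -/
theorem mem_normalizer_iff {K : Subalgebra F (Matrix ι ι F)}
    (hK : Cfsg.Geo.IsFieldSubalgebra 2 K) {M : Matrix ι ι F} (hM : M ∈ K) {μ : F}
    (hμ : M * M = μ • (1 : Matrix ι ι F)) (hspan : ∀ k ∈ K, ∃ x y : F, k = x • (1 : Matrix ι ι F) + y • M)
    {g : Matrix.GeneralLinearGroup ι F} :
    g ∈ Cfsg.Geo.subalgebraNormalizer K ↔
      (∀ v, glEquiv ι F g (Matrix.toLin' M v) = Matrix.toLin' M (glEquiv ι F g v)) ∨
      (∀ v, glEquiv ι F g (Matrix.toLin' M v) = - Matrix.toLin' M (glEquiv ι F g v)) := by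
  have hgg : ((g⁻¹ : Matrix.GeneralLinearGroup ι F) : Matrix ι ι F) * (g : Matrix ι ι F) = 1 := by
    rw [← Units.val_mul, inv_mul_cancel]; rfl
  have hgg' : (g : Matrix ι ι F) * ((g⁻¹ : Matrix.GeneralLinearGroup ι F) : Matrix ι ι F) = 1 := by
    rw [← Units.val_mul, mul_inv_cancel]; rfl
  have e1 : (∀ v, glEquiv ι F g (Matrix.toLin' M v) = Matrix.toLin' M (glEquiv ι F g v)) ↔
      (g : Matrix ι ι F) * M = M * (g : Matrix ι ι F) := by
    constructor
    · intro h
      apply Matrix.toLin'.injective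
      ext1 v
      rw [Matrix.toLin'_mul, Matrix.toLin'_mul]
      ext1
      exact h _
    · intro h v
      rw [glEquiv_apply, glEquiv_apply, Matrix.toLin'_apply, Matrix.toLin'_apply,
        Matrix.mulVec_mulVec, Matrix.mulVec_mulVec, h]
  have e2 : (∀ v, glEquiv ι F g (Matrix.toLin' M v) = - Matrix.toLin' M (glEquiv ι F g v)) ↔
      (g : Matrix ι ι F) * M = - (M * (g : Matrix ι ι F)) := by
    constructor
    · intro h
      apply Matrix.toLin'.injective
      ext1 v
      rw [map_neg, Matrix.toLin'_mul, Matrix.toLin'_mul]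
      ext1
      exact h _
    · intro h v
      rw [glEquiv_apply, glEquiv_apply, Matrix.toLin'_apply, Matrix.toLin'_apply,
        Matrix.mulVec_mulVec, Matrix.mulVec_mulVec, h, Matrix.neg_mulVec]
  rw [e1, e2]
  constructor
  · intro hg
    have h1 := (hg M).1 hM
    have h3 : ((g : Matrix ι ι F) * M * ((g⁻¹ : Matrix.GeneralLinearGroup ι F) : Matrix ι ι F)) *
        ((g : Matrix ι ι F) * M * ((g⁻¹ : Matrix.GeneralLinearGroup ι F) : Matrix ι ι F)) =
        M * M := by
      have : ((g : Matrix ι ι F) * M * ((g⁻¹ : Matrix.GeneralLinearGroup ι F) : Matrix ι ι F)) *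
        ((g : Matrix ι ι F) * M * ((g⁻¹ : Matrix.GeneralLinearGroup ι F) : Matrix ι ι F)) =
        (g : Matrix ι ι F) * (M * (((g⁻¹ : Matrix.GeneralLinearGroup ι F) : Matrix ι ι F) *
          (g : Matrix ι ι F)) * M) * ((g⁻¹ : Matrix.GeneralLinearGroup ι F) : Matrix ι ι F) := by
        noncomm_ring
      rw [this, hgg, mul_one, hμ, mul_smul_comm, mul_one, smul_mul_assoc, hgg']
    rcases eq_or_eq_neg hK hM h1 h3 with h4 | h4
    · left
      calc (g : Matrix ι ι F) * M = ((g : Matrix ι ι F) * M *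
            ((g⁻¹ : Matrix.GeneralLinearGroup ι F) : Matrix ι ι F)) * (g : Matrix ι ι F) := by
            rw [mul_assoc, hgg, mul_one]
        _ = M * (g : Matrix ι ι F) := by rw [h4]
    · right
      calc (g : Matrix ι ι F) * M = ((g : Matrix ι ι F) * M *
            ((g⁻¹ : Matrix.GeneralLinearGroup ι F) : Matrix ι ι F)) * (g : Matrix ι ι F) := by
            rw [mul_assoc, hgg, mul_one]
        _ = - (M * (g : Matrix ι ι F)) := by rw [h4, neg_mul]
  · -- `g M g⁻¹ = ± M`, hence both `g` and `g⁻¹` normalize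
    have key : ∀ ε : F, ε * ε = 1 → (g : Matrix ι ι F) * M = ε • (M * (g : Matrix ι ι F)) →
        g ∈ Cfsg.Geo.subalgebraNormalizer K := by
      intro ε hε h k
      have hconj : ∀ k' : Matrix ι ι F, ∀ x y : F, k' = x • (1 : Matrix ι ι F) + y • M →
          (g : Matrix ι ι F) * k' * ((g⁻¹ : Matrix.GeneralLinearGroup ι F) : Matrix ι ι F) =
            x • (1 : Matrix ι ι F) + (y * ε) • M := by
        rintro k' x y rfl
        rw [mul_add, mul_smul_comm, mul_smul_comm, h, mul_one, add_mul, smul_mul_assoc, hgg',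
          smul_smul, smul_mul_assoc, mul_assoc, hgg', mul_one]
      constructor
      · intro hk
        obtain ⟨x, y, hxy⟩ := hspan k hk
        rw [hconj k x y hxy]
        exact K.add_mem (K.smul_mem K.one_mem x) (K.smul_mem hM _)
      · intro hk
        obtain ⟨x, y, hxy⟩ := hspan _ hk
        have h5 := hconj (x • (1 : Matrix ι ι F) + (y * ε) • M) x (y * ε) rfl
        rw [mul_assoc y, hε, mul_one, ← hxy] at h5
        have h6 : k = x • (1 : Matrix ι ι F) + (y * ε) • M := by
          have h7 := congrArg (fun A => ((g⁻¹ : Matrix.GeneralLinearGroup ι F) : Matrix ι ι F) * A *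
            (g : Matrix ι ι F)) h5
          simp only [mul_assoc, hgg, mul_one] at h7
          simp only [← mul_assoc, hgg, one_mul] at h7
          exact h7.symm
        rw [h6]
        exact K.add_mem (K.smul_mem K.one_mem x) (K.smul_mem hM _)
    rintro (h | h)
    · exact key 1 (one_mul 1) (by rw [one_smul]; exact h)
    · exact key (-1) (by ring) (by rw [neg_one_smul]; exact h)

end Cfsg.Agent.H955
end

-- part: H955/KMat2
section
/-!
# Elements of odd order and transvections against a field subalgebra of degree two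
-/

set_option autoImplicit false

namespace Cfsg.Agent.H955

open Module Cfsg.Agent.LieClassical.OrthFinite
open scoped Matrix

universe u v w

section Lin

variable {F : Type u} [Field F] {V : Type v} [AddCommGroup V] [Module F V]

/-- an element of odd order which commutes with `J` up to sign commutes with `J`. -/
theorem comm_of_odd (h2 : (2 : F) ≠ 0) {J : V →ₗ[F] V} {T : V ≃ₗ[F] V} {r : ℕ} (hr : Odd r)
    (hT : T ^ r = 1) (h : (∀ v, T (J v) = J (T v)) ∨ (∀ v, T (J v) = - J (T v))) :
    ∀ v, T (J v) = J (T v) := by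
  rcases h with h | h
  · exact h
  · have hpow : ∀ (n : ℕ) (v : V), (T ^ n) (J v) = (-1 : F) ^ n • J ((T ^ n) v) := by
      intro n
      induction n with
      | zero => intro v; simp
      | succ n ih =>
        intro v
        rw [pow_succ, LinearEquiv.mul_apply, h, map_neg, ih, LinearEquiv.mul_apply, pow_succ]
        module
    intro v
    have h1 := hpow r v
    rw [hT, hr.neg_one_pow, neg_one_smul] at h1
    have h3 : J v = - J v := h1
    have h4 : ∀ v, J v = 0 := by
      intro v
      have h1 := hpow r v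
      rw [hT, hr.neg_one_pow, neg_one_smul] at h1
      have h3 : J v = - J v := h1
      have h5 : (2 : F) • J v = 0 := by
        rw [two_smul]
        nth_rewrite 1 [h3]
        exact neg_add_cancel _
      exact (smul_eq_zero.1 h5).resolve_left h2
    rw [h4, h4, map_zero]

/-- a map with `T - 1` of rank one does not commute with `J`, `J² = μ` a non-square. -/
theorem not_comm_of_rank_one {J : V →ₗ[F] V} {μ : F} (hJ : ∀ v, J (J v) = μ • v)
    (hns : ¬ IsSquare μ) {T : V ≃ₗ[F] V} {w : V} (hw : ∀ v, ∃ c : F, T v - v = c • w)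
    (hT1 : ∃ v, T v ≠ v) (hTJ : ∀ v, T (J v) = J (T v)) : False := by
  obtain ⟨v, hv⟩ := hT1
  obtain ⟨c, hc⟩ := hw v
  obtain ⟨c', hc'⟩ := hw (J v)
  have hcw : c • w ≠ 0 := by
    rw [← hc]
    exact sub_ne_zero.2 hv
  have hc0 : c ≠ 0 := fun h => hcw (by rw [h, zero_smul])
  have hw0 : w ≠ 0 := fun h => hcw (by rw [h, smul_zero])
  have h1 : J (c • w) = c' • w := by rw [← hc, map_sub, ← hTJ, hc']
  have h2 : J w = (c⁻¹ * c') • w := by
    rw [map_smul] at h1
    rw [mul_smul, ← h1, smul_smul, inv_mul_cancel₀ hc0, one_smul]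
  apply hns
  refine ⟨c⁻¹ * c', ?_⟩
  have h3 := hJ w
  rw [h2, map_smul, h2, smul_smul] at h3
  have h4 : ((c⁻¹ * c') * (c⁻¹ * c') - μ) • w = 0 := by rw [sub_smul, h3, sub_self]
  exact (sub_eq_zero.1 ((smul_eq_zero.1 h4).resolve_right hw0)).symm

end Lin

section Conj

variable {F : Type u} [Field F] {V : Type v} [AddCommGroup V] [Module F V]

theorem comS_conj (g T : V ≃ₗ[F] V) : comS (g⁻¹ * T * g) = (comS T).map (g⁻¹ : V ≃ₗ[F] V).toLinearMap := by
  ext x
  rw [mem_comS, Submodule.mem_map]
  constructor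
  · rintro ⟨w, rfl⟩
    refine ⟨T (g w) - g w, sub_mem_comS _ _, ?_⟩
    change g.symm (T (g w) - g w) = g.symm (T (g w)) - w
    rw [map_sub, LinearEquiv.symm_apply_apply]
  · rintro ⟨y, hy, rfl⟩
    obtain ⟨z, rfl⟩ := mem_comS.1 hy
    refine ⟨g.symm z, ?_⟩
    change g.symm (T (g (g.symm z))) - g.symm z = g.symm (T z - z)
    rw [LinearEquiv.apply_symm_apply, map_sub]

theorem finrank_comS_conj [FiniteDimensional F V] (g T : V ≃ₗ[F] V) :
    finrank F (comS (g⁻¹ * T * g)) = finrank F (comS T) := by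
  rw [comS_conj]
  exact LinearEquiv.finrank_map_eq (g⁻¹ : V ≃ₗ[F] V) _

theorem conj_pow_eq_one {G : Type*} [Group G] {g T : G} {n : ℕ} (h : T ^ n = 1) :
    (g⁻¹ * T * g) ^ n = 1 := by
  have h1 : g⁻¹ * T * g = g⁻¹ * T * g⁻¹⁻¹ := by rw [inv_inv]
  rw [h1, conj_pow, h, mul_one, mul_inv_cancel]

/-- a scalar of odd order and square one is trivial. -/
theorem comS_eq_bot_of_scalar {T : V ≃ₗ[F] V} {z : F} (h : ∀ v, T v = z • v) (hz : z * z = 1)
    {r : ℕ} (hr : Odd r) (hT : T ^ r = 1) : comS T = ⊥ := by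
  have hpow : ∀ (n : ℕ) (v : V), (T ^ n) v = z ^ n • v := by
    intro n
    induction n with
    | zero => intro v; simp
    | succ n ih => intro v; rw [pow_succ, LinearEquiv.mul_apply, ih, h, smul_smul, ← pow_succ]
  have hzr : z ^ r = z := by
    obtain ⟨k, rfl⟩ := hr
    rw [pow_succ, pow_mul, pow_two, hz, one_pow, one_mul]
  rw [Submodule.eq_bot_iff]
  intro x hx
  obtain ⟨v, rfl⟩ := mem_comS.1 hx
  have h1 := hpow r v
  rw [hT, hzr, ← h] at h1
  change v = T v at h1
  rw [← h1, sub_self]

end Conj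

end Cfsg.Agent.H955
end
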