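import Mathlib
import Cfsg.Agent.H955.QOdd
import Cfsg.Agent.H955.KForm
import Cfsg.Agent.H955.JUnitary
import Cfsg.Agent.H955.KMat2
set_option linter.all false

-- part: H955/QM
section
/-!
# Quadratic spaces with a self-adjoint `M`, `M² = μ` a non-square (odd characteristic)

`plJ M v = ⟨v, M v⟩`.
-/

set_option autoImplicit false

namespace Cfsg.Agent.H955

open Module QuadraticMap Cfsg.Agent.LieClassical.OrthCore Cfsg.Agent.LieClassical.OrthTrans
open Cfsg.Agent.LieClassical.OrthFinite
open Polynomial (X C)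

universe u v w

section Ext

variable {F : Type u} [Field F]

/-- the quadratic extension acting on `V` through `M` -/
theorem exists_ext {V : Type v} [AddCommGroup V] [Module F V] {μ : F} (hns : ¬ IsSquare μ)
    {M : V →ₗ[F] V} (hM : ∀ v, M (M v) = μ • v) :
    ∃ (L : Type u) (_ : Field L) (_ : Algebra F L) (l : L) (φ : L →ₐ[F] Module.End F V),
      finrank F L = 2 ∧ l * l = algebraMap F L μ ∧ φ l = M := by
  have hirr : Irreducible (X ^ 2 - C μ : Polynomial F) := by
    rw [Polynomial.irreducible_iff_roots_eq_zero_of_degree_le_three]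
    · rw [Multiset.eq_zero_iff_forall_notMem]
      intro a ha
      have h1 := (Polynomial.mem_roots'.1 ha).2
      apply hns
      refine ⟨a, ?_⟩
      simp [Polynomial.IsRoot] at h1
      linear_combination -h1
    · rw [Polynomial.natDegree_X_pow_sub_C]
    · rw [Polynomial.natDegree_X_pow_sub_C]
      norm_num
  have : Fact (Irreducible (X ^ 2 - C μ : Polynomial F)) := ⟨hirr⟩
  have hne : (X ^ 2 - C μ : Polynomial F) ≠ 0 := hirr.ne_zero
  let ψ : Polynomial F →ₐ[F] Module.End F V := Polynomial.aeval M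
  have hψ : ∀ a ∈ Ideal.span {(X ^ 2 - C μ : Polynomial F)}, ψ a = 0 := by
    intro a ha
    obtain ⟨b, rfl⟩ := Ideal.mem_span_singleton'.1 ha
    rw [map_mul]
    have h1 : ψ (X ^ 2 - C μ) = 0 := by
      ext v
      simp only [ψ, map_sub, map_pow, Polynomial.aeval_X, Polynomial.aeval_C, LinearMap.sub_apply,
        Module.End.pow_apply, LinearMap.zero_apply, Module.algebraMap_end_apply]
      change M (M v) - μ • v = 0
      rw [hM, sub_self]
    rw [h1, mul_zero]
  refine ⟨AdjoinRoot (X ^ 2 - C μ : Polynomial F), AdjoinRoot.instField, AdjoinRoot.instAlgebra _,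
    AdjoinRoot.root _, (show AdjoinRoot (X ^ 2 - C μ : Polynomial F) →ₐ[F] Module.End F V from
      Ideal.Quotient.liftₐ _ ψ hψ), ?_, ?_, ?_⟩
  · rw [(AdjoinRoot.powerBasis hne).finrank, AdjoinRoot.powerBasis_dim,
      Polynomial.natDegree_X_pow_sub_C]
  · have h1 := AdjoinRoot.eval₂_root (X ^ 2 - C μ : Polynomial F)
    simp only [Polynomial.eval₂_sub, Polynomial.eval₂_pow, Polynomial.eval₂_X,
      Polynomial.eval₂_C] at h1
    rw [← pow_two]
    exact sub_eq_zero.1 h1
  · change Polynomial.aeval M X = M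
    rw [Polynomial.aeval_X]

end Ext

section Line

variable {F : Type u} [Field F] {L : Type w} [Field L] [Algebra F L]
  {V : Type v} [AddCommGroup V] [Module F V] [Module L V] [IsScalarTower F L V] {μ : F} {l : L}

/-- the functional `x + y l ↦ x` -/
theorem exists_t (hns : ¬ IsSquare μ) (hl : l * l = algebraMap F L μ) :
    ∃ t : L →ₗ[F] F, ∀ x y : F, t (algebraMap F L x + y • l) = x := by
  obtain ⟨t₁, ht₁⟩ := exists_functional F L
  let t₂ : L →ₗ[F] F := t₁ ∘ₗ LinearMap.mulLeft F l
  set s := t₁ l with hs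
  have h1 : ∀ x y : F, t₁ (algebraMap F L x + y • l) = x + y * s := fun x y => by
    rw [map_add, map_smul, Algebra.algebraMap_eq_smul_one, map_smul, ht₁, smul_eq_mul, mul_one,
      smul_eq_mul]
  have h2 : ∀ x y : F, t₂ (algebraMap F L x + y • l) = x * s + y * μ := fun x y => by
    change t₁ (l * (algebraMap F L x + y • l)) = _
    have : l * (algebraMap F L x + y • l) = algebraMap F L (y * μ) + x • l := by
      rw [mul_add, mul_smul_comm, hl, Algebra.smul_def, map_mul, Algebra.smul_def]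
      ring
    rw [this, h1]
    ring
  have hne : μ - s ^ 2 ≠ 0 := fun h => hns ⟨s, by linear_combination h⟩
  refine ⟨(μ / (μ - s ^ 2)) • t₁ - (s / (μ - s ^ 2)) • t₂, fun x y => ?_⟩
  rw [LinearMap.sub_apply, LinearMap.smul_apply, LinearMap.smul_apply, h1, h2, smul_eq_mul,
    smul_eq_mul]
  field_simp
  ring

theorem two_ne_zero_L (h2 : (2 : F) ≠ 0) : (2 : L) ≠ 0 := by
  intro h
  apply h2
  apply (algebraMap F L).injective
  rw [map_ofNat, map_zero, h]

/-- the `L`-quadratic form -/
theorem exists_qform [FiniteDimensional F L] (h2 : (2 : F) ≠ 0) (Q : QuadraticForm F V)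
    (hsa : ∀ (a : L) (u v : V), polar Q (a • u) v = polar Q u (a • v)) {t : L →ₗ[F] F}
    (ht : t ≠ 0) :
    ∃ Qg : QuadraticForm L V, (∀ v, Q v = t (Qg v)) ∧ ∀ u v, polar Q u v = t (polar Qg u v) := by
  obtain ⟨g, hg⟩ := exists_gform (polarBilin Q) hsa ht
  have hgs := gform_symm ht hg (fun u v => polar_comm Q u v)
  have h2L : (2 : L) ≠ 0 := two_ne_zero_L h2
  let Qg : QuadraticForm L V := (2 : L)⁻¹ • LinearMap.BilinMap.toQuadraticMap g
  have hQg : ∀ v, Qg v = (2 : L)⁻¹ * g v v := fun v => rfl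
  have hpol : ∀ u v, polar Qg u v = g u v := by
    intro u v
    rw [polar, hQg, hQg, hQg, map_add, map_add, LinearMap.add_apply, LinearMap.add_apply,
      hgs v u]
    field_simp
    ring
  refine ⟨Qg, fun v => ?_, fun u v => by rw [hpol]; exact hg u v⟩
  have h3 : polar Q v v = t (polar Qg v v) := by rw [hpol]; exact hg v v
  rw [polar_self', polar_self'] at h3
  have h4 : t ((2 : L) * Qg v) = 2 * t (Qg v) := by
    have : (2 : L) * Qg v = (2 : F) • Qg v := by
      rw [Algebra.smul_def, map_ofNat]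
    rw [this, map_smul, smul_eq_mul]
  rw [h4] at h3
  exact mul_left_cancel₀ h2 h3

/-- elements of `F` are squares in the quadratic extension. -/
theorem isSquare_algebraMap [Finite F] (h2 : (2 : F) ≠ 0) (hns : ¬ IsSquare μ)
    (hl : l * l = algebraMap F L μ) (c : F) : IsSquare (algebraMap F L c) := by
  have := Fintype.ofFinite F
  have hchar : ringChar F ≠ 2 := by
    intro h
    apply h2
    have := ringChar.Nat.cast_ringChar (R := F)
    rw [h] at this
    exact_mod_cast this
  by_cases hc : IsSquare c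
  · obtain ⟨s, rfl⟩ := hc
    exact ⟨algebraMap F L s, map_mul _ _ _⟩
  · have hc0 : c ≠ 0 := by
      rintro rfl
      exact hc ⟨0, by simp⟩
    have hμ0 : μ ≠ 0 := by
      rintro rfl
      exact hns ⟨0, by simp⟩
    have e1 := (FiniteField.pow_dichotomy hchar hc0).resolve_left
      (fun h => hc ((FiniteField.isSquare_iff hchar hc0).2 h))
    have e2 := (FiniteField.pow_dichotomy hchar hμ0).resolve_left
      (fun h => hns ((FiniteField.isSquare_iff hchar hμ0).2 h))
    obtain ⟨s, hs⟩ := (FiniteField.isSquare_iff hchar (mul_ne_zero hc0 hμ0)).2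
      (by rw [mul_pow, e1, e2]; ring)
    have hl0 : l ≠ 0 := by
      rintro rfl
      apply hμ0
      apply (algebraMap F L).injective
      rw [← hl, map_zero, mul_zero]
    refine ⟨algebraMap F L s / l, ?_⟩
    have h3 : algebraMap F L c * (l * l) = algebraMap F L s * algebraMap F L s := by
      rw [hl, ← map_mul, hs, map_mul]
    field_simp
    rw [pow_two, pow_two]
    exact h3

/-- **the line `L v`, `Qg v = z ≠ 0`** -/
theorem line_props [Finite F] [FiniteDimensional F V] (h2 : (2 : F) ≠ 0) (hns : ¬ IsSquare μ)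
    (hL : finrank F L = 2)
    (hl : l * l = algebraMap F L μ) {t : L →ₗ[F] F}
    (ht : ∀ x y : F, t (algebraMap F L x + y • l) = x) {Q : QuadraticForm F V}
    {Qg : QuadraticForm L V} (hQ : ∀ v, Q v = t (Qg v))
    (hpol : ∀ u v, polar Q u v = t (polar Qg u v)) {M : V →ₗ[F] V} (hM : ∀ v, M v = l • v)
    {v : V} (hv : Qg v ≠ 0) :
    Nondeg (res Q (plJ M v)) ∧ finrank F (plJ M v) = 2 ∧
      (IsPlus (res Q (plJ M v)) ↔ IsSquare (Qg v / l)) := by
  have hμ0 : μ ≠ 0 := by
    rintro rfl
    exact hns ⟨0, by simp⟩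
  have hl0 : l ≠ 0 := by
    rintro rfl
    apply hμ0
    apply (algebraMap F L).injective
    rw [← hl, map_zero, mul_zero]
  have hv0 : v ≠ 0 := by
    rintro rfl
    exact hv (QuadraticMap.map_zero Qg)
  have ht0 : t ≠ 0 := by
    rintro rfl
    have := ht 1 0
    simp at this
  have h2L : (2 : L) ≠ 0 := two_ne_zero_L h2
  have hfL : FiniteDimensional F L := Module.finite_of_finrank_pos (by omega)
  -- the elements of the plane
  let f : L →ₗ[F] V := (LinearMap.toSpanSingleton L V v).restrictScalars F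
  have hf : ∀ a, f a = a • v := fun _ => rfl
  have hfi : Function.Injective f := by
    intro a b hab
    have h3 : (a - b) • v = 0 := by rw [sub_smul, ← hf, ← hf, hab, sub_self]
    exact sub_eq_zero.1 ((smul_eq_zero.1 h3).resolve_right hv0)
  have hrange : LinearMap.range f = plJ M v := by
    apply le_antisymm
    · rintro _ ⟨a, rfl⟩
      obtain ⟨x, y, rfl⟩ := exists_coord hns hL hl a
      rw [hf, add_smul, algebraMap_smul, smul_assoc, ← hM]
      exact Submodule.mem_span_pair.2 ⟨x, y, rfl⟩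
    · rw [plJ, Submodule.span_le]
      rintro x (rfl | rfl)
      · exact ⟨1, by rw [hf, one_smul]⟩
      · exact ⟨l, by rw [hf, hM]⟩
  -- the form on `L`
  let R : QuadraticForm F L := Q.comp f
  have hR : ∀ a, R a = t (a * a * Qg v) := by
    intro a
    change Q (f a) = _
    rw [hQ, hf, QuadraticMap.map_smul, smul_eq_mul]
  have hRp : ∀ a b, polar R a b = t (2 * (a * b * Qg v)) := by
    intro a b
    rw [polar, hR, hR, hR, ← map_sub, ← map_sub]
    congr 1
    ring
  have hRn : Nondeg R := by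
    intro a ha
    by_contra ha0
    apply ht0
    ext c
    have h3 := ha (c / (2 * (a * Qg v)))
    rw [hRp] at h3
    have h4 : 2 * (a * (c / (2 * (a * Qg v))) * Qg v) = c := by
      field_simp
    rw [h4] at h3
    rw [h3, LinearMap.zero_apply]
  obtain ⟨h3, h4, h5⟩ := range_props hRn hfi (Q := Q) (fun x => rfl)
  rw [hrange] at h3 h4 h5
  refine ⟨h3, by rw [h4, hL], ?_⟩
  rw [h5]
  constructor
  · rintro ⟨U, hU, hUd⟩
    obtain ⟨a, haU, ha0⟩ := exists_ne_zero_of_finrank_pos (U := U) (by omega)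
    have h6 := hU a haU
    rw [hR] at h6
    obtain ⟨x, y, hxy⟩ := exists_coord hns hL hl (a * a * Qg v)
    rw [hxy, ht] at h6
    rw [h6, map_zero, zero_add] at hxy
    obtain ⟨s, hs⟩ := isSquare_algebraMap h2 hns hl y
    refine ⟨s / a, ?_⟩
    have h7 : a * a * Qg v = s * s * l := by rw [hxy, Algebra.smul_def, hs]
    field_simp
    linear_combination h7
  · rintro ⟨s, hs⟩
    have hs0 : s ≠ 0 := by
      rintro rfl
      rw [mul_zero, div_eq_zero_iff] at hs
      exact hs.elim hv hl0
    have h6 : Qg v = s * s * l := by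
      rw [← hs, div_mul_cancel₀ _ hl0]
    refine ⟨Submodule.span F {s⁻¹}, ?_, ?_⟩
    · intro u hu
      obtain ⟨c, rfl⟩ := Submodule.mem_span_singleton.1 hu
      rw [QuadraticMap.map_smul, hR, h6]
      have h7 : s⁻¹ * s⁻¹ * (s * s * l) = algebraMap F L 0 + (1 : F) • l := by
        rw [map_zero, zero_add, one_smul]
        field_simp
      rw [h7, ht, smul_zero]
    · rw [finrank_span_singleton (inv_ne_zero hs0), hL]

end Line

section QM

variable {F : Type u} [Field F] {V : Type v} [AddCommGroup V] [Module F V]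

/-- nondegenerate `Q` with a self-adjoint `M`, `M² = μ` -/
structure QM (Q : QuadraticForm F V) (M : V →ₗ[F] V) (μ : F) : Prop where
  nd : Nondeg Q
  sq : ∀ v, M (M v) = μ • v
  sa : ∀ u v, polar Q (M u) v = polar Q u (M v)

variable {Q : QuadraticForm F V} {M : V →ₗ[F] V} {μ : F}

/-- restriction to an `M`-invariant nondegenerate subspace -/
theorem QM.res (h : QM Q M μ) {W : Submodule F V} (hM : ∀ w ∈ W, M w ∈ W)
    (hW : Nondeg (H955.res Q W)) : QM (H955.res Q W) (M.restrict hM) μ :=
  ⟨hW, fun v => Subtype.ext (h.sq v), fun u v => h.sa u v⟩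

theorem QM.perp_inv (h : QM Q M μ) {W : Submodule F V} (hM : ∀ w ∈ W, M w ∈ W) :
    ∀ w ∈ perp Q W, M w ∈ perp Q W := by
  intro v hv w hw
  rw [← h.sa]
  exact hv (M w) (hM w hw)

theorem QM.plJ_inv (h : QM Q M μ) (v : V) : ∀ w ∈ plJ M v, M w ∈ plJ M v := by
  intro w hw
  obtain ⟨a, b, rfl⟩ := Submodule.mem_span_pair.1 hw
  rw [map_add, map_smul, map_smul, h.sq]
  refine Submodule.mem_span_pair.2 ⟨b * μ, a, ?_⟩
  rw [mul_smul, add_comm]

/-- **planes `⟨v, M v⟩` of both types** -/
theorem QM.exists_plane [Finite F] [FiniteDimensional F V] (h : QM Q M μ) (h2 : (2 : F) ≠ 0)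
    (hns : ¬ IsSquare μ) (hd : 4 ≤ finrank F V) (δ : Prop) :
    ∃ v, Nondeg (H955.res Q (plJ M v)) ∧ finrank F (plJ M v) = 2 ∧
      (IsPlus (H955.res Q (plJ M v)) ↔ δ) := by
  obtain ⟨L, _, _, l, φ, hL, hl, hφ⟩ := exists_ext hns h.sq
  let _ : Module L V := Module.compHom V (φ : L →+* Module.End F V)
  have hsm : ∀ (a : L) (v : V), a • v = φ a v := fun _ _ => rfl
  have : IsScalarTower F L V := ⟨fun c a v => by rw [hsm, hsm, map_smul]; rfl⟩
  have hlM : ∀ v, M v = l • v := fun v => by rw [hsm, hφ]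
  have hfL : FiniteDimensional F L := Module.finite_of_finrank_pos (by omega)
  have : Finite L := Module.finite_of_finite F
  have : FiniteDimensional L V := finiteDimensional_L (F := F)
  obtain ⟨t, ht⟩ := exists_t (F := F) hns hl
  have ht0 : t ≠ 0 := by
    rintro rfl
    have := ht 1 0
    simp at this
  have hsa : ∀ (a : L) (u v : V), polar Q (a • u) v = polar Q u (a • v) := by
    intro a u v
    obtain ⟨x, y, rfl⟩ := exists_coord hns hL hl a
    simp only [add_smul, algebraMap_smul, smul_assoc, ← hlM, polar_add_left, polar_add_right,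
      polar_smul_left, polar_smul_right, h.sa]
  obtain ⟨Qg, hQ, hpol⟩ := exists_qform h2 Q hsa ht0
  have hQg : Nondeg Qg := fun x hx => h.nd x fun y => by rw [hpol, hx, map_zero]
  have hdL : 2 ≤ finrank L V := by
    have := Module.finrank_mul_finrank F L V
    rw [hL] at this
    omega
  have hμ0 : μ ≠ 0 := by
    rintro rfl
    exact hns ⟨0, by simp⟩
  have hl0 : l ≠ 0 := by
    rintro rfl
    apply hμ0
    apply (algebraMap F L).injective
    rw [← hl, map_zero, mul_zero]
  by_cases hδ : δ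
  · obtain ⟨v, hv⟩ := exists_value (two_ne_zero_L h2) hQg hdL l
    have hv' : Qg v ≠ 0 := by rw [hv]; exact hl0
    obtain ⟨h3, h4, h5⟩ := line_props h2 hns hL hl ht hQ hpol hlM hv'
    refine ⟨v, h3, h4, ?_⟩
    rw [h5, hv, div_self hl0]
    exact iff_of_true ⟨1, by ring⟩ hδ
  · obtain ⟨ν, hν⟩ := FiniteField.exists_nonsquare (F := L) (by
      intro hch
      have h6 := ringChar.Nat.cast_ringChar (R := L)
      rw [hch] at h6
      exact two_ne_zero_L (L := L) h2 (by exact_mod_cast h6))
    have hν0 : ν ≠ 0 := by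
      rintro rfl
      exact hν ⟨0, by simp⟩
    obtain ⟨v, hv⟩ := exists_value (two_ne_zero_L h2) hQg hdL (ν * l)
    have hv' : Qg v ≠ 0 := by rw [hv]; exact mul_ne_zero hν0 hl0
    obtain ⟨h3, h4, h5⟩ := line_props h2 hns hL hl ht hQ hpol hlM hv'
    refine ⟨v, h3, h4, ?_⟩
    rw [h5, hv, mul_div_cancel_right₀ _ hl0]
    exact iff_of_false hν hδ

/-- **`M`-invariant nondegenerate subspaces of every even dimension and both types** -/
theorem QM.exists_sub [Finite F] (h2 : (2 : F) ≠ 0) (hns : ¬ IsSquare μ) (k : ℕ) :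
    ∀ {V : Type v} [AddCommGroup V] [Module F V] [FiniteDimensional F V] {Q : QuadraticForm F V}
    {M : V →ₗ[F] V}, QM Q M μ → 0 < k → 2 * k < finrank F V → Even (finrank F V) → ∀ δ : Prop,
    ∃ W : Submodule F V, (∀ w ∈ W, M w ∈ W) ∧ Nondeg (H955.res Q W) ∧ finrank F W = 2 * k ∧
      (IsPlus (H955.res Q W) ↔ δ) := by
  induction k with
  | zero =>
    intro V _ _ _ Q M _ h0
    omega
  | succ k ih =>
    intro V _ _ _ Q M h _ hd hev δ
    rcases Nat.eq_zero_or_pos k with rfl | hk
    · obtain ⟨v, hv1, hv2, hv3⟩ := h.exists_plane h2 hns (by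
        obtain ⟨m, hm⟩ := hev
        omega) δ
      exact ⟨plJ M v, h.plJ_inv v, hv1, by omega, hv3⟩
    · obtain ⟨v, hv1, hv2, hv3⟩ := h.exists_plane h2 hns (by omega) True
      have hpn := nondeg_perp h.nd hv1
      have hpd := finrank_add_perp h.nd (plJ M v)
      have hpi := h.perp_inv (h.plJ_inv v)
      obtain ⟨W, hWi, hWn, hWd, hWP⟩ := ih (h.res hpi hpn) hk (by omega) (by
        rw [← hpd, hv2] at hev
        exact (Nat.even_add.1 hev).1 even_two) δ
      have hWn' : Nondeg (H955.res Q (W.map (perp Q (plJ M v)).subtype)) ∧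
          finrank F (W.map (perp Q (plJ M v)).subtype) = finrank F W ∧
          (IsPlus (H955.res Q (W.map (perp Q (plJ M v)).subtype)) ↔
            IsPlus (H955.res (H955.res Q (perp Q (plJ M v))) W)) := by
        let e := Submodule.equivMapOfInjective (perp Q (plJ M v)).subtype
          (perp Q (plJ M v)).injective_subtype W
        exact ⟨nondeg_of_equiv e (fun x => rfl) hWn, e.finrank_eq.symm,
          (isPlus_iff_of_equiv e (fun x => rfl)).symm⟩
      have hle : W.map (perp Q (plJ M v)).subtype ≤ perp Q (plJ M v) :=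
        Submodule.map_subtype_le _ _
      obtain ⟨h3, h4, h5⟩ := sup_props hv1 hWn'.1 hle
      refine ⟨plJ M v ⊔ W.map (perp Q (plJ M v)).subtype, ?_, h3, by omega, ?_⟩
      · intro w hw
        obtain ⟨a, ha, b, hb, rfl⟩ := Submodule.mem_sup.1 hw
        rw [map_add]
        obtain ⟨b', hb', rfl⟩ := hb
        exact Submodule.mem_sup.2 ⟨M a, h.plJ_inv v a ha, M b',
          ⟨M.restrict hpi b', hWi b' hb', rfl⟩, rfl⟩
      · rw [h5 (by rw [hv2]; exact even_two) (by rw [hWn'.2.1, hWd]; exact even_two_mul k),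
          hWn'.2.2, hWP, hv3, true_iff]

end QM

end Cfsg.Agent.H955
end

-- part: H955/QM2
section
/-!
# Elements of order two modulo scalars of `Ω(V)` and a self-adjoint `M`, `M² = μ` a non-square
-/

set_option autoImplicit false

namespace Cfsg.Agent.H955

open Module QuadraticMap Cfsg.Agent.LieClassical.OrthCore Cfsg.Agent.LieClassical.OrthTrans
open Cfsg.Agent.LieClassical.OrthFinite

universe u v w

section Basic

variable {F : Type u} [Field F] {V : Type v} [AddCommGroup V] [Module F V]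
  [FiniteDimensional F V] {Q : QuadraticForm F V} {M : V →ₗ[F] V} {μ : F}

omit [FiniteDimensional F V] in
theorem neg_on_comS' {T : V ≃ₗ[F] V} (hT : ∀ v, T (T v) = v) {v : V} (hv : v ∈ comS T) :
    T v = - v := by
  obtain ⟨w, rfl⟩ := mem_comS.1 hv
  rw [map_sub, hT]
  abel

/-- the determinant of an involution -/
theorem even_comS (h2 : (2 : F) ≠ 0) {T : V ≃ₗ[F] V} (hT : ∀ v, T (T v) = v)
    (hdet : LinearEquiv.det T = 1) : Even (finrank F (comS T)) := by
  have hT2 : T ^ 2 = 1 := by
    ext v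
    rw [pow_two, LinearEquiv.mul_apply, hT]
    rfl
  have hc : IsCompl (fixS T) (comS T) := isCompl_fixS_comS (r := 2) (by exact_mod_cast h2) hT2
  let e := Submodule.prodEquivOfIsCompl _ _ hc
  have he : (T : V →ₗ[F] V) = (e : (fixS T × comS T) →ₗ[F] V) ∘ₗ
      ((LinearMap.id : fixS T →ₗ[F] fixS T).prodMap
        ((-1 : F) • (LinearMap.id : comS T →ₗ[F] comS T))) ∘ₗ
      (e.symm : V →ₗ[F] (fixS T × comS T)) := by
    ext v
    obtain ⟨p, rfl⟩ := e.surjective v
    have h1 : e p = (p.1 : V) + (p.2 : V) := rfl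
    simp only [LinearMap.comp_apply, LinearEquiv.coe_coe, LinearEquiv.symm_apply_apply,
      LinearMap.prodMap_apply]
    rw [h1, map_add, mem_fixS.1 p.1.2, neg_on_comS' hT p.2.2]
    have h3 : ∀ x : fixS T × comS T, e x = (x.1 : V) + (x.2 : V) := fun _ => rfl
    rw [h3]
    simp
  have hd : LinearMap.det (T : V →ₗ[F] V) = (-1) ^ finrank F (comS T) := by
    rw [he, LinearMap.det_conj, LinearMap.det_prodMap, LinearMap.det_id, one_mul,
      LinearMap.det_smul, LinearMap.det_id, mul_one]
  have h1 : LinearMap.det (T : V →ₗ[F] V) = 1 := by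
    rw [← LinearEquiv.coe_det, hdet, Units.val_one]
  by_contra hodd
  rw [Nat.not_even_iff_odd] at hodd
  rw [h1, hodd.neg_one_pow] at hd
  apply h2
  linear_combination hd

omit [FiniteDimensional F V] in
/-- the plane lemma -/
theorem QM.plane_anti (h : QM Q M μ) (h2 : (2 : F) ≠ 0) (hns : ¬ IsSquare μ)
    (hd : finrank F V = 2) {y : V ≃ₗ[F] V} (hy : y ∈ O Q) (hyy : ∀ v, y (y v) = - v) :
    ∀ v, y (M v) = - M (y v) := by
  obtain ⟨w, hw⟩ := exists_nonsingular h.nd (by omega)
  set c := Q w with hc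
  have hyw : polar Q w (y w) = 0 := by
    have h3 := polar_map hy (y w) w
    rw [hyy, polar_neg_left, polar_comm Q (y w) w] at h3
    have h4 : 2 * polar Q w (y w) = 0 := by linear_combination -h3
    exact (mul_eq_zero.1 h4).resolve_left h2
  have hww : polar Q w w = 2 * c := polar_self' w
  have hyyw : polar Q (y w) (y w) = 2 * c := by rw [polar_map hy, hww]
  have hyw' : polar Q (y w) w = 0 := by rw [polar_comm, hyw]
  have h2c : 2 * c ≠ 0 := mul_ne_zero h2 hw
  have hli : LinearIndependent F ![w, y w] := by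
    rw [LinearIndependent.pair_iff]
    intro a b hab
    have e1 : polar Q (a • w + b • y w) w = 0 := by rw [hab, polar_zero_left]
    have e2 : polar Q (a • w + b • y w) (y w) = 0 := by rw [hab, polar_zero_left]
    rw [polar_add_left, polar_smul_left, polar_smul_left, hww, hyw', smul_eq_mul, smul_eq_mul,
      mul_zero, add_zero] at e1
    rw [polar_add_left, polar_smul_left, polar_smul_left, hyw, hyyw, smul_eq_mul, smul_eq_mul,
      mul_zero, zero_add] at e2
    exact ⟨(mul_eq_zero.1 e1).resolve_right h2c, (mul_eq_zero.1 e2).resolve_right h2c⟩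
  let b := basisOfLinearIndependentOfCardEqFinrank hli (by simp [hd])
  have hspan : ∀ v, ∃ α β : F, v = α • w + β • y w := by
    intro v
    refine ⟨b.repr v 0, b.repr v 1, ?_⟩
    have h1 := b.sum_repr v
    rw [Fin.sum_univ_two] at h1
    simp only [b, coe_basisOfLinearIndependentOfCardEqFinrank, Matrix.cons_val_zero,
      Matrix.cons_val_one] at h1
    exact h1.symm
  obtain ⟨m, n, hMw⟩ := hspan (M w)
  obtain ⟨s, t, hMyw⟩ := hspan (M (y w))
  have hsn : s = n := by
    have h3 := h.sa w (y w)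
    rw [hMw, hMyw, polar_add_left, polar_add_right, polar_smul_left, polar_smul_left,
      polar_smul_right, polar_smul_right, hyw, hyyw, hww] at h3
    simp only [smul_eq_mul, mul_zero, zero_add, add_zero] at h3
    exact (mul_right_cancel₀ h2c h3).symm
  have hMM := h.sq w
  rw [hMw, map_add, map_smul, map_smul, hMyw, hMw, hsn] at hMM
  have h5 : (m * m + n * n - μ) • w + (n * (m + t)) • y w = 0 := by
    have : (m * m + n * n - μ) • w + (n * (m + t)) • y w =
        (m • (m • w + n • y w) + n • (n • w + t • y w)) - μ • w := by module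
    rw [this, hMM, sub_self]
  obtain ⟨h6, h7⟩ := LinearIndependent.pair_iff.1 hli _ _ h5
  have hn0 : n ≠ 0 := by
    rintro rfl
    exact hns ⟨m, by linear_combination -h6⟩
  have ht : t = -m := by
    have := (mul_eq_zero.1 h7).resolve_left hn0
    linear_combination this
  intro v
  obtain ⟨α, β, rfl⟩ := hspan v
  simp only [map_add, map_smul, hMw, hMyw, hyy, smul_neg, map_neg, hsn, ht]
  module

/-- isometries with square `-1` are conjugate in `O(V)`. -/
theorem exists_conj_neg_O [Finite F] (h2 : (2 : F) ≠ 0) (hQ : Nondeg Q) {x y : V ≃ₗ[F] V}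
    (hx : x ∈ O Q) (hy : y ∈ O Q) (hxx : ∀ v, x (x v) = - v) (hyy : ∀ v, y (y v) = - v) :
    ∃ g ∈ O Q, g * x * g⁻¹ = y := by
  have key : ∀ z ∈ O Q, (∀ v, z (z v) = - v) →
      JS ((polarBilin Q) ∘ₗ (z : V →ₗ[F] V)) (z : V →ₗ[F] V) (-1) := by
    intro z hz hzz
    have e0 : ∀ u v, ((polarBilin Q) ∘ₗ (z : V →ₗ[F] V)) u v = polar Q (z u) v := fun _ _ => rfl
    refine ⟨⟨fun v => ?_, fun u hu => ?_⟩, fun v => ?_, fun u v => ?_⟩
    · rw [e0]
      have h3 := polar_map hz (z v) v
      rw [hzz, polar_neg_left, polar_comm Q v (z v)] at h3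
      have h4 : 2 * polar Q (z v) v = 0 := by linear_combination -h3
      exact (mul_eq_zero.1 h4).resolve_left h2
    · have h3 : z u = 0 := hQ _ fun y => by rw [← e0]; exact hu y
      exact z.map_eq_zero_iff.1 h3
    · rw [neg_one_smul]
      exact hzz v
    · rw [e0, e0]
      change polar Q (z (z u)) v = - polar Q (z u) (z v)
      rw [hzz, polar_neg_left, polar_map hz]
  obtain ⟨g, hg, hgx⟩ := (key x hx hxx).exists_equiv (key y hy hyy) h2 (neg_ne_zero.2 one_ne_zero)
    rfl
  have hgx' : ∀ v, g (x v) = y (g v) := hgx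
  have hg' : ∀ u v, polar Q (y (g u)) (g v) = polar Q (x u) v := hg
  have hpol : ∀ u v, polar Q (g u) (g v) = polar Q u v := by
    intro u v
    have h3 := hg' (- x u) v
    rw [map_neg, map_neg, hgx', hyy, map_neg, hxx, neg_neg, neg_neg] at h3
    exact h3
  refine ⟨g, fun v => ?_, ?_⟩
  · have h3 := hpol v v
    rw [polar_self', polar_self'] at h3
    exact mul_left_cancel₀ h2 h3
  · ext v
    change g (x (g.symm v)) = y v
    rw [hgx', LinearEquiv.apply_symm_apply]

end Basic

section Two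

variable {F : Type u} [Field F] [Finite F]

/-- **involutions in `Ω(V)`** -/
theorem QM.invol {V : Type v} [AddCommGroup V] [Module F V]
    [FiniteDimensional F V] {Q : QuadraticForm F V} {M : V →ₗ[F] V} {μ : F} (h : QM Q M μ)
    (h2 : (2 : F) ≠ 0) (hns : ¬ IsSquare μ) (hG : Good Q) (hev : Even (finrank F V))
    {x : V ≃ₗ[F] V} (hx : x ∈ E Q) (hxx : ∀ v, x (x v) = v) (h1 : ∃ v, x v ≠ v)
    (h1' : ∃ v, x v ≠ - v) :
    ∃ g ∈ E Q, ∀ v, (g * x * g⁻¹) (M v) = M ((g * x * g⁻¹) v) := by
  have hxO := E_le_O hx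
  have hx2 : x ^ 2 = 1 := by
    ext v
    rw [pow_two, LinearEquiv.mul_apply, hxx]
    rfl
  obtain ⟨k, hk⟩ := even_comS h2 hxx (det_of_mem_E hG hx)
  have hWn := nondeg_comS h.nd hxO (r := 2) (by exact_mod_cast h2) hx2
  have hpos : 0 < finrank F (comS x) := by
    rw [pos_iff_ne_zero]
    intro h0
    rw [Submodule.finrank_eq_zero] at h0
    obtain ⟨v, hv⟩ := h1
    apply hv
    have h3 := sub_mem_comS x v
    rw [h0, Submodule.mem_bot, sub_eq_zero] at h3
    exact h3
  have hlt : finrank F (comS x) < finrank F V := by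
    apply lt_of_le_of_ne (Submodule.finrank_le _)
    intro h0
    have h3 : comS x = ⊤ := Submodule.eq_top_of_finrank_eq h0
    obtain ⟨v, hv⟩ := h1'
    exact hv (neg_on_comS' hxx (by rw [h3]; trivial))
  obtain ⟨W, hWi, hWn', hWd, hWP⟩ := QM.exists_sub h2 hns k h (by omega) (by omega) hev
    (IsPlus (H955.res Q (comS x)))
  obtain ⟨g, hg, hgW⟩ := exists_move h.nd hev hWn hWn' ⟨k, hk⟩ (by omega) hWP.symm
  obtain ⟨r, hr, w, hw, hgrw⟩ := exists_refl_mul hG (P := W) (fun c => by
    obtain ⟨⟨v, hv⟩, hvc⟩ := exists_value h2 hWn' (by omega) c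
    exact ⟨v, hv, hvc⟩) hg
  refine ⟨w, hw, ?_⟩
  have hin : ∀ v ∈ W, g.symm v ∈ comS x := by
    intro v hv
    rw [← hgW] at hv
    obtain ⟨u, hu, rfl⟩ := hv
    change g.symm (g u) ∈ comS x
    rw [LinearEquiv.symm_apply_apply]
    exact hu
  have horth : ∀ v ∈ perp Q W, g.symm v ∈ fixS x := by
    intro v hv
    rw [← perp_comS h.nd hxO]
    intro u hu
    have h3 := polar_map hg u (g.symm v)
    rw [LinearEquiv.apply_symm_apply] at h3
    rw [← h3]
    refine hv _ ?_
    rw [← hgW]
    exact ⟨u, hu, rfl⟩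
  have hconj : ∀ v, (w * x * w⁻¹) v = r⁻¹ (g (x (g.symm (r v)))) := by
    intro v
    have e1 : w = r⁻¹ * g := by rw [hgrw]; group
    rw [e1]
    change r⁻¹ (g (x ((r⁻¹ * g)⁻¹ v))) = _
    have e2 : (r⁻¹ * g)⁻¹ = g⁻¹ * r := by group
    rw [e2]
    rfl
  obtain ⟨hst1, hst2⟩ := reflGrp_stab hr
  have h5 : ∀ v ∈ W, (w * x * w⁻¹) v = - v := by
    intro v hv
    rw [hconj, neg_on_comS' hxx (hin _ (hst1 v hv)), map_neg, LinearEquiv.apply_symm_apply, map_neg]
    change - (r.symm (r v)) = - v
    rw [LinearEquiv.symm_apply_apply]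
  have h6 : ∀ v ∈ perp Q W, (w * x * w⁻¹) v = v := by
    intro v hv
    rw [hconj, reflGrp_fix hr v hv, mem_fixS.1 (horth v hv), LinearEquiv.apply_symm_apply]
    exact reflGrp_fix (inv_mem hr) v hv
  intro v
  obtain ⟨a, b, rfl⟩ := exists_add_perp hWn' v
  rw [map_add M, map_add, map_add, h5 a a.2, h6 b b.2, h5 _ (hWi a a.2),
    h6 _ (h.perp_inv hWi b b.2), map_add, map_neg]

/-- an isometry anticommuting with `M` with square `-1`, and a plane invariant under both -/
theorem QM.exists_anti (h2 : (2 : F) ≠ 0) {μ : F} (hns : ¬ IsSquare μ) (n : ℕ) :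
    ∀ {V : Type v} [AddCommGroup V] [Module F V] [FiniteDimensional F V] {Q : QuadraticForm F V}
    {M : V →ₗ[F] V}, QM Q M μ → finrank F V = 2 * (n + 1) →
    (∃ x ∈ O Q, ∀ v, x (x v) = - v) →
    ∃ y ∈ O Q, (∀ v, y (y v) = - v) ∧ (∀ v, y (M v) = - M (y v)) ∧
      ∃ P : Submodule F V, Nondeg (H955.res Q P) ∧ finrank F P = 2 ∧ (∀ v ∈ P, M v ∈ P) ∧
        ∀ v ∈ P, y v ∈ P := by
  induction n with
  | zero =>
    intro V _ _ _ Q M h hd hx
    obtain ⟨x, hx, hxx⟩ := hx
    refine ⟨x, hx, hxx, h.plane_anti h2 hns (by omega) hx hxx, ⊤, ?_, ?_, fun _ _ => trivial,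
      fun _ _ => trivial⟩
    · rw [nondeg_res_iff]
      exact fun v _ hv => h.nd v fun y => hv y trivial
    · rw [finrank_top]; omega
  | succ n ih =>
    intro V _ _ _ Q M h hd hx
    obtain ⟨x, hx, hxx⟩ := hx
    have hev : Even (finrank F V) := by rw [hd]; exact even_two_mul _
    obtain ⟨w, hw⟩ := exists_value h2 h.nd (by omega) 1
    -- the `x`-invariant plane
    let P' : Submodule F V := Submodule.span F {w, x w}
    have hxw : polar Q w (x w) = 0 := by
      have h3 := polar_map hx (x w) w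
      rw [hxx, polar_neg_left, polar_comm Q (x w) w] at h3
      have h4 : 2 * polar Q w (x w) = 0 := by linear_combination -h3
      exact (mul_eq_zero.1 h4).resolve_left h2
    have hww : polar Q w w = 2 := by rw [polar_self', hw, mul_one]
    have hxxw : polar Q (x w) (x w) = 2 := by rw [polar_map hx, hww]
    have hxw' : polar Q (x w) w = 0 := by rw [polar_comm, hxw]
    have hwP : w ∈ P' := Submodule.subset_span (by simp)
    have hxwP : x w ∈ P' := Submodule.subset_span (by simp)
    have hli : LinearIndependent F ![w, x w] := by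
      rw [LinearIndependent.pair_iff]
      intro a b hab
      have e1 : polar Q (a • w + b • x w) w = 0 := by rw [hab, polar_zero_left]
      have e2 : polar Q (a • w + b • x w) (x w) = 0 := by rw [hab, polar_zero_left]
      rw [polar_add_left, polar_smul_left, polar_smul_left, hww, hxw', smul_eq_mul, smul_eq_mul,
        mul_zero, add_zero] at e1
      rw [polar_add_left, polar_smul_left, polar_smul_left, hxw, hxxw, smul_eq_mul, smul_eq_mul,
        mul_zero, zero_add] at e2
      exact ⟨(mul_eq_zero.1 e1).resolve_right h2, (mul_eq_zero.1 e2).resolve_right h2⟩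
    have hP'd : finrank F P' = 2 := by
      have h1 := finrank_span_eq_card hli
      have h3 : Set.range ![w, x w] = {w, x w} := by
        simp [Matrix.range_cons, Matrix.range_empty, Set.pair_comm]
      rw [h3] at h1
      simpa using h1
    have hP'n : Nondeg (H955.res Q P') := by
      rw [nondeg_res_iff]
      intro u hu huv
      obtain ⟨a, b, rfl⟩ := Submodule.mem_span_pair.1 hu
      have e1 := huv w hwP
      have e2 := huv (x w) hxwP
      rw [polar_add_left, polar_smul_left, polar_smul_left, hww, hxw', smul_eq_mul, smul_eq_mul,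
        mul_zero, add_zero] at e1
      rw [polar_add_left, polar_smul_left, polar_smul_left, hxw, hxxw, smul_eq_mul, smul_eq_mul,
        mul_zero, zero_add] at e2
      rw [(mul_eq_zero.1 e1).resolve_right h2, (mul_eq_zero.1 e2).resolve_right h2]
      simp
    have hP'x : Inv x P' := by
      intro u hu
      obtain ⟨a, b, rfl⟩ := Submodule.mem_span_pair.1 hu
      rw [map_add, map_smul, map_smul, hxx]
      refine Submodule.mem_span_pair.2 ⟨-b, a, ?_⟩
      module
    -- the `M`-invariant plane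
    obtain ⟨v, hPn, hPd, hPP⟩ := h.exists_plane h2 hns (by omega) (IsPlus (H955.res Q P'))
    obtain ⟨g, hg, hgP⟩ := exists_move h.nd hev hP'n hPn (by rw [hP'd]; exact even_two)
      (by omega) hPP.symm
    set P := plJ M v with hP
    set x₁ := g * x * g⁻¹ with hx₁
    have hx₁O : x₁ ∈ O Q := mul_mem (mul_mem hg hx) (inv_mem hg)
    have hx₁v : ∀ u, x₁ u = g (x (g.symm u)) := fun u => rfl
    have hx₁x : ∀ u, x₁ (x₁ u) = - u := by
      intro u
      rw [hx₁v, hx₁v, LinearEquiv.symm_apply_apply, hxx, map_neg, LinearEquiv.apply_symm_apply]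
    have hx₁P : Inv x₁ P := by
      intro u hu
      rw [← hgP] at hu
      obtain ⟨u', hu', rfl⟩ := hu
      change g (x (g.symm (g u'))) ∈ P
      rw [LinearEquiv.symm_apply_apply, ← hgP]
      exact ⟨x u', hP'x u' hu', rfl⟩
    have hx₁p := inv_perp hx₁O hx₁P
    have hpn := nondeg_perp h.nd hPn
    have hpd := finrank_add_perp h.nd P
    have hPi : ∀ w ∈ P, M w ∈ P := h.plJ_inv v
    have hpi : ∀ w ∈ perp Q P, M w ∈ perp Q P := h.perp_inv hPi
    obtain ⟨y₂, hy₂, hy₂y, hy₂M, -⟩ := ih (h.res hpi hpn) (by omega)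
      ⟨resT x₁ (perp Q P) hx₁p, resT_mem_O hx₁O hx₁p, fun u => Subtype.ext (hx₁x (u : V))⟩
    have hy₁ := resT_mem_O hx₁O hx₁P
    have hy₁y : ∀ u, resT x₁ P hx₁P (resT x₁ P hx₁P u) = - u := fun u => Subtype.ext (hx₁x (u : V))
    have hy₁M := (h.res hPi hPn).plane_anti h2 hns hPd hy₁ hy₁y
    refine ⟨glue hPn (resT x₁ P hx₁P, y₂), (glue_mem_O hPn).2 ⟨hy₁, hy₂⟩, ?_, ?_, P, hPn, hPd,
      hPi, ?_⟩
    · intro u
      obtain ⟨a, b, rfl⟩ := exists_add_perp hPn u
      rw [glue_apply, glue_apply, hy₁y, hy₂y]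
      change -(a : V) + -(b : V) = _
      abel
    · intro u
      obtain ⟨a, b, rfl⟩ := exists_add_perp hPn u
      have e1 : M ((a : V) + (b : V)) = ((M.restrict hPi a : P) : V) +
        ((M.restrict hpi b : perp Q P) : V) := by rw [map_add]; rfl
      rw [e1, glue_apply, glue_apply, hy₁M, hy₂M, map_add]
      change - M _ + - M _ = _
      abel
    · intro u hu
      have := glue_left hPn (resT x₁ P hx₁P, y₂) ⟨u, hu⟩
      change glue hPn (resT x₁ P hx₁P, y₂) u = _ at this
      rw [this]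
      exact Subtype.mem _

/-- **elements of square `-1` in `Ω(V)`** -/
theorem QM.anti {V : Type v} [AddCommGroup V] [Module F V]
    [FiniteDimensional F V] {Q : QuadraticForm F V} {M : V →ₗ[F] V} {μ : F} (h : QM Q M μ)
    (h2 : (2 : F) ≠ 0) (hns : ¬ IsSquare μ) (hG : Good Q) (hev : Even (finrank F V))
    {x : V ≃ₗ[F] V} (hx : x ∈ E Q) (hxx : ∀ v, x (x v) = - v) :
    ∃ g ∈ E Q, ∀ v, (g * x * g⁻¹) (M v) = - M ((g * x * g⁻¹) v) := by
  have hdim := hG.dim
  obtain ⟨m, hm⟩ := hev
  obtain ⟨y, hy, hyy, hyM, P, hPn, hPd, hPi, hyP⟩ := QM.exists_anti h2 hns (m - 1) h (by omega)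
    ⟨x, E_le_O hx, hxx⟩
  obtain ⟨g, hg, hgx⟩ := exists_conj_neg_O h2 h.nd (E_le_O hx) hy hxx hyy
  obtain ⟨r, hr, w, hw, hgrw⟩ := exists_refl_mul hG (P := P) (fun c => by
    obtain ⟨⟨v, hv⟩, hvc⟩ := exists_value h2 hPn (by omega) c
    exact ⟨v, hv, hvc⟩) hg
  refine ⟨w, hw, ?_⟩
  have hrO := reflGrp_le_O P hr
  have e1 : w * x * w⁻¹ = r⁻¹ * y * r := by
    rw [← hgx, hgrw]
    group
  rw [e1]
  obtain ⟨hst1, hst2⟩ := reflGrp_stab hr
  set z := r⁻¹ * y * r with hz
  have hzO : z ∈ O Q := mul_mem (mul_mem (inv_mem hrO) hy) hrO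
  have hzv : ∀ u, z u = r.symm (y (r u)) := fun u => rfl
  have hzz : ∀ u, z (z u) = - u := by
    intro u
    rw [hzv, hzv, LinearEquiv.apply_symm_apply, hyy, map_neg, LinearEquiv.symm_apply_apply]
  have hzP : Inv z P := fun u hu => hst2 _ (hyP _ (hst1 u hu))
  have hyp := inv_perp hy (hyP : Inv y P)
  have hzp : ∀ u ∈ perp Q P, z u = y u := by
    intro u hu
    rw [hzv, reflGrp_fix hr u hu]
    exact reflGrp_fix (inv_mem hr) _ (hyp u hu)
  have hz1 := (h.res hPi hPn).plane_anti h2 hns hPd (resT_mem_O hzO hzP) (fun u => Subtype.ext (hzz (u : V)))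
  intro u
  obtain ⟨a, b, rfl⟩ := exists_add_perp hPn u
  have h5 : z (M (a : V)) = - M (z (a : V)) := congrArg Subtype.val (hz1 a)
  rw [map_add M, map_add, map_add, h5, hzp _ (h.perp_inv hPi b b.2), hzp _ b.2, hyM, map_add]
  abel

end Two

end Cfsg.Agent.H955
end
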