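import Mathlib
import Cfsg.Agent.H955.QM2
import Cfsg.Agent.H955.KNorm
import Cfsg.Agent.S0286
set_option linter.all false

/-!
# Odd-dimensional spaces, the type of a trace form, Siegel elements
-/

set_option autoImplicit false

namespace Cfsg.Agent.H955

open Module QuadraticMap Cfsg.Agent.LieClassical.OrthCore Cfsg.Agent.LieClassical.OrthTrans
open Cfsg.Agent.LieClassical.OrthFinite Cfsg.Agent.LieClassical.QuadForms

universe u v w

section Odd

variable {F : Type u} [Field F] [Finite F]

theorem odd_card (h2 : (2 : F) ≠ 0) : Odd (Nat.card F) := by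
  have := Fintype.ofFinite F
  rw [Nat.card_eq_fintype_card]
  apply Nat.odd_iff.2
  apply FiniteField.odd_card_of_char_ne_two
  intro hch
  have h6 := ringChar.Nat.cast_ringChar (R := F)
  rw [hch] at h6
  exact h2 (by exact_mod_cast h6)

/-- nondegenerate spaces of odd dimension, characteristic not two -/
theorem exists_odd_equiv (m : ℕ) : ∀ {V : Type v} [AddCommGroup V] [Module F V]
    [FiniteDimensional F V] (Q : QuadraticForm F V), Nondeg Q → finrank F V = 2 * m + 1 →
    ∃ c : F, c ≠ 0 ∧ ∃ e : V ≃ₗ[F] (Unit ⊕ (Fin m ⊕ Fin m) → F), ∀ v,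
      c * oddForm m F (e v) = Q v := by
  induction m with
  | zero =>
    intro V _ _ _ Q hQ hd
    obtain ⟨w, hw⟩ := exists_nonsingular hQ (by omega)
    have hw0 : w ≠ 0 := by
      rintro rfl
      exact hw (QuadraticMap.map_zero Q)
    let e0 : (Unit ⊕ (Fin 0 ⊕ Fin 0) → F) →ₗ[F] V :=
      (LinearMap.proj (R := F) (φ := fun _ : Unit ⊕ (Fin 0 ⊕ Fin 0) => F) (.inl ())).smulRight w
    have he0 : ∀ u, e0 u = u (.inl ()) • w := fun _ => rfl
    have hinj : Function.Injective e0 := by
      intro a b hab
      have h3 : (a (.inl ()) - b (.inl ())) • w = 0 := by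
        rw [sub_smul, ← he0, ← he0, hab, sub_self]
      have h4 := sub_eq_zero.1 ((smul_eq_zero.1 h3).resolve_right hw0)
      funext i
      rcases i with i | i | i
      · exact h4
      · exact i.elim0
      · exact i.elim0
    have hfr : finrank F (Unit ⊕ (Fin 0 ⊕ Fin 0) → F) = finrank F V := by
      rw [hd, Module.finrank_fintype_fun_eq_card]
      rfl
    let e := LinearMap.linearEquivOfInjective e0 hinj hfr
    refine ⟨Q w, hw, e.symm, fun v => ?_⟩
    obtain ⟨u, rfl⟩ := e.surjective v
    rw [LinearEquiv.symm_apply_apply]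
    have : e u = u (.inl ()) • w := rfl
    rw [this, QuadraticMap.map_smul, oddForm_apply, plusForm_apply]
    simp [mul_comm]
  | succ m ih =>
    intro V _ _ _ Q hQ hd
    obtain ⟨x, hx0, hx⟩ := exists_singular Q (by omega)
    obtain ⟨y, h⟩ := Cfsg.Agent.LieClassical.OrthTrans.exists_hyp hQ hx hx0
    have h4 := finrank_hperp h
    obtain ⟨c, hc, e, he⟩ := ih (res Q (hperp Q x y)) (nondeg_hperp hQ h) (by omega)
    let s : (F × F) ≃ₗ[F] (F × F) :=
      LinearEquiv.prodCongr (LinearEquiv.refl F F) (LinearEquiv.smulOfNeZero F F c⁻¹ (inv_ne_zero hc))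
    refine ⟨c, hc, (hypEquiv h).symm.trans ((LinearEquiv.prodCongr e s).trans
      (oddStep m F)), fun v => ?_⟩
    obtain ⟨p, rfl⟩ := (hypEquiv h).surjective v
    rw [Q_hypEquiv, LinearEquiv.trans_apply, LinearEquiv.trans_apply,
      LinearEquiv.symm_apply_apply]
    change c * oddForm (m + 1) F (oddStep m F (e p.1, p.2.1, c⁻¹ * p.2.2)) = _
    rw [oddForm_oddStep, mul_add, he]
    change Q (p.1 : V) + _ = _
    congr 1
    field_simp

/-- the order of the isometry group in odd dimension -/
theorem card_O_odd (h2 : (2 : F) ≠ 0) {V : Type v} [AddCommGroup V] [Module F V]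
    [FiniteDimensional F V] {Q : QuadraticForm F V} (hQ : Nondeg Q) {m : ℕ}
    (hd : finrank F V = 2 * m + 1) :
    Nat.card (O Q) = 2 * Nat.card F ^ (m ^ 2) *
      ∏ i ∈ Finset.range m, (Nat.card F ^ (2 * (i + 1)) - 1) := by
  have := Fintype.ofFinite F
  obtain ⟨c, hc, e, he⟩ := exists_odd_equiv m Q hQ hd
  have he' : ∀ v, (c • oddForm m F) (e v) = Q v := he
  have hO : O (c • oddForm m F) = O (oddForm m F) := by
    ext g
    rw [mem_O, mem_O]
    refine forall_congr' fun v => ?_
    change c * oddForm m F (g v) = c * oddForm m F v ↔ _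
    exact mul_right_inj' hc
  have hodd := odd_card h2
  rw [Nat.card_congr (OEquiv e he').toEquiv, hO,
    ← Nat.card_congr (isometryEquiv (oddForm m F)).toEquiv, coe_oddForm]
  exact Cfsg.Agent.S0286.result (Nat.card_eq_fintype_card (α := F)).symm hodd m

end Odd

section TypeL

variable {F : Type u} [Field F] [Finite F] {L : Type w} [Field L] [Algebra F L]
  {V : Type v} [AddCommGroup V] [Module F V] [Module L V] [IsScalarTower F L V]

omit [Finite F] in
theorem smul_form_props {V : Type v} [AddCommGroup V] [Module F V] {Q : QuadraticForm F V} {c : F}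
    (hc : c ≠ 0) : (Nondeg (c • Q) ↔ Nondeg Q) ∧ (IsPlus (c • Q) ↔ IsPlus Q) := by
  have hp : ∀ u v, polar (c • Q) u v = c * polar Q u v := fun u v => by
    simp only [polar, _root_.smul_apply, smul_eq_mul]
    ring
  constructor
  · refine forall_congr' fun x => ?_
    have : (∀ y, polar (c • Q) x y = 0) ↔ ∀ y, polar Q x y = 0 := by
      refine forall_congr' fun y => ?_
      rw [hp, mul_eq_zero, or_iff_right hc]
    rw [this]
  · refine exists_congr fun U => and_congr_left fun _ => ?_
    refine forall_congr' fun x => forall_congr' fun _ => ?_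
    rw [_root_.smul_apply, smul_eq_mul, mul_eq_zero, or_iff_right hc]

/-- **the type of the trace form** -/
theorem isPlus_trace_iff [FiniteDimensional F V] (hL : finrank F L = 2) {t : L →ₗ[F] F} (ht0 : t ≠ 0)
    {Q : QuadraticForm F V} {Qg : QuadraticForm L V} (hQt : ∀ v, Q v = t (Qg v))
    (hQ : Nondeg Q) (hQg : Nondeg Qg) {e : ℕ} (hd : finrank L V = 2 * e) :
    IsPlus Q ↔ IsPlus Qg := by
  have hfL : FiniteDimensional F L := Module.finite_of_finrank_pos (by omega)
  have hfLV : FiniteDimensional L V := finiteDimensional_L (F := F)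
  have hLf : Finite L := Module.finite_of_finite F
  have hVf : Finite V := Module.finite_of_finite F
  have hLc : Nat.card L = Nat.card F ^ 2 := by
    rw [Module.natCard_eq_pow_finrank (K := F) (V := L), hL]
  have hdF : finrank F V = 2 * (2 * e) := by
    rw [← Module.finrank_mul_finrank F L V, hL, hd]
  obtain ⟨q, hq⟩ : ∃ q, q = Nat.card F := ⟨_, rfl⟩
  have hq0 : 0 < q := by rw [hq]; exact Nat.card_pos
  -- the fibre
  have htc : ∃ c0, t c0 = 1 := by
    obtain ⟨x, hx⟩ : ∃ x, t x ≠ 0 := by
      by_contra hcon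
      push Not at hcon
      exact ht0 (LinearMap.ext hcon)
    exact ⟨(t x)⁻¹ • x, by rw [map_smul, smul_eq_mul, inv_mul_cancel₀ hx]⟩
  obtain ⟨c0, hc0⟩ := htc
  have hfib : Nat.card {c : L // t c = 1} = q := by
    have e1 : {c : L // t c = 1} ≃ LinearMap.ker t :=
      { toFun := fun c => ⟨c.1 - c0, by rw [LinearMap.mem_ker, map_sub, c.2, hc0, sub_self]⟩
        invFun := fun k => ⟨k.1 + c0, by rw [map_add, LinearMap.mem_ker.1 k.2, hc0, zero_add]⟩
        left_inv := fun c => Subtype.ext (sub_add_cancel _ _)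
        right_inv := fun k => Subtype.ext (add_sub_cancel_right _ _) }
    have h3 := LinearMap.finrank_range_add_finrank_ker t
    have h4 : LinearMap.range t = ⊤ := by
      rw [LinearMap.range_eq_top]
      intro y
      exact ⟨y • c0, by rw [map_smul, hc0, smul_eq_mul, mul_one]⟩
    rw [h4, finrank_top, Module.finrank_self, hL] at h3
    have h5 : finrank F (LinearMap.ker t) = 1 := by omega
    rw [Nat.card_congr e1, Module.natCard_eq_pow_finrank (K := F) (V := LinearMap.ker t), h5,
      pow_one, hq]
  have hsum : Nat.card {v : V // Q v = 1} =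
      Nat.card (Σ c : {c : L // t c = 1}, {v : V // Qg v = c.1}) :=
    Nat.card_congr
      { toFun := fun v => ⟨⟨Qg v.1, by rw [← hQt]; exact v.2⟩, ⟨v.1, rfl⟩⟩
        invFun := fun s => ⟨s.2.1, by rw [hQt, s.2.2]; exact s.1.2⟩
        left_inv := fun v => rfl
        right_inv := by
          rintro ⟨⟨c, hc⟩, ⟨v, hv⟩⟩
          change Qg v = c at hv
          subst hv
          rfl }
  have := Fintype.ofFinite {c : L // t c = 1}
  rw [Nat.card_sigma] at hsum
  have hcc : ∀ c : {c : L // t c = 1}, c.1 ≠ 0 := by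
    rintro ⟨c, hc⟩ rfl
    rw [map_zero] at hc
    exact zero_ne_one hc
  have hNc : ∀ c : {c : L // t c = 1}, Nat.card {v : V // Qg v = c.1} =
      Nat.card {v : V // (c.1⁻¹ • Qg) v = 1} := by
    intro c
    refine Nat.card_congr (Equiv.subtypeEquivRight fun v => ?_)
    rw [_root_.smul_apply, smul_eq_mul, inv_mul_eq_one₀ (hcc c), eq_comm]
  have hcard : Fintype.card {c : L // t c = 1} = q := by
    rw [← Nat.card_eq_fintype_card, hfib]
  have hqe : 0 < q ^ (2 * e) := pow_pos hq0 _
  -- the two cases
  by_cases hP : IsPlus Qg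
  · rw [iff_true_right hP]
    by_contra hcon
    have h3 := card_eq_one_of_not_isPlus hQ hdF hcon
    have h4 : ∀ c : {c : L // t c = 1}, Nat.card L * Nat.card {v : V // Qg v = c.1} +
        Nat.card L ^ e = Nat.card L ^ (2 * e) := by
      intro c
      rw [hNc]
      exact card_eq_one_of_isPlus ((smul_form_props (inv_ne_zero (hcc c))).1.2 hQg) hd
        ((smul_form_props (inv_ne_zero (hcc c))).2.2 hP)
    have h5 : ∑ c : {c : L // t c = 1}, (Nat.card L * Nat.card {v : V // Qg v = c.1} +
        Nat.card L ^ e) = q * Nat.card L ^ (2 * e) := by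
      rw [Finset.sum_congr rfl (fun c _ => h4 c), Finset.sum_const, Finset.card_univ, hcard,
        smul_eq_mul]
    rw [Finset.sum_add_distrib, ← Finset.mul_sum, ← hsum, Finset.sum_const, Finset.card_univ, hcard,
      smul_eq_mul, hLc, ← hq] at h5
    rw [← hq] at h3
    have h6 : q * (q * Nat.card {v : V // Q v = 1} + q ^ (2 * e)) = q * (q ^ (2 * (2 * e))) := by
      calc _ = q ^ 2 * Nat.card {v : V // Q v = 1} + q * (q ^ 2) ^ e := by
            rw [← pow_mul]; ring
        _ = _ := h5
        _ = _ := by rw [← pow_mul]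
    have h7 := Nat.eq_of_mul_eq_mul_left hq0 h6
    omega
  · rw [iff_false_right hP]
    intro hcon
    have h3 := card_eq_one_of_isPlus hQ hdF hcon
    have h4 : ∀ c : {c : L // t c = 1}, Nat.card L * Nat.card {v : V // Qg v = c.1} =
        Nat.card L ^ (2 * e) + Nat.card L ^ e := by
      intro c
      rw [hNc]
      exact card_eq_one_of_not_isPlus ((smul_form_props (inv_ne_zero (hcc c))).1.2 hQg) hd
        (fun h => hP ((smul_form_props (inv_ne_zero (hcc c))).2.1 h))
    have h5 : ∑ c : {c : L // t c = 1}, (Nat.card L * Nat.card {v : V // Qg v = c.1}) =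
        q * (Nat.card L ^ (2 * e) + Nat.card L ^ e) := by
      rw [Finset.sum_congr rfl (fun c _ => h4 c), Finset.sum_const, Finset.card_univ, hcard,
        smul_eq_mul]
    rw [← Finset.mul_sum, ← hsum, hLc, ← hq] at h5
    rw [← hq] at h3
    have h6 : q * (q * Nat.card {v : V // Q v = 1}) = q * (q ^ (2 * (2 * e)) + q ^ (2 * e)) := by
      calc _ = q ^ 2 * Nat.card {v : V // Q v = 1} := by ring
        _ = _ := h5
        _ = _ := by rw [← pow_mul, ← pow_mul]
    have h7 := Nat.eq_of_mul_eq_mul_left hq0 h6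
    omega

end TypeL

section Siegel

variable {F : Type u} [Field F] {V : Type v} [AddCommGroup V] [Module F V] {Q : QuadraticForm F V}

/-- an isometry with totally singular commutator space of dimension two does not commute with
`M` -/
theorem QM.not_comm_of_tsing [FiniteDimensional F V] {M : V →ₗ[F] V} {μ : F} (h : QM Q M μ)
    (h2 : (2 : F) ≠ 0)
    (hns : ¬ IsSquare μ) {T : V ≃ₗ[F] V} (hT : T ∈ O Q) (hs : ∀ w ∈ comS T, Q w = 0)
    (hd : finrank F (comS T) = 2) (hTM : ∀ v, T (M v) = M (T v)) : False := by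
  have hpol : ∀ u v, polar Q (T u - u) v = - polar Q u (T v - v) := by
    intro u v
    have h3 := polar_map hT u v
    have h4 := polar_eq_zero_of_tsing hs (sub_mem_comS T u) (sub_mem_comS T v)
    have e1 : T u = (T u - u) + u := by abel
    have e2 : T v = (T v - v) + v := by abel
    rw [e1, e2, polar_add_left, polar_add_right, polar_add_right, h4] at h3
    linear_combination h3
  have hcomm : ∀ u v, polar Q u v = polar Q v u := fun u v => by rw [polar_comm]
  have hMN : ∀ v, M (T v - v) = T (M v) - M v := fun v => by rw [map_sub, hTM]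
  have hz1 : ∀ v, polar Q (T v - v) v = 0 := by
    intro v
    have h3 := hpol v v
    rw [hcomm v] at h3
    have h4 : 2 * polar Q (T v - v) v = 0 := by linear_combination h3
    exact (mul_eq_zero.1 h4).resolve_left h2
  have hz2 : ∀ v, polar Q (M (T v - v)) v = 0 := by
    intro v
    have h3 := hpol (M v) v
    rw [← hMN, h.sa, hcomm (M v)] at h3
    rw [h.sa]
    have h4 : 2 * polar Q (T v - v) (M v) = 0 := by linear_combination h3
    exact (mul_eq_zero.1 h4).resolve_left h2
  -- a moved vector
  obtain ⟨w, hw⟩ : ∃ w, T w - w ≠ 0 := by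
    by_contra hcon
    push Not at hcon
    have : comS T = ⊥ := by
      rw [Submodule.eq_bot_iff]
      intro x hx
      obtain ⟨v, rfl⟩ := mem_comS.1 hx
      exact hcon v
    rw [this, finrank_bot] at hd
    omega
  have hspan : ∀ w, T w - w ≠ 0 → Submodule.span F {T w - w, M (T w - w)} = comS T := by
    intro w hw
    apply Submodule.eq_of_le_of_finrank_eq
    · rw [Submodule.span_le]
      rintro x (rfl | rfl)
      · exact sub_mem_comS T w
      · rw [hMN]
        exact sub_mem_comS T (M w)
    · rw [hd]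
      have hli : LinearIndependent F ![T w - w, M (T w - w)] := by
        rw [LinearIndependent.pair_iff]
        intro a b hab
        by_cases hb : b = 0
        · rw [hb, zero_smul, add_zero] at hab
          exact ⟨(smul_eq_zero.1 hab).resolve_right hw, hb⟩
        · exfalso
          apply hns
          have h3 : M (T w - w) = (- b⁻¹ * a) • (T w - w) := by
            have h4 : b • M (T w - w) = - (a • (T w - w)) := by
              rw [eq_neg_iff_add_eq_zero, add_comm]
              exact hab
            calc M (T w - w) = b⁻¹ • (b • M (T w - w)) := by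
                  rw [smul_smul, inv_mul_cancel₀ hb, one_smul]
              _ = _ := by rw [h4, smul_neg, smul_smul, neg_mul, neg_smul]
          have h4 := h.sq (T w - w)
          rw [h3, map_smul, h3, smul_smul] at h4
          refine ⟨- b⁻¹ * a, ?_⟩
          have h5 : (μ - (- b⁻¹ * a) * (- b⁻¹ * a)) • (T w - w) = 0 := by
            rw [sub_smul, ← h4, sub_self]
          exact sub_eq_zero.1 ((smul_eq_zero.1 h5).resolve_right hw)
      have := finrank_span_eq_card hli
      rw [Matrix.range_cons, Matrix.range_cons, Matrix.range_empty, Set.union_empty] at this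
      exact this
  have hperp : ∀ w, T w - w ≠ 0 → ∀ x ∈ comS T, polar Q x w = 0 := by
    intro w hw x hx
    rw [← hspan w hw, Submodule.mem_span_pair] at hx
    obtain ⟨a, b, rfl⟩ := hx
    rw [polar_add_left, polar_smul_left, polar_smul_left, hz1, hz2, smul_zero, smul_zero, add_zero]
  apply hw
  apply h.nd
  intro v
  by_cases hv : T v - v = 0
  · have h3 : T (v + w) - (v + w) = T w - w := by
      rw [map_add, sub_eq_zero.1 hv]
      abel
    have h4 := hperp (v + w) (by rw [h3]; exact hw) _ (sub_mem_comS T w)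
    rwa [polar_add_right, hperp w hw _ (sub_mem_comS T w), add_zero] at h4
  · exact hperp v hv _ (sub_mem_comS T w)

/-- existence of such an isometry in `E Q` -/
theorem exists_siegel_two (hG : Good Q) {r : ℕ} (hr : (r : F) = 0) : ∃ T ∈ E Q, T ^ r = 1 ∧
    (∀ w ∈ comS T, Q w = 0) ∧ finrank F (comS T) = 2 := by
  obtain ⟨x, y, hxy⟩ := hG.exists_hyp
  obtain ⟨z, w, hzw, hxz, hxw, hyz, hyw⟩ := hG.exists_hyp2 hxy
  have hpow : ∀ n : ℕ, siegel Q x z hxy.left hxz ^ n =
      siegel Q x ((n : F) • z) hxy.left (by rw [polar_smul_right, hxz, smul_zero]) := by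
    intro n
    induction n with
    | zero =>
      ext v
      rw [pow_zero, siegel_apply]
      simp
    | succ n ih =>
      rw [pow_succ, ih, siegel_mul]
      · congr 1
        push_cast
        rw [add_smul, one_smul]
      · rw [polar_add_right, polar_smul_right, hxz, smul_zero, add_zero]
  have hcom : comS (siegel Q x z hxy.left hxz) = Submodule.span F {x, z} := by
    apply le_antisymm
    · intro u hu
      obtain ⟨v, rfl⟩ := mem_comS.1 hu
      rw [siegel_apply]
      refine Submodule.mem_span_pair.2 ⟨- polar Q z v, polar Q x v, ?_⟩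
      rw [hzw.left, zero_mul, zero_smul]
      module
    · rw [Submodule.span_le]
      rintro u (rfl | rfl)
      · refine mem_comS.2 ⟨-w, ?_⟩
        rw [siegel_apply, polar_neg_right, polar_neg_right, hxw, hzw.pair, hzw.left]
        simp
      · refine mem_comS.2 ⟨y, ?_⟩
        rw [siegel_apply, hxy.pair, hzw.left, polar_zero_of_comm hyz]
        simp
  refine ⟨siegel Q x z hxy.left hxz, siegel_mem_E _ _, ?_, ?_, ?_⟩
  · rw [hpow]
    ext v
    rw [siegel_apply, hr]
    simp
  · intro u hu
    rw [hcom, Submodule.mem_span_pair] at hu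
    obtain ⟨a, b, rfl⟩ := hu
    rw [Q_add, QuadraticMap.map_smul, QuadraticMap.map_smul, polar_smul_left, polar_smul_right,
      hxz, hxy.left, hzw.left]
    simp
  · rw [hcom]
    have hli : LinearIndependent F ![x, z] := by
      rw [LinearIndependent.pair_iff]
      intro a b hab
      constructor
      · have h3 := congrArg (fun u => polar Q u y) hab
        simpa [polar_add_left, polar_smul_left, hxy.pair, polar_zero_of_comm hyz] using h3
      · have h3 := congrArg (fun u => polar Q u w) hab
        simpa [polar_add_left, polar_smul_left, hzw.pair, hxw] using h3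
    have := finrank_span_eq_card hli
    rw [Matrix.range_cons, Matrix.range_cons, Matrix.range_empty, Set.union_empty] at this
    exact this

end Siegel

section StructL

variable {F : Type u} [Field F] {V : Type v} [AddCommGroup V] [Module F V] {Q : QuadraticForm F V}
  {M : V →ₗ[F] V} {μ : F}

/-- **the structure over the quadratic extension** -/
theorem QM.exists_L [FiniteDimensional F V] (h : QM Q M μ) (h2 : (2 : F) ≠ 0)
    (hns : ¬ IsSquare μ) :
    ∃ (L : Type u) (_ : Field L) (_ : Algebra F L) (_ : Module L V) (_ : IsScalarTower F L V)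
      (t : L →ₗ[F] F) (Qg : QuadraticForm L V), finrank F L = 2 ∧ t ≠ 0 ∧
      (∀ v, Q v = t (Qg v)) ∧ (∀ u v, polar Q u v = t (polar Qg u v)) ∧ Nondeg Qg ∧
      (2 : L) ≠ 0 ∧ (∃ l : L, ∀ v, M v = l • v) ∧
      (∀ f : V →ₗ[F] V, (∀ v, f (M v) = M (f v)) → ∀ (a : L) (v : V), f (a • v) = a • f v) := by
  obtain ⟨L, _, _, l, φ, hL, hl, hφ⟩ := exists_ext hns h.sq
  let _ : Module L V := Module.compHom V (φ : L →+* Module.End F V)
  have hsm : ∀ (a : L) (v : V), a • v = φ a v := fun _ _ => rfl
  have : IsScalarTower F L V := ⟨fun c a v => by rw [hsm, hsm, map_smul]; rfl⟩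
  have hlM : ∀ v, M v = l • v := fun v => by rw [hsm, hφ]
  have hfL : FiniteDimensional F L := Module.finite_of_finrank_pos (by omega)
  obtain ⟨t, ht⟩ := exists_t (F := F) hns hl
  have ht0 : t ≠ 0 := by
    rintro rfl
    have := ht 1 0
    simp at this
  have hsa : ∀ (a : L) (u v : V), polar Q (a • u) v = polar Q u (a • v) := by
    intro a u v
    obtain ⟨x, y, rfl⟩ := exists_coord hns hL hl a
    simp only [add_smul, algebraMap_smul, smul_assoc, ← hlM, polar_add_left, polar_add_right,
      polar_smul_left, polar_smul_right, h.sa]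
  obtain ⟨Qg, hQ, hpol⟩ := exists_qform h2 Q hsa ht0
  have hQg : Nondeg Qg := fun x hx => h.nd x fun y => by rw [hpol, hx, map_zero]
  refine ⟨L, _, _, inferInstance, this, t, Qg, hL, ht0, hQ, hpol, hQg, two_ne_zero_L h2,
    ⟨l, hlM⟩, ?_⟩
  intro f hf a v
  obtain ⟨x, y, rfl⟩ := exists_coord hns hL hl a
  simp only [add_smul, algebraMap_smul, smul_assoc, ← hlM, map_add, map_smul, hf]

/-- **commuting elements of odd order have commutator spaces of dimension divisible by four** -/
theorem QM.four_dvd [FiniteDimensional F V] (h : QM Q M μ) (h2 : (2 : F) ≠ 0)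
    (hns : ¬ IsSquare μ) {T : V ≃ₗ[F] V} (hT : T ∈ O Q) {r : ℕ} (hro : Odd r)
    (hrF : (r : F) ≠ 0) (hTr : T ^ r = 1) (hTM : ∀ v, T (M v) = M (T v)) :
    4 ∣ finrank F (comS T) := by
  obtain ⟨L, _, _, _, _, t, Qg, hL, ht0, hQ, hpol, hQg, h2L, hl, hlin⟩ := h.exists_L h2 hns
  have hfL : FiniteDimensional F L := Module.finite_of_finrank_pos (by omega)
  have : FiniteDimensional L V := finiteDimensional_L (F := F)
  have hTa : ∀ (a : L) (v : V), T (a • v) = a • T v := hlin (T : V →ₗ[F] V) hTM
  have hst := comS_stable (L := L) hTa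
  let TL : V ≃ₗ[L] V := T.toAddEquiv.toLinearEquiv hTa
  have hTL : ∀ v, TL v = T v := fun _ => rfl
  have hTLn : ∀ (n : ℕ) (v : V), (TL ^ n) v = (T ^ n) v := by
    intro n
    induction n with
    | zero => intro v; rfl
    | succ n ih =>
      intro v
      rw [pow_succ, pow_succ, LinearEquiv.mul_apply, LinearEquiv.mul_apply, ih, hTL]
  have hnd : NdOn (polarBilin Q) (comS T) := ndOn_polar_iff.2 (nondeg_comS h.nd hT hrF hTr)
  have hpb : ∀ u v, polarBilin Q u v = t (polarBilin Qg u v) := hpol
  have hndL : NdOn (polarBilin Qg) (toL (comS T) hst) := (gform_ndOn ht0 hpb).2 hnd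
  have hBL : ∀ u v, polarBilin Qg (TL u) (TL v) = polarBilin Qg u v := by
    intro u v
    apply eq_of_functional ht0
    intro a
    change t (a * polar Qg (T u) (T v)) = t (a * polar Qg u v)
    rw [← smul_eq_mul, ← smul_eq_mul, ← polar_smul_left, ← polar_smul_left, ← hpol, ← hpol, ← hTa,
      polar_map hT]
  have hTLr : TL ^ r = 1 := by
    ext v
    rw [hTLn, hTr]
    rfl
  have hev : Even (finrank L (toL (comS T) hst)) :=
    even_of_symm (B := polarBilin Qg) (T := TL) (fun u v => polar_comm Qg u v) hBL hro hTLr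
      (fun w hw => inv_comS T w hw) hndL (fun w hw hw' => free_comS hrF hTr w hw hw')
  rw [← finrank_toL (L := L) (comS T) hst, hL]
  obtain ⟨k, hk⟩ := hev
  rw [hk]
  exact ⟨k, by ring⟩

end StructL

end Cfsg.Agent.H955
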